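import Cfsg.Agent.H786.Core
import Cfsg.Agent.H767.EssFrat
import Mathlib
set_option linter.all false

-- part: H779/CoreBase
section
/-!
# Automorphisms of the maximal subgroup `W 1` of a group of maximal class (helper779, part of S5267)

* `class_of_inv` : the subgroups of `W 1` invariant under conjugation by `P` are the `W j`;
* `pres` : an automorphism normalizing `conjGrp (W 1)` preserves all `W i`;
* `triv_of_centralizes` : an automorphism of `W 1` (nonabelian) commuting with conjugation by `s ∉ W 1` modulo inner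
  automorphisms acts trivially on the factors `W i / W (i + 1)`.
-/

set_option autoImplicit false
set_option linter.unusedSectionVars false

namespace Cfsg.Agent.H779.Core

open Subgroup Cfsg.Agent.H467.MaxClass Cfsg.Agent.H786
open scoped commutatorElement

universe u

variable {P : Type u} [Group P] {p n : ℕ} {W : ℕ → Subgroup P}

section chain

/-- A normal subgroup meeting `W i - W (i + 1)` contains `W i`. -/
theorem le_of_normal (h : MC P p n W) [hp : Fact p.Prime] (N : Subgroup P) (hN : N.Normal) :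
    ∀ (m i : ℕ), n - i = m → 1 ≤ i → i < n → ∀ a ∈ N, a ∈ W i → a ∉ W (i + 1) → W i ≤ N := by
  intro m
  induction m with
  | zero => intro i hi _ hin; omega
  | succ m ih =>
    intro i hi h1 hin a haN haW haW'
    have key : W (i + 1) ≤ N := by
      rcases Nat.lt_or_ge (i + 1) n with h2 | h2
      · have h3 := h.Ksub_ne_top' h1 h2
        obtain ⟨s, hs⟩ : ∃ s, s ∉ h.Ksub i := by
          by_contra hcon
          push Not at hcon
          exact h3 (eq_top_iff.2 fun x _ => hcon x)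
        have h4 : ⁅a, s⁆ ∉ W (i + 2) := fun h5 => hs ((h.mem_K_iff hin haW haW' s).2 h5)
        refine ih (i + 1) (by omega) (by omega) h2 ⁅a, s⁆ ?_ (h.comm_mem haW) h4
        rw [commutatorElement_def, show a * s * a⁻¹ * s⁻¹ = a * (s * a⁻¹ * s⁻¹) by group]
        exact mul_mem haN (hN.conj_mem _ (inv_mem haN) s)
      · rw [h.bot_of_le h2]
        exact bot_le
    intro b hb
    obtain ⟨k, hk⟩ := h.exists_zpow hin haW haW' hb
    have : b = a ^ k * ((a ^ k)⁻¹ * b) := by group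
    rw [this]
    exact mul_mem (zpow_mem haN k) (key hk)

/-- The normal subgroups of `P` inside `W 1` are the `W j`. -/
theorem class_of_normal (h : MC P p n W) [hp : Fact p.Prime] (N : Subgroup P) (hN : N.Normal) (hN1 : N ≤ W 1) :
    ∃ j, 1 ≤ j ∧ j ≤ n ∧ N = W j := by
  classical
  have h4 := h.four_le
  have hP : ∀ j, N ≤ W j ∨ ¬ N ≤ W j := fun j => em _
  set j := Nat.findGreatest (fun j => N ≤ W j) n with hj
  have h1 : N ≤ W j := Nat.findGreatest_spec (P := fun j => N ≤ W j) (m := 1) (by omega) hN1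
  have hjn : j ≤ n := Nat.findGreatest_le n
  have hj1 : 1 ≤ j := Nat.le_findGreatest (by omega) hN1
  refine ⟨j, hj1, hjn, le_antisymm h1 ?_⟩
  rcases Nat.lt_or_ge j n with h2 | h2
  · have h3 : ¬ N ≤ W (j + 1) := by
      intro h5
      have := Nat.le_findGreatest (P := fun j => N ≤ W j) (show j + 1 ≤ n by omega) h5
      omega
    obtain ⟨a, ha, ha'⟩ := SetLike.not_le_iff_exists.1 h3
    exact le_of_normal h N hN _ j rfl hj1 h2 a ha (h1 ha) ha'
  · rw [h.bot_of_le h2]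
    exact bot_le

end chain

section aut

variable [hN1 : (W 1).Normal]

/-- the inner automorphisms -/
def inn (M : Type*) [Group M] : Subgroup (MulAut M) := (MulAut.conj : M →* MulAut M).range

theorem conjNormal_coe (x : P) (e : W 1) : ((MulAut.conjNormal (H := W 1) x e : W 1) : P) = x * e * x⁻¹ := rfl

theorem conj_eq (w : W 1) : (MulAut.conj w : MulAut (W 1)) = MulAut.conjNormal (H := W 1) (w : P) := by
  ext e; rfl

theorem inn_le_conjGrp : inn (W 1) ≤ conjGrp (W 1) := by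
  rintro _ ⟨w, rfl⟩
  exact ⟨(w : P), (conj_eq w).symm⟩

theorem conjNormal_mem_inn {w : P} (hw : w ∈ W 1) : MulAut.conjNormal (H := W 1) w ∈ inn (W 1) :=
  ⟨⟨w, hw⟩, conj_eq _⟩

omit hN1 in
/-- `P = ⟨s⟩ W 1` -/
theorem exists_zp (h : MC P p n W) [hp : Fact p.Prime] {s : P} (hs : s ∉ W 1) (x : P) :
    ∃ (k : ℤ) (w : P), w ∈ W 1 ∧ x = s ^ k * w := by
  have h4 := h.four_le
  obtain ⟨k, hk⟩ := h.exists_zpow (i := 0) (by omega) (a := s) (by rw [h.zero]; trivial) hs (b := x)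
    (by rw [h.zero]; trivial)
  exact ⟨k, _, hk, by group⟩

/-- `U` is invariant under `A`. -/
def Inv (A : Subgroup (MulAut (W 1))) (U : Subgroup (W 1)) : Prop := ∀ a ∈ A, ∀ e ∈ U, a e ∈ U

omit hN1 in
theorem AInv_iff {A : Subgroup (MulAut (W 1))} {B : Subgroup P} : AInv A B ↔ Inv A (B.subgroupOf (W 1)) := Iff.rfl

/-- The subgroups of `W 1` invariant under conjugation by `P`. -/
theorem class_of_inv (h : MC P p n W) [hp : Fact p.Prime] (U : Subgroup (W 1)) (hU : Inv (conjGrp (W 1)) U) :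
    ∃ j, 1 ≤ j ∧ j ≤ n ∧ U = (W j).subgroupOf (W 1) := by
  have hnorm : (U.map (W 1).subtype).Normal := by
    refine ⟨?_⟩
    rintro _ ⟨e, he, rfl⟩ x
    exact ⟨MulAut.conjNormal (H := W 1) x e, hU _ ⟨x, rfl⟩ e he, rfl⟩
  have hle : U.map (W 1).subtype ≤ W 1 := by
    rintro _ ⟨e, -, rfl⟩
    exact e.2
  obtain ⟨j, h1, h2, h3⟩ := class_of_normal h _ hnorm hle
  refine ⟨j, h1, h2, ?_⟩
  ext e
  rw [mem_subgroupOf, ← h3]
  constructor
  · intro he; exact ⟨e, he, rfl⟩
  · rintro ⟨e', he', h4⟩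
    have : e' = e := Subtype.ext h4
    rwa [← this]

/-- `a` normalizes the group of conjugations -/
def Nor (a : MulAut (W 1)) : Prop := ∀ x : P, ∃ y : P, a * MulAut.conjNormal (H := W 1) x * a⁻¹ =
  MulAut.conjNormal (H := W 1) y

theorem apply_conj {a : MulAut (W 1)} {x y : P}
    (hxy : a * MulAut.conjNormal (H := W 1) x * a⁻¹ = MulAut.conjNormal (H := W 1) y) (e : W 1) :
    ((a (MulAut.conjNormal (H := W 1) x e) : W 1) : P) = y * (a e : W 1) * y⁻¹ := by
  rw [← conjNormal_coe, ← hxy]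
  simp

theorem apply_comm {a : MulAut (W 1)} {x y : P}
    (hxy : a * MulAut.conjNormal (H := W 1) x * a⁻¹ = MulAut.conjNormal (H := W 1) y) {e f : W 1}
    (hf : (f : P) = ⁅(e : P), x⁆) : ((a f : W 1) : P) = ⁅((a e : W 1) : P), y⁆ := by
  have h1 : f = e * (MulAut.conjNormal (H := W 1) x e)⁻¹ := by
    apply Subtype.ext
    rw [hf, commutatorElement_def]
    show _ = (e : P) * (x * e * x⁻¹)⁻¹
    group
  rw [h1, map_mul, map_inv]
  show ((a e : W 1) : P) * ((a (MulAut.conjNormal (H := W 1) x e) : W 1) : P)⁻¹ = _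
  rw [apply_conj hxy, commutatorElement_def]
  group

/-- **Automorphisms normalizing the group of conjugations preserve the chain.** -/
theorem pres (h : MC P p n W) [hp : Fact p.Prime] {a : MulAut (W 1)} (ha : Nor a) :
    ∀ i, 1 ≤ i → ∀ e : W 1, (e : P) ∈ W i → ((a e : W 1) : P) ∈ W i := by
  intro i hi
  induction i, hi using Nat.le_induction with
  | base => intro e _; exact (a e).2
  | succ i hi ih =>
    intro e he
    rw [← h.comm_eq hi] at he
    have key : ∀ g ∈ ⁅W i, (⊤ : Subgroup P)⁆, ∀ (hg : g ∈ W 1), ((a ⟨g, hg⟩ : W 1) : P) ∈ W (i + 1) := by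
      intro g hg
      rw [Subgroup.commutator_def] at hg
      have hle : ∀ y ∈ W (i + 1), y ∈ W 1 := fun y hy => h.antitone (by omega) hy
      have hall : ∀ g ∈ closure {g : P | ∃ g₁ ∈ W i, ∃ g₂ ∈ (⊤ : Subgroup P), ⁅g₁, g₂⁆ = g},
          ∃ hg : g ∈ W 1, ((a ⟨g, hg⟩ : W 1) : P) ∈ W (i + 1) := by
        intro g hg
        induction hg using Subgroup.closure_induction with
        | mem g hg =>
          obtain ⟨g₁, hg₁, g₂, -, rfl⟩ := hg
          have h1 : ⁅g₁, g₂⁆ ∈ W 1 := hle _ (h.comm_mem hg₁)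
          refine ⟨h1, ?_⟩
          obtain ⟨y, hy⟩ := ha g₂
          have hg₁' : g₁ ∈ W 1 := h.antitone hi hg₁
          rw [apply_comm hy (e := ⟨g₁, hg₁'⟩) (f := ⟨_, h1⟩) rfl]
          exact h.comm_mem (ih ⟨g₁, hg₁'⟩ hg₁)
        | one => exact ⟨one_mem _, by
            have : (⟨1, one_mem _⟩ : W 1) = 1 := rfl
            rw [this, map_one]; exact one_mem _⟩
        | mul x y _ _ hx hy =>
          obtain ⟨hx1, hx2⟩ := hx
          obtain ⟨hy1, hy2⟩ := hy
          refine ⟨mul_mem hx1 hy1, ?_⟩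
          have : (⟨x * y, mul_mem hx1 hy1⟩ : W 1) = ⟨x, hx1⟩ * ⟨y, hy1⟩ := rfl
          rw [this, map_mul]
          exact mul_mem hx2 hy2
        | inv x _ hx =>
          obtain ⟨hx1, hx2⟩ := hx
          refine ⟨inv_mem hx1, ?_⟩
          have : (⟨x⁻¹, inv_mem hx1⟩ : W 1) = (⟨x, hx1⟩ : W 1)⁻¹ := rfl
          rw [this, map_inv]
          exact inv_mem hx2
      obtain ⟨_, h2⟩ := hall g hg
      intro _
      exact h2
    exact key (e : P) he e.2

omit hN1 in
/-- generation by natural powers -/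
theorem exists_pow (h : MC P p n W) [hp : Fact p.Prime] {i : ℕ} (hi : i < n) {a : P}
    (ha : a ∈ W i) (ha' : a ∉ W (i + 1)) {b : P} (hb : b ∈ W i) :
    ∃ k : ℕ, (a ^ k)⁻¹ * b ∈ W (i + 1) := by
  obtain ⟨k, hk⟩ := h.exists_zpow hi ha ha' hb
  have hp0 : (p : ℤ) ≠ 0 := by exact_mod_cast hp.out.ne_zero
  have h1 : a ^ p ∈ W (i + 1) := h.pow_p_mem ha
  refine ⟨(k % p).toNat, ?_⟩
  have h2 : (((k % p).toNat : ℕ) : ℤ) = k % p := Int.toNat_of_nonneg (Int.emod_nonneg _ hp0)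
  have h3 : a ^ k = a ^ (k % p).toNat * (a ^ p) ^ (k / p) := by
    rw [← zpow_natCast, ← zpow_natCast, ← zpow_mul, ← zpow_add, h2, Int.emod_add_mul_ediv]
  have h4 : (a ^ (k % p).toNat)⁻¹ * b = (a ^ p) ^ (k / p) * ((a ^ k)⁻¹ * b) := by
    rw [h3]; group
  rw [h4]
  exact mul_mem (zpow_mem h1 _) hk

/-- `a` acts on `W i / W (i + 1)` as the power `b`. -/
def Sc (W : ℕ → Subgroup P) (a : MulAut (W 1)) (i b : ℕ) : Prop :=
  ∀ e : W 1, (e : P) ∈ W i → ((e : P) ^ b)⁻¹ * ((a e : W 1) : P) ∈ W (i + 1)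

omit hN1 in
/-- One generator suffices. -/
theorem sc_of_gen (h : MC P p n W) [hp : Fact p.Prime] {a : MulAut (W 1)} {i b : ℕ} (hi : i < n)
    (hp2 : ∀ e : W 1, (e : P) ∈ W (i + 1) → ((a e : W 1) : P) ∈ W (i + 1))
    {w : W 1} (hw : (w : P) ∈ W i) (hw' : (w : P) ∉ W (i + 1))
    (hb : ((w : P) ^ b)⁻¹ * ((a w : W 1) : P) ∈ W (i + 1)) : Sc W a i b := by
  intro e he
  have hn := h.normal (i + 1)
  obtain ⟨k, hk⟩ := exists_pow h hi hw hw' he
  set u : W 1 := (w ^ k)⁻¹ * e with hu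
  have hu' : (u : P) ∈ W (i + 1) := hk
  have he' : e = w ^ k * u := by rw [hu]; group
  set q := QuotientGroup.mk' (W (i + 1)) with hq
  have hq1 : ∀ y : P, y ∈ W (i + 1) ↔ q y = 1 := fun y => (QuotientGroup.eq_one_iff y).symm
  have h1 : q ((a e : W 1) : P) = q ((a w : W 1) : P) ^ k := by
    rw [he', map_mul, map_pow, Subgroup.coe_mul, Subgroup.coe_pow, map_mul, map_pow,
      (hq1 _).1 (hp2 u hu'), mul_one]
  have h2 : q ((a w : W 1) : P) = q (w : P) ^ b := by
    have := (hq1 _).1 hb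
    rw [map_mul, map_inv, map_pow] at this
    exact (inv_mul_eq_one.1 this).symm
  have h3 : q (e : P) = q (w : P) ^ k := by
    rw [he', Subgroup.coe_mul, Subgroup.coe_pow, map_mul, map_pow, (hq1 _).1 hu', mul_one]
  rw [hq1, map_mul, map_inv, map_pow, h1, h2, h3, ← pow_mul, ← pow_mul, mul_comm, inv_mul_eq_one]

omit hN1 in
theorem exists_sc (h : MC P p n W) [hp : Fact p.Prime] {a : MulAut (W 1)} {i : ℕ} (hi1 : 1 ≤ i) (hi : i < n)
    (hp1 : ∀ e : W 1, (e : P) ∈ W i → ((a e : W 1) : P) ∈ W i)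
    (hp2 : ∀ e : W 1, (e : P) ∈ W (i + 1) → ((a e : W 1) : P) ∈ W (i + 1)) : ∃ b, Sc W a i b := by
  obtain ⟨w, hw, hw'⟩ := h.ne_succ hi
  have hw1 : w ∈ W 1 := h.antitone hi1 hw
  obtain ⟨b, hb⟩ := exists_pow h hi hw hw' (hp1 ⟨w, hw1⟩ hw)
  exact ⟨b, sc_of_gen h hi hp2 (w := ⟨w, hw1⟩) hw hw' hb⟩

omit hN1 in
/-- `s ∉ W 1` lies outside all two-step centralizers. -/
theorem notMem_Ksub' (h : MC P p n W) [hp : Fact p.Prime]
    (deg : ∀ i j, 1 ≤ i → 1 ≤ j → ⁅W i, W j⁆ ≤ W (i + j + 1)) {s : P} (hs : s ∉ W 1) {i : ℕ} (h1 : 1 ≤ i)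
    (hi : i + 1 < n) : s ∉ h.Ksub i := by
  have h2 : W 1 ≤ h.Ksub i := by
    intro x hx w hw
    exact deg i 1 h1 le_rfl (commutator_mem_commutator hw hx)
  rw [h.eq_W1 h2 (h.Ksub_ne_top' h1 hi)]
  exact hs

omit hN1 in
theorem comm_notMem (h : MC P p n W) [hp : Fact p.Prime]
    (deg : ∀ i j, 1 ≤ i → 1 ≤ j → ⁅W i, W j⁆ ≤ W (i + j + 1)) {s : P} (hs : s ∉ W 1) {i : ℕ} (h1 : 1 ≤ i)
    (hi : i + 1 < n) {a : P} (ha : a ∈ W i) (ha' : a ∉ W (i + 1)) : ⁅a, s⁆ ∉ W (i + 2) := fun h5 =>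
  notMem_Ksub' h deg hs h1 hi ((h.mem_K_iff (by omega) ha ha' s).2 h5)

/-- The scalar is propagated by commutation with `s`. -/
theorem sc_succ (h : MC P p n W) [hp : Fact p.Prime]
    (deg : ∀ i j, 1 ≤ i → 1 ≤ j → ⁅W i, W j⁆ ≤ W (i + j + 1)) {s u : P} (hs : s ∉ W 1) (hu : u ∈ W 1)
    {a : MulAut (W 1)} (ha : Nor a)
    (hc : a * MulAut.conjNormal (H := W 1) s * a⁻¹ = MulAut.conjNormal (H := W 1) (u * s))
    {i b : ℕ} (h1 : 1 ≤ i) (hi : i + 1 < n) (hsc : Sc W a i b) : Sc W a (i + 1) b := by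
  obtain ⟨w, hw, hw'⟩ := h.ne_succ (show i < n by omega)
  have hw1 : w ∈ W 1 := h.antitone h1 hw
  set f : P := ⁅w, s⁆ with hf
  have hf1 : f ∈ W (i + 1) := h.comm_mem hw
  have hf2 : f ∉ W (i + 2) := comm_notMem h deg hs h1 hi hw hw'
  have hf3 : f ∈ W 1 := h.antitone (by omega) hf1
  refine sc_of_gen h (by omega) (pres h ha (i + 2) (by omega)) (w := ⟨f, hf3⟩) hf1 hf2 ?_
  have h2 : ((a ⟨f, hf3⟩ : W 1) : P) = ⁅((a ⟨w, hw1⟩ : W 1) : P), u * s⁆ :=
    apply_comm hc (e := ⟨w, hw1⟩) (f := ⟨f, hf3⟩) rfl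
  have hn := h.normal (i + 2)
  set q := QuotientGroup.mk' (W (i + 2)) with hq
  have hq1 : ∀ y : P, y ∈ W (i + 2) ↔ q y = 1 := fun y => (QuotientGroup.eq_one_iff y).symm
  have hcen : ∀ y ∈ W (i + 1), ∀ z : P, Commute (q y) (q z) := by
    intro y hy z
    have h3 := (hq1 _).1 (h.comm_mem hy (x := z))
    rw [map_commutatorElement] at h3
    exact commutatorElement_eq_one_iff_mul_comm.1 h3
  have hA : ((a ⟨w, hw1⟩ : W 1) : P) ∈ W i := pres h ha i h1 _ hw
  set A : P := ((a ⟨w, hw1⟩ : W 1) : P) with hAdef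
  set v : P := (w ^ b)⁻¹ * A with hv
  have hv1 : v ∈ W (i + 1) := hsc ⟨w, hw1⟩ hw
  have hAv : A = w ^ b * v := by rw [hv]; group
  -- `q ⁅A, u * s⁆ = q ⁅w, s⁆ ^ b`
  have h4 : q ⁅A, u * s⁆ = ⁅q A, q s⁆ := by
    have e : ⁅A, u * s⁆ = ⁅A, u⁆ * (u * ⁅A, s⁆ * u⁻¹) := by
      simp only [commutatorElement_def]; group
    have h5 : q ⁅A, u⁆ = 1 := (hq1 _).1 (deg i 1 h1 le_rfl (commutator_mem_commutator hA hu))
    have h6 : Commute (q ⁅A, s⁆) (q u) := hcen _ (h.comm_mem hA) u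
    rw [e, map_mul, h5, one_mul, map_mul, map_mul, map_inv, ← h6.eq, mul_inv_cancel_right, map_commutatorElement]
  have h7 : ⁅q A, q s⁆ = ⁅q w ^ b, q s⁆ := by
    have h8 : Commute (q v) (q s) := hcen v hv1 s
    rw [hAv, map_mul, map_pow, commutatorElement_def, commutatorElement_def, mul_inv_rev]
    calc q w ^ b * q v * q s * ((q v)⁻¹ * (q w ^ b)⁻¹) * (q s)⁻¹
        = q w ^ b * (q v * q s * (q v)⁻¹) * (q w ^ b)⁻¹ * (q s)⁻¹ := by group
      _ = q w ^ b * q s * (q w ^ b)⁻¹ * (q s)⁻¹ := by rw [h8.eq, mul_inv_cancel_right]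
  have h9 : ⁅q w ^ b, q s⁆ = ⁅q w, q s⁆ ^ b := by
    refine comm_pow_left (fun x => ?_) b
    obtain ⟨z, rfl⟩ := QuotientGroup.mk'_surjective _ x
    have := hcen f hf1 z
    rwa [hf, map_commutatorElement] at this
  have h10 : q ((⟨f, hf3⟩ : W 1) : P) = ⁅q w, q s⁆ := map_commutatorElement q w s
  rw [hq1, map_mul, map_inv, map_pow, h2, h4, h7, h9, h10, inv_mul_cancel]

theorem pres_iff (h : MC P p n W) [hp : Fact p.Prime] [Finite P] {a : MulAut (W 1)} (ha : Nor a) {i : ℕ} (hi : 1 ≤ i)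
    (e : W 1) : ((a e : W 1) : P) ∈ W i ↔ (e : P) ∈ W i := by
  refine ⟨fun he => ?_, pres h ha i hi e⟩
  let f : (W i).subgroupOf (W 1) → (W i).subgroupOf (W 1) := fun x => ⟨a x, pres h ha i hi x x.2⟩
  have hf : Function.Injective f := by
    intro x y hxy
    exact Subtype.ext (a.injective (congrArg Subtype.val hxy))
  obtain ⟨y, hy⟩ := Finite.surjective_of_injective hf ⟨a e, he⟩
  have : (y : W 1) = e := a.injective (congrArg Subtype.val hy)
  rw [← this]
  exact y.2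

/-- **The torus is faithful on `P / W 1`.** -/
theorem triv_of_centralizes (h : MC P p n W) [hp : Fact p.Prime] [Finite P]
    (deg : ∀ i j, 1 ≤ i → 1 ≤ j → ⁅W i, W j⁆ ≤ W (i + j + 1)) (nonab : ⁅W 1, W 1⁆ ≠ ⊥)
    {s u : P} (hs : s ∉ W 1) (hu : u ∈ W 1) {a : MulAut (W 1)} (ha : Nor a)
    (hc : a * MulAut.conjNormal (H := W 1) s * a⁻¹ = MulAut.conjNormal (H := W 1) (u * s)) :
    ∀ i, 1 ≤ i → ∀ e : W 1, (e : P) ∈ W i → (e : P)⁻¹ * ((a e : W 1) : P) ∈ W (i + 1) := by
  classical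
  have h4 := h.four_le
  obtain ⟨b, hb⟩ := exists_sc h le_rfl (show 1 < n by omega) (pres h ha 1 le_rfl) (pres h ha 2 (by omega))
  have hsc : ∀ i, 1 ≤ i → i < n → Sc W a i b := by
    intro i hi
    induction i, hi using Nat.le_induction with
    | base => intro _; exact hb
    | succ i hi ih => intro hin; exact sc_succ h deg hs hu ha hc hi (by omega) (ih (by omega))
  -- a pair `(i, j)` with maximal sum
  set Q : ℕ → Prop := fun m => ∃ i j, 1 ≤ i ∧ 1 ≤ j ∧ i + j = m ∧ ⁅W i, W j⁆ ≠ ⊥ with hQ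
  have hQ2 : Q 2 := ⟨1, 1, le_rfl, le_rfl, rfl, nonab⟩
  have hQn : ∀ m, Q m → m < n := by
    rintro m ⟨i, j, h1, h2, rfl, h3⟩
    by_contra hlt
    apply h3
    rw [eq_bot_iff]
    calc ⁅W i, W j⁆ ≤ W (i + j) := h.comm_comm j i
      _ = ⊥ := h.bot_of_le (by omega)
  set m := Nat.findGreatest Q n with hm
  have hQm : Q m := Nat.findGreatest_spec (P := Q) (m := 2) (by omega) hQ2
  have hmax : ∀ i j, 1 ≤ i → 1 ≤ j → m < i + j → ⁅W i, W j⁆ = ⊥ := by
    intro i j h1 h2 h3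
    by_contra h5
    have h6 : Q (i + j) := ⟨i, j, h1, h2, rfl, h5⟩
    have := Nat.le_findGreatest (P := Q) (hQn _ h6).le h6
    omega
  obtain ⟨i, j, hi, hj, hij, hne⟩ := hQm
  obtain ⟨e, he, f, hf, hef⟩ : ∃ e ∈ W i, ∃ f ∈ W j, ⁅e, f⁆ ≠ 1 := by
    by_contra hcon
    push Not at hcon
    apply hne
    rw [eq_bot_iff, commutator_le]
    intro x hx y hy
    exact Subgroup.mem_bot.2 (hcon x hx y hy)
  set g : P := ⁅e, f⁆ with hg
  have hg1 : g ∈ W 1 := h.antitone (by omega) (h.comm_mem he)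
  -- the level of `g`
  set k := Nat.findGreatest (fun k => g ∈ W k) n with hk
  have hgk : g ∈ W k := Nat.findGreatest_spec (P := fun k => g ∈ W k) (m := 1) (by omega) hg1
  have hk1 : 1 ≤ k := Nat.le_findGreatest (by omega) hg1
  have hkn : k < n := by
    have h5 : k ≤ n := Nat.findGreatest_le n
    rcases Nat.lt_or_ge k n with h6 | h6
    · exact h6
    · exfalso
      apply hef
      rw [h.bot_of_le h6] at hgk
      exact Subgroup.mem_bot.1 hgk
  have hgk' : g ∉ W (k + 1) := by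
    intro h5
    have := Nat.le_findGreatest (P := fun k => g ∈ W k) (show k + 1 ≤ n by omega) h5
    omega
  have hn := h.normal (k + 1)
  set q := QuotientGroup.mk' (W (k + 1)) with hq
  have hq1 : ∀ y : P, y ∈ W (k + 1) ↔ q y = 1 := fun y => (QuotientGroup.eq_one_iff y).symm
  have hcen : ∀ x, Commute ⁅q e, q f⁆ x := by
    intro x
    obtain ⟨z, rfl⟩ := QuotientGroup.mk'_surjective _ x
    have h3 := (hq1 _).1 (h.comm_mem hgk (x := z))
    rw [map_commutatorElement, hg, map_commutatorElement] at h3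
    exact commutatorElement_eq_one_iff_mul_comm.1 h3
  have he1 : e ∈ W 1 := h.antitone hi he
  have hf1 : f ∈ W 1 := h.antitone hj hf
  set A : P := ((a ⟨e, he1⟩ : W 1) : P) with hA
  set B : P := ((a ⟨f, hf1⟩ : W 1) : P) with hB
  have hAB : ((a ⟨g, hg1⟩ : W 1) : P) = ⁅A, B⁆ := by
    have : (⟨g, hg1⟩ : W 1) = ⁅(⟨e, he1⟩ : W 1), (⟨f, hf1⟩ : W 1)⁆ := rfl
    rw [this, map_commutatorElement]
    rfl
  have hin : i < n := by
    by_contra hlt
    rw [h.bot_of_le (not_lt.1 hlt)] at he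
    apply hef
    rw [hg, Subgroup.mem_bot.1 he, commutatorElement_one_left]
  have hjn : j < n := by
    by_contra hlt
    rw [h.bot_of_le (not_lt.1 hlt)] at hf
    apply hef
    rw [hg, Subgroup.mem_bot.1 hf, commutatorElement_one_right]
  set u' : P := (e ^ b)⁻¹ * A with hu'
  have hu1 : u' ∈ W (i + 1) := hsc i hi hin ⟨e, he1⟩ he
  set v' : P := (f ^ b)⁻¹ * B with hv'
  have hv1 : v' ∈ W (j + 1) := hsc j hj hjn ⟨f, hf1⟩ hf
  have hAe : A = e ^ b * u' := by rw [hu']; group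
  have hBe : B = f ^ b * v' := by rw [hv']; group
  have hBj : B ∈ W j := pres h ha j hj _ hf
  have hcomm : ∀ (i j : ℕ) (x y : P), 1 ≤ i → 1 ≤ j → m < i + j → x ∈ W i → y ∈ W j → Commute x y := by
    intro i j x y h1 h2 h3 hx hy
    have h5 : ⁅x, y⁆ ∈ ⁅W i, W j⁆ := commutator_mem_commutator hx hy
    rw [hmax i j h1 h2 h3, Subgroup.mem_bot] at h5
    exact commutatorElement_eq_one_iff_mul_comm.1 h5
  have h5 : ⁅A, B⁆ = ⁅e ^ b, f ^ b⁆ := by
    have h6 : Commute u' B := hcomm (i + 1) j u' B (by omega) hj (by omega) hu1 hBj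
    have h7 : Commute (e ^ b) v' := hcomm i (j + 1) _ _ hi (by omega) (by omega) (pow_mem he b) hv1
    calc ⁅A, B⁆ = e ^ b * (u' * B * u'⁻¹) * (e ^ b)⁻¹ * B⁻¹ := by
          rw [hAe, commutatorElement_def]; group
      _ = e ^ b * B * (e ^ b)⁻¹ * B⁻¹ := by rw [h6.eq, mul_inv_cancel_right]
      _ = e ^ b * f ^ b * (v' * (e ^ b)⁻¹ * v'⁻¹) * (f ^ b)⁻¹ := by rw [hBe]; group
      _ = e ^ b * f ^ b * (e ^ b)⁻¹ * (f ^ b)⁻¹ := by rw [h7.inv_left.eq.symm, mul_inv_cancel_right]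
      _ = ⁅e ^ b, f ^ b⁆ := by rw [commutatorElement_def]
  have h6 : q ⁅A, B⁆ = (q g) ^ (b * b) := by
    rw [h5, map_commutatorElement, map_pow, map_pow]
    have h7 : ⁅q e ^ b, q f⁆ = ⁅q e, q f⁆ ^ b := comm_pow_left hcen b
    have h8 : ⁅q e ^ b, q f ^ b⁆ = ⁅q e ^ b, q f⁆ ^ b := by
      refine comm_pow_right (fun x => ?_) b
      rw [h7]
      exact (hcen x).pow_left b
    rw [h8, h7, ← pow_mul, hg, map_commutatorElement]
  have h7 : q ⁅A, B⁆ = (q g) ^ b := by
    have h8 := (hq1 _).1 (hsc k hk1 hkn ⟨g, hg1⟩ hgk)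
    rw [map_mul, map_inv, map_pow, hAB] at h8
    exact (inv_mul_eq_one.1 h8).symm
  have hord : orderOf (q g) = p := by
    refine orderOf_eq_prime ?_ ?_
    · rw [← map_pow]
      exact (hq1 _).1 (h.pow_p_mem hgk)
    · intro h8
      exact hgk' ((hq1 _).2 h8)
  have hb0 : ¬ p ∣ b := by
    intro hd
    have h8 : q ⁅A, B⁆ = 1 := by
      rw [h7]
      exact orderOf_dvd_iff_pow_eq_one.1 (by rw [hord]; exact hd)
    rw [← hAB] at h8
    exact hgk' ((pres_iff h ha (by omega) ⟨g, hg1⟩).1 ((hq1 _).2 h8))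
  have hb1 : b * b ≡ b [MOD p] := by
    have h8 : (q g) ^ (b * b) = (q g) ^ b := by rw [← h6, ← h7]
    have := pow_eq_pow_iff_modEq.1 h8
    rwa [hord] at this
  have hbpos : 1 ≤ b := by
    rcases Nat.eq_zero_or_pos b with h8 | h8
    · exact absurd (by rw [h8]; exact dvd_zero p) hb0
    · exact h8
  have hbd : p ∣ b - 1 := by
    have h8 : p ∣ b * b - b := (Nat.modEq_iff_dvd' (Nat.le_mul_of_pos_left b hbpos)).1 hb1.symm
    have h9 : b * b - b = b * (b - 1) := by rw [Nat.mul_sub, mul_one]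
    rw [h9] at h8
    exact (hp.out.dvd_mul.1 h8).resolve_left hb0
  intro i hi e he
  rcases Nat.lt_or_ge i n with h8 | h8
  · obtain ⟨c, hc'⟩ := hbd
    have h9 : (e : P) ^ b = (e : P) * ((e : P) ^ p) ^ c := by
      rw [← pow_mul, ← hc', ← pow_succ']
      congr 1
      omega
    have h10 : (e : P)⁻¹ * ((a e : W 1) : P) = ((e : P) ^ p) ^ c * (((e : P) ^ b)⁻¹ * ((a e : W 1) : P)) := by
      rw [h9]; group
    rw [h10]
    exact mul_mem (pow_mem (h.pow_p_mem he) c) (hsc i hi h8 e he)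
  · have h9 : (e : P) = 1 := by
      rw [h.bot_of_le h8] at he
      exact Subgroup.mem_bot.1 he
    have h10 : e = 1 := Subtype.ext h9
    rw [h10, map_one]
    simp

omit hN1 in
/-- An automorphism of `W 1` acting trivially on the factors is a `p`-element. -/
theorem pow_of_triv (h : MC P p n W) [hp : Fact p.Prime] [Finite P] {a : MulAut (W 1)}
    (htr : ∀ i, 1 ≤ i → ∀ e : W 1, (e : P) ∈ W i → (e : P)⁻¹ * ((a e : W 1) : P) ∈ W (i + 1)) :
    ∃ k, a ^ p ^ k = 1 := by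
  have hW1 : IsPGroup p (W 1) := by
    have : IsPGroup p P := IsPGroup.of_card h.card_group
    exact this.to_subgroup _
  set c : ℕ → Subgroup (W 1) := fun i => (W (n - i)).subgroupOf (W 1) with hc
  have hpres : ∀ i, ∀ x ∈ c i, a x ∈ c i := by
    intro i x hx
    rw [hc, mem_subgroupOf] at hx ⊢
    rcases Nat.eq_zero_or_pos (n - i) with h1 | h1
    · rw [h1, h.zero]; trivial
    · have h2 := htr (n - i) h1 x hx
      have h3 := mul_mem hx (h.le_succ _ h2)
      rwa [mul_inv_cancel_left] at h3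
  have hpres' : ∀ i, ∀ α ∈ Subgroup.zpowers a, ∀ x ∈ c i, α x ∈ c i := by
    intro i α hα x hx
    obtain ⟨k, rfl⟩ := mem_powers_iff_mem_zpowers.2 hα
    have : ∀ k : ℕ, (a ^ k) x ∈ c i := by
      intro k
      induction k with
      | zero => exact hx
      | succ k ih => rw [pow_succ', MulAut.mul_apply]; exact hpres i _ ih
    exact this k
  have hst := Cfsg.Agent.H767.EssFrat.chainStab_isPGroup hW1 (Subgroup.zpowers a) c n hpres'
    (fun i => by
      have := h.normal (n - i)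
      exact Subgroup.normal_subgroupOf)
    (by
      have : c 0 = ⊥ := by
        show (W (n - 0)).subgroupOf (W 1) = ⊥
        rw [Nat.sub_zero, h.bot, Subgroup.bot_subgroupOf]
      rw [this]
      exact bot_le)
    (by
      show (W (n - n)).subgroupOf (W 1) = ⊤
      rw [Nat.sub_self, h.zero, Subgroup.top_subgroupOf])
  have hmem : (⟨a, Subgroup.mem_zpowers a⟩ : Subgroup.zpowers a) ∈
      Cfsg.Agent.H767.EssFrat.chainStab (Subgroup.zpowers a) c n hpres' := by
    intro i hi x hx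
    rw [hc, mem_subgroupOf] at hx ⊢
    rcases Nat.eq_zero_or_pos (n - (i + 1)) with h1 | h1
    · have h2 : n - i = 1 := by omega
      rw [h2]
      exact (x⁻¹ * a x).2
    · have h2 := htr _ h1 x hx
      rwa [show n - (i + 1) + 1 = n - i by omega] at h2
  obtain ⟨k, hk⟩ := hst ⟨_, hmem⟩
  refine ⟨k, ?_⟩
  have h1 := congrArg Subtype.val (congrArg Subtype.val hk)
  exact h1

end aut

end Cfsg.Agent.H779.Core
end

-- part: H779/CoreNorm
section
/-!
# Norms and traces for an element of order `p` (helper779, part of S5267)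

* `geom_end` : `1 + T + ... + T^(p-1) = (T - 1)^(p-1)` in characteristic `p`;
* `norm_eq_one` : the norm is trivial if `(T - 1)^(p-1) = 0`;
* `trace_fix` : the trace trick.
-/

set_option autoImplicit false

namespace Cfsg.Agent.H779.Core

open Finset

section norm

open Polynomial

theorem geom_poly (p : ℕ) [hp : Fact p.Prime] :
    (∑ i ∈ range p, (X : (ZMod p)[X]) ^ i) = (X - 1) ^ (p - 1) := by
  have h : (X - 1 : (ZMod p)[X]) ≠ 0 := by
    have := Polynomial.X_sub_C_ne_zero (1 : ZMod p)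
    simpa using this
  apply mul_right_cancel₀ h
  rw [geom_sum_mul, ← pow_succ, Nat.sub_add_cancel hp.out.one_lt.le, sub_pow_char, one_pow]

theorem geom_end {V : Type*} (p : ℕ) [hp : Fact p.Prime] [AddCommGroup V] [Module (ZMod p) V]
    (T : Module.End (ZMod p) V) : ∑ i ∈ range p, T ^ i = (T - 1) ^ (p - 1) := by
  have h := congrArg (aeval T) (geom_poly p)
  simpa using h

end norm

variable {X : Type*} [CommGroup X]

/-- the difference operator -/
def dif (t : MulAut X) (u : X) : X := t u * u⁻¹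

theorem norm_aux {V : Type*} (p : ℕ) [hp : Fact p.Prime] [AddCommGroup V] [Module (ZMod p) V]
    (T : Module.End (ZMod p) V) (v : V) :
    ∑ i ∈ range p, (fun u => T u)^[i] v = (fun u => T u - u)^[p - 1] v := by
  have h := congrArg (fun (f : Module.End (ZMod p) V) => f v) (geom_end p T)
  have h1 : ∀ i : ℕ, (T ^ i) v = (fun u => T u)^[i] v := by
    intro i
    rw [Module.End.pow_apply]
  have h2 : ∀ (i : ℕ), ((T - 1) ^ i) v = (fun u => T u - u)^[i] v := by
    intro i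
    rw [Module.End.pow_apply]
    rfl
  simp only [LinearMap.sum_apply, h1, h2] at h
  exact h

theorem norm_add {V : Type*} (p : ℕ) [hp : Fact p.Prime] [AddCommGroup V] (hexp : ∀ v : V, p • v = 0)
    (t : V →+ V) (v : V) :
    ∑ i ∈ range p, (fun u => t u)^[i] v = (fun u => t u - u)^[p - 1] v := by
  let _ : Module (ZMod p) V := AddCommGroup.zmodModule hexp
  exact norm_aux p (t.toZModLinearMap p) v

/-- **The norm is trivial.** -/
theorem norm_eq_one {p : ℕ} [hp : Fact p.Prime] (hexp : ∀ v : X, v ^ p = 1) (t : MulAut X)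
    (hnil : ∀ v, (dif t)^[p - 1] v = 1) (v : X) : ∏ i ∈ range p, (t ^ i) v = 1 := by
  have h := norm_add p (V := Additive X) (fun v => hexp v.toMul) (MonoidHom.toAdditive t.toMonoidHom)
    (Additive.ofMul v)
  have h1 : ∀ i : ℕ, (fun u => (MonoidHom.toAdditive t.toMonoidHom) u)^[i] (Additive.ofMul v) =
      Additive.ofMul ((t ^ i) v) := by
    intro i
    induction i with
    | zero => rfl
    | succ i ih =>
      rw [Function.iterate_succ_apply', ih, pow_succ', MulAut.mul_apply]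
      rfl
  have h2 : ∀ (i : ℕ), (fun u => (MonoidHom.toAdditive t.toMonoidHom) u - u)^[i] (Additive.ofMul v) =
      Additive.ofMul ((dif t)^[i] v) := by
    intro i
    induction i with
    | zero => rfl
    | succ i ih =>
      rw [Function.iterate_succ_apply', Function.iterate_succ_apply', ih]
      show Additive.ofMul (t ((dif t)^[i] v)) - Additive.ofMul ((dif t)^[i] v) = _
      rw [← ofMul_div, div_eq_mul_inv]
      rfl
  simp only [h1, h2, hnil] at h
  rw [← ofMul_prod] at h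
  exact Additive.ofMul.injective h

theorem commute_of_pow {G : Type*} [Group G] {p : ℕ} (hp : p.Prime) {x c : G} (hxp : x ^ p = 1) {k : ℕ} (hk0 : 0 < k)
    (hk : k < p) (h : Commute (x ^ k) c) : Commute x c := by
  have hcop : Nat.Coprime k p := (Nat.coprime_of_lt_prime hk0.ne' hk hp).symm
  have hb : (k : ℤ) * Nat.gcdA k p + (p : ℤ) * Nat.gcdB k p = 1 := by
    have h1 := Nat.gcd_eq_gcd_ab k p
    rw [hcop.gcd_eq_one] at h1
    rw [← h1]; rfl
  have hx : x = (x ^ k) ^ (Nat.gcdA k p) := by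
    calc x = x ^ (1 : ℤ) := (zpow_one x).symm
      _ = x ^ ((k : ℤ) * Nat.gcdA k p + (p : ℤ) * Nat.gcdB k p) := by rw [hb]
      _ = (x ^ k) ^ (Nat.gcdA k p) := by
        rw [zpow_add, zpow_mul, zpow_mul, zpow_natCast, zpow_natCast, hxp, one_zpow, mul_one]
  rw [hx]
  exact h.zpow_left _

/-- **The trace trick.** -/
theorem trace_fix {G : Type*} [Group G] (ρ : G →* MulAut X) {p : ℕ} [hp : Fact p.Prime] {x : G}
    (hxp : x ^ p = 1) (hN : ∀ v, ∏ i ∈ range p, (ρ x ^ i) v = 1) (C : Subgroup G) [Finite C]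
    (hxC : ∀ c ∈ C, x * c * x⁻¹ ∈ C) (hfix : ∀ c ∈ C, x * c = c * x → c = 1) {w : X} (hw : ρ x w = w) :
    ∀ c ∈ C, ρ c w = w := by
  classical
  have hwi : ∀ i : ℕ, (ρ (x ^ i)⁻¹) w = w := by
    intro i
    have h1 : ρ (x ^ i) w = w := by
      induction i with
      | zero => simp
      | succ i ih => rw [pow_succ, map_mul, MulAut.mul_apply, hw, ih]
    rw [map_inv]
    conv_lhs => rw [← h1]
    exact MulAut.inv_apply_self _ _ _
  have key : ∀ (m : ℕ) (s : Finset G), s.card = m → (∀ c ∈ s, c ∈ C ∧ c ≠ 1) → (∀ c ∈ s, x * c * x⁻¹ ∈ s) →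
      ∏ c ∈ s, ρ c w = 1 := by
    intro m
    induction m using Nat.strong_induction_on with
    | _ m ih =>
      intro s hs h1 h2
      rcases s.eq_empty_or_nonempty with rfl | ⟨c, hc⟩
      · simp
      set f : ℕ → G := fun i => x ^ i * c * (x ^ i)⁻¹ with hf
      have hfs : ∀ i, f i ∈ s := by
        intro i
        induction i with
        | zero => simpa [hf] using hc
        | succ i ihi =>
          have := h2 _ ihi
          have he : x * f i * x⁻¹ = f (i + 1) := by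
            simp only [hf, pow_succ']
            group
          rwa [he] at this
      have hinj : Set.InjOn f (range p : Set ℕ) := by
        have aux : ∀ i j, i < j → j < p → f i = f j → False := by
          intro i j hij hj he
          have h3 : Commute (x ^ (j - i)) c := by
            have h4 : x ^ j = x ^ i * x ^ (j - i) := by rw [← pow_add]; congr 1; omega
            simp only [hf, h4] at he
            have h5 : c = x ^ (j - i) * c * (x ^ (j - i))⁻¹ := by
              have : x ^ i * c * (x ^ i)⁻¹ = x ^ i * (x ^ (j - i) * c * (x ^ (j - i))⁻¹) * (x ^ i)⁻¹ := by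
                rw [he]; group
              exact mul_left_cancel (mul_right_cancel this)
            show x ^ (j - i) * c = c * x ^ (j - i)
            conv_rhs => rw [h5]
            group
          have h6 := commute_of_pow hp.out hxp (by omega) (by omega) h3
          exact (h1 c hc).2 (hfix c (h1 c hc).1 h6)
        intro i hi j hj he
        simp only [coe_range, Set.mem_Iio] at hi hj
        rcases lt_trichotomy i j with h | h | h
        · exact (aux i j h hj he).elim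
        · exact h
        · exact (aux j i h hi he.symm).elim
      set O : Finset G := (range p).image f with hO
      have hOs : O ⊆ s := by
        intro y hy
        obtain ⟨i, -, rfl⟩ := Finset.mem_image.1 hy
        exact hfs i
      have hcO : c ∈ O := Finset.mem_image.2 ⟨0, by simp [hp.out.pos], by simp [hf]⟩
      have hprodO : ∏ c' ∈ O, ρ c' w = 1 := by
        rw [hO, Finset.prod_image hinj, ← hN (ρ c w)]
        refine Finset.prod_congr rfl fun i _ => ?_
        simp only [hf]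
        rw [map_mul, map_mul, MulAut.mul_apply, MulAut.mul_apply, hwi, map_pow]
      have hsd : ∏ c' ∈ s \ O, ρ c' w = 1 := by
        refine ih (s \ O).card ?_ (s \ O) rfl (fun c' hc' => h1 c' (Finset.mem_sdiff.1 hc').1) ?_
        · rw [← hs]
          exact Finset.card_lt_card (Finset.sdiff_ssubset hOs ⟨c, hcO⟩)
        · intro c' hc'
          obtain ⟨h3, h4⟩ := Finset.mem_sdiff.1 hc'
          refine Finset.mem_sdiff.2 ⟨h2 _ h3, fun h5 => h4 ?_⟩
          obtain ⟨i, hi, he⟩ := Finset.mem_image.1 h5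
          have hc'' : c' = x⁻¹ * f i * x := by rw [he]; group
          rcases Nat.eq_zero_or_pos i with rfl | hi0
          · refine Finset.mem_image.2 ⟨p - 1, by simp [hp.out.pos], ?_⟩
            have hx' : x ^ (p - 1) = x⁻¹ := by
              have : x ^ (p - 1) * x = 1 := by rw [← pow_succ, Nat.sub_add_cancel hp.out.one_lt.le, hxp]
              exact eq_inv_of_mul_eq_one_left this
            rw [hc'']
            simp only [hf, hx']
            group
          · refine Finset.mem_image.2 ⟨i - 1, ?_, ?_⟩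
            · rw [Finset.mem_range] at hi ⊢
              omega
            · have hx' : x ^ i = x * x ^ (i - 1) := by rw [← pow_succ']; congr 1; omega
              rw [hc'']
              simp only [hf, hx']
              group
      rw [← Finset.prod_sdiff hOs, hsd, hprodO, one_mul]
  have hCfin : (C : Set G).Finite := Set.toFinite _
  set s : Finset G := hCfin.toFinset with hs
  have hmem : ∀ c, c ∈ s ↔ c ∈ C := by intro c; simp [hs]
  have htot : ∏ c ∈ s, ρ c w = w := by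
    have h1 : (1 : G) ∈ s := (hmem 1).2 (one_mem C)
    rw [← Finset.insert_erase h1, Finset.prod_insert (Finset.notMem_erase _ _)]
    rw [key _ (s.erase 1) rfl]
    · simp
    · intro c hc
      obtain ⟨h2, h3⟩ := Finset.mem_erase.1 hc
      exact ⟨(hmem c).1 h3, h2⟩
    · intro c hc
      obtain ⟨h2, h3⟩ := Finset.mem_erase.1 hc
      refine Finset.mem_erase.2 ⟨fun h4 => h2 ?_, (hmem _).2 (hxC c ((hmem c).1 h3))⟩
      have : c = x⁻¹ * (x * c * x⁻¹) * x := by group
      rw [this, h4]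
      group
  intro c hc
  conv_lhs => rw [← htot]
  rw [map_prod]
  conv_rhs => rw [← htot]
  refine Finset.prod_bij' (fun g _ => c * g) (fun g _ => c⁻¹ * g) ?_ ?_ ?_ ?_ ?_
  · intro g hg
    exact (hmem _).2 (mul_mem hc ((hmem g).1 hg))
  · intro g hg
    exact (hmem _).2 (mul_mem (inv_mem hc) ((hmem g).1 hg))
  · intro g _; group
  · intro g _; group
  · intro g _
    rw [map_mul, MulAut.mul_apply]

end Cfsg.Agent.H779.Core
end

-- part: H779/CoreSit
section
/-!
# Automorphism groups of `W 1` with Sylow `p`-subgroup `Aut_P (W 1)` (helper779, part of S5267)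

`Sit` : the situation; `Cons` : two consecutive invariant terms of the chain;
`mem_conjGrp` : the centralizer of the Sylow `p`-subgroup modulo inner automorphisms.
-/

set_option autoImplicit false
set_option linter.unusedSectionVars false

namespace Cfsg.Agent.H779.Core

open Subgroup Cfsg.Agent.H467.MaxClass Cfsg.Agent.H786
open scoped commutatorElement

universe u

variable {P : Type u} [Group P] {p n : ℕ} {W : ℕ → Subgroup P} [hN1 : (W 1).Normal]

/-- **The situation.** -/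
structure Sit (p n : ℕ) (W : ℕ → Subgroup P) [(W 1).Normal] (A : Subgroup (MulAut (W 1))) : Prop where
  mc : MC P p n W
  deg : ∀ i j, 1 ≤ i → 1 ≤ j → ⁅W i, W j⁆ ≤ W (i + j + 1)
  five : 5 ≤ p
  conj_le : conjGrp (W 1) ≤ A
  sylow : ¬ p ∣ (conjGrp (W 1)).relIndex A
  nonab : ⁅W 1, W 1⁆ ≠ ⊥

/-- `W i` inside `W 1` -/
abbrev BB (W : ℕ → Subgroup P) (i : ℕ) : Subgroup (W 1) := (W i).subgroupOf (W 1)

omit hN1 in
theorem mem_BB {i : ℕ} {e : W 1} : e ∈ BB W i ↔ (e : P) ∈ W i := Iff.rfl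

omit hN1 in
theorem BB_le_iff (h : MC P p n W) [hp : Fact p.Prime] {i j : ℕ} (hi1 : 1 ≤ i) (hi : i < n) (hle : BB W i ≤ BB W j) :
    j ≤ i := by
  obtain ⟨a, ha, ha'⟩ := h.ne_succ hi
  by_contra hlt
  apply ha'
  have : (⟨a, h.antitone hi1 ha⟩ : W 1) ∈ BB W j := hle ha
  exact h.antitone (show i + 1 ≤ j by omega) this

omit hN1 in
theorem BB_mono (h : MC P p n W) {i j : ℕ} (hij : i ≤ j) : BB W j ≤ BB W i := fun _ he => h.antitone hij he

/-- consecutive invariant terms -/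
structure Cons (n : ℕ) (W : ℕ → Subgroup P) (A : Subgroup (MulAut (W 1))) (i i' : ℕ) : Prop where
  one_le : 1 ≤ i
  lt : i < i'
  le : i' ≤ n
  inv : AInv A (W i)
  inv' : AInv A (W i')
  none : ∀ j, i < j → j < i' → ¬ AInv A (W j)

variable {A : Subgroup (MulAut (W 1))}

omit hN1 in
theorem inn_conj (a : MulAut (W 1)) {c : MulAut (W 1)} (hc : c ∈ inn (W 1)) : a * c * a⁻¹ ∈ inn (W 1) := by
  obtain ⟨w, rfl⟩ := hc
  refine ⟨a w, ?_⟩
  ext e
  simp

theorem aut_conj (a : MulAut (W 1)) (w : W 1) :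
    a * MulAut.conjNormal (H := W 1) (w : P) * a⁻¹ = MulAut.conjNormal (H := W 1) ((a w : W 1) : P) := by
  rw [← conj_eq, ← conj_eq]
  ext e
  simp

/-- An automorphism commuting with `c_s` modulo inner automorphisms normalizes `conjGrp`. -/
theorem nor_of_centralizes (h : MC P p n W) [hp : Fact p.Prime] {s u : P} (hs : s ∉ W 1) {a : MulAut (W 1)}
    (hc : a * MulAut.conjNormal (H := W 1) s * a⁻¹ = MulAut.conjNormal (H := W 1) (u * s)) : Nor a := by
  intro x
  obtain ⟨k, w, hw, rfl⟩ := exists_zp h hs x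
  refine ⟨(u * s) ^ k * ((a ⟨w, hw⟩ : W 1) : P), ?_⟩
  rw [map_mul, map_mul, map_zpow, map_zpow, ← hc, ← aut_conj a ⟨w, hw⟩, conj_zpow]
  group

namespace Sit

variable [hp : Fact p.Prime] [Finite P]

omit hp [Finite P] in
theorem pgroup (S : Sit p n W A) : IsPGroup p P := IsPGroup.of_card S.mc.card_group

/-- the Sylow `p`-subgroup of `A` -/
noncomputable def syl (S : Sit p n W A) : Sylow p A :=
  IsPGroup.toSylow (P := (conjGrp (W 1)).subgroupOf A) (by
    have h1 : IsPGroup p (conjGrp (W 1)) := by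
      have : IsPGroup p (MulAut.conjNormal (H := W 1)).range :=
        S.pgroup.of_surjective (MulAut.conjNormal (H := W 1)).rangeRestrict
          (MulAut.conjNormal (H := W 1)).rangeRestrict_surjective
      exact this
    exact h1.comap_of_injective _ (Subgroup.subtype_injective A)) S.sylow

theorem mem_syl (S : Sit p n W A) {a : A} : a ∈ (S.syl : Subgroup A) ↔ (a : MulAut (W 1)) ∈ conjGrp (W 1) := Iff.rfl

/-- a `p`-element normalizing `conjGrp` lies in it -/
theorem mem_of_pow (S : Sit p n W A) {a : MulAut (W 1)} (ha : a ∈ A) (hn : Nor a) {k : ℕ} (hk : a ^ p ^ k = 1) :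
    a ∈ conjGrp (W 1) := by
  set b : A := ⟨a, ha⟩ with hb
  have hbk : b ^ p ^ k = 1 := Subtype.ext hk
  have hpg : IsPGroup p (Subgroup.zpowers b) := by
    obtain ⟨j, -, hj⟩ := (Nat.dvd_prime_pow hp.out).1 (orderOf_dvd_of_pow_eq_one hbk)
    refine IsPGroup.of_card (n := j) ?_
    rw [Nat.card_zpowers, hj]
  have h1 := hpg.inf_normalizer_sylow S.syl
  have hbN : b ∈ Subgroup.normalizer ((S.syl : Subgroup A) : Set A) := by
    refine Subgroup.mem_normalizer_fintype ?_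
    rintro c hc
    obtain ⟨x, hx⟩ := S.mem_syl.1 hc
    obtain ⟨y, hy⟩ := hn x
    refine S.mem_syl.2 ⟨y, ?_⟩
    rw [← hy, hx]
    rfl
  have h2 : b ∈ Subgroup.zpowers b ⊓ (S.syl : Subgroup A) := by
    rw [← h1]
    exact ⟨Subgroup.mem_zpowers b, hbN⟩
  exact h2.2

/-- **The centralizer of the Sylow `p`-subgroup modulo inner automorphisms.** -/
theorem mem_conjGrp (S : Sit p n W A) {a : MulAut (W 1)} (ha : a ∈ A) {s : P} (hs : s ∉ W 1)
    (hc : a * MulAut.conjNormal (H := W 1) s * a⁻¹ * (MulAut.conjNormal (H := W 1) s)⁻¹ ∈ inn (W 1)) :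
    a ∈ conjGrp (W 1) := by
  obtain ⟨u, hu⟩ := hc
  have h1 : a * MulAut.conjNormal (H := W 1) s * a⁻¹ = MulAut.conjNormal (H := W 1) ((u : P) * s) := by
    rw [map_mul, ← conj_eq, hu]
    group
  have hN := nor_of_centralizes S.mc hs h1
  obtain ⟨k, hk⟩ := pow_of_triv S.mc (triv_of_centralizes S.mc S.deg S.nonab hs u.2 hN h1)
  exact S.mem_of_pow ha hN hk

theorem exists_s (S : Sit p n W A) : ∃ s : P, s ∉ W 1 := by
  have h4 := S.mc.four_le
  obtain ⟨s, -, hs⟩ := S.mc.ne_succ (show 0 < n by omega)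
  exact ⟨s, hs⟩

/-- the `p`-th power of an element of `conjGrp` is inner -/
theorem pow_mem_inn (S : Sit p n W A) {c : MulAut (W 1)} (hc : c ∈ conjGrp (W 1)) : c ^ p ∈ inn (W 1) := by
  obtain ⟨x, rfl⟩ := hc
  rw [← map_pow]
  exact conjNormal_mem_inn (S.mc.pow_index_mem x)

/-- elements of `conjGrp` acting trivially on `W i / W (i + 2)` are inner -/
theorem mem_inn_of_triv (S : Sit p n W A) {c : MulAut (W 1)} (hc : c ∈ conjGrp (W 1)) {i : ℕ} (h1 : 1 ≤ i)
    (hi : i + 1 < n) (htr : ∀ e : W 1, (e : P) ∈ W i → (e : P)⁻¹ * ((c e : W 1) : P) ∈ W (i + 2)) :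
    c ∈ inn (W 1) := by
  obtain ⟨x, rfl⟩ := hc
  by_cases hx : x ∈ W 1
  · exact conjNormal_mem_inn hx
  · exfalso
    have h2 := S.mc.normal (i + 2)
    apply notMem_Ksub' S.mc S.deg hx h1 hi
    rw [S.mc.mem_Ksub]
    intro w hw
    have h3 := htr ⟨w, S.mc.antitone h1 hw⟩ hw
    have h4 : w⁻¹ * (x * w * x⁻¹) ∈ W (i + 2) := h3
    have h5 := h2.conj_mem _ (inv_mem h4) w
    have h6 : w * (w⁻¹ * (x * w * x⁻¹))⁻¹ * w⁻¹ = ⁅w, x⁆ := by
      rw [commutatorElement_def]; group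
    rwa [h6] at h5

/-- A `p`-element of `A` has a conjugate in `conjGrp`. -/
theorem exists_conj (S : Sit p n W A) {a : MulAut (W 1)} (ha : a ∈ A) {k : ℕ} (hk : a ^ p ^ k = 1) :
    ∃ g ∈ A, g * a * g⁻¹ ∈ conjGrp (W 1) := by
  set b : A := ⟨a, ha⟩ with hb
  have hbk : b ^ p ^ k = 1 := Subtype.ext hk
  have hpg : IsPGroup p (Subgroup.zpowers b) := by
    obtain ⟨j, -, hj⟩ := (Nat.dvd_prime_pow hp.out).1 (orderOf_dvd_of_pow_eq_one hbk)
    refine IsPGroup.of_card (n := j) ?_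
    rw [Nat.card_zpowers, hj]
  obtain ⟨Q, hQ⟩ := hpg.exists_le_sylow
  obtain ⟨g, hg⟩ := MulAction.exists_smul_eq A Q S.syl
  refine ⟨g, g.2, ?_⟩
  have h1 : b ∈ (Q : Subgroup A) := hQ (Subgroup.mem_zpowers b)
  have h2 : g * b * g⁻¹ ∈ ((g • Q : Sylow p A) : Subgroup A) := ⟨b, h1, rfl⟩
  rw [hg] at h2
  exact S.mem_syl.1 h2

/-- elements of prime-to-`p` order of `W 1`-automorphism groups, decomposition -/
theorem exists_pow_coprime (b : MulAut (W 1)) : ∃ k, (orderOf (b ^ p ^ k)).Coprime p := by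
  obtain ⟨k, m, hm, hkm⟩ := Nat.exists_eq_pow_mul_and_not_dvd (orderOf_pos b).ne' p hp.out.ne_one
  refine ⟨k, ?_⟩
  have h1 : orderOf (b ^ p ^ k) ∣ m := by
    refine orderOf_dvd_of_pow_eq_one ?_
    rw [← pow_mul, ← hkm, pow_orderOf_eq_one]
  exact Nat.Coprime.coprime_dvd_left h1 ((Nat.Prime.coprime_iff_not_dvd hp.out).2 hm).symm

/-! ### consecutive invariant terms -/

theorem le_of_inv (S : Sit p n W A) {i i' : ℕ} (hc : Cons n W A i i') {U : Subgroup (W 1)} (hU : Inv A U)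
    (hle : U ≤ BB W (i + 1)) : U ≤ BB W i' := by
  obtain ⟨j, h1, h2, rfl⟩ := class_of_inv S.mc U (fun a ha => hU a (S.conj_le ha))
  rcases Nat.lt_or_ge j i' with h3 | h3
  · exfalso
    rcases Nat.lt_or_ge i j with h4 | h4
    · exact hc.none j h4 h3 hU
    · have h5 : BB W i ≤ BB W (i + 1) := (BB_mono S.mc h4).trans hle
      have := BB_le_iff S.mc hc.one_le (lt_of_lt_of_le hc.lt hc.le) h5
      omega
  · exact BB_mono S.mc h3

omit hN1 hp [Finite P] in
theorem inv_comm {U V : Subgroup (W 1)} (hU : Inv A U) (hV : Inv A V) : Inv A ⁅U, V⁆ := by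
  intro a ha e he
  have h1 : (⁅U, V⁆).map (a : MulAut (W 1)).toMonoidHom ≤ ⁅U, V⁆ := by
    rw [Subgroup.map_commutator]
    refine commutator_mono ?_ ?_
    · rintro _ ⟨x, hx, rfl⟩; exact hU a ha x hx
    · rintro _ ⟨x, hx, rfl⟩; exact hV a ha x hx
  exact h1 ⟨e, he, rfl⟩

theorem cons_comm (S : Sit p n W A) {i i' : ℕ} (hc : Cons n W A i i') : ⁅BB W i, (⊤ : Subgroup (W 1))⁆ ≤ BB W i' := by
  refine S.le_of_inv hc (inv_comm hc.inv (fun _ _ _ _ => Subgroup.mem_top _)) ?_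
  rw [commutator_le]
  intro e he f _
  exact S.mc.comm_mem he

/-- the subgroup generated by the `p`-th powers -/
def pw (p : ℕ) {M : Type*} [Group M] (U : Subgroup M) : Subgroup M := closure {y | ∃ x ∈ U, y = x ^ p}

omit hN1 hp [Finite P] in
theorem inv_pw {U : Subgroup (W 1)} (hU : Inv A U) : Inv A (pw p U) := by
  intro a ha e he
  induction he using Subgroup.closure_induction with
  | mem y hy =>
    obtain ⟨x, hx, rfl⟩ := hy
    rw [map_pow]
    exact subset_closure ⟨a x, hU a ha x hx, rfl⟩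
  | one => rw [map_one]; exact one_mem _
  | mul x y _ _ hx hy => rw [map_mul]; exact mul_mem hx hy
  | inv x _ hx => rw [map_inv]; exact inv_mem hx

theorem cons_pow (S : Sit p n W A) {i i' : ℕ} (hc : Cons n W A i i') {e : W 1} (he : (e : P) ∈ W i) :
    (e : P) ^ p ∈ W i' := by
  have h1 : pw p (BB W i) ≤ BB W i' := by
    refine S.le_of_inv hc (inv_pw hc.inv) ?_
    rw [pw, closure_le]
    rintro _ ⟨x, hx, rfl⟩
    exact S.mc.pow_p_mem hx
  exact h1 (subset_closure ⟨e, he, rfl⟩)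

/-- **The chief factors have rank at most `p - 1`.** -/
theorem cons_le (S : Sit p n W A) {i i' : ℕ} (hc : Cons n W A i i') : i' ≤ i + (p - 1) := by
  have h4 := S.mc.four_le
  have h5 := S.five
  by_contra hlt
  have h1 := hc.one_le
  have h2 := hc.le
  rcases Nat.lt_or_ge n (p + 2) with h3 | h3
  · have hi : i = 1 := by omega
    have hi' : i' = n := by omega
    subst hi hi'
    have h6 := S.cons_comm hc
    apply S.nonab
    rw [eq_bot_iff, commutator_le]
    intro x hx y hy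
    have h7 : ⁅(⟨x, hx⟩ : W 1), (⟨y, hy⟩ : W 1)⁆ ∈ BB W i' :=
      h6 (commutator_mem_commutator hx (Subgroup.mem_top _))
    have h8 : ⁅x, y⁆ ∈ W i' := h7
    rwa [S.mc.bot] at h8
  · obtain ⟨a, ha, ha'⟩ := S.mc.ne_succ (show i < n by omega)
    have h6 := S.mc.pow_notMem_one (by omega) h3 h1 (show i + p ≤ n by omega) ha ha'
    exact h6 (S.mc.antitone (by omega) (S.cons_pow hc (e := ⟨a, S.mc.antitone h1 ha⟩) ha))

end Sit

end Cfsg.Agent.H779.Core
end

-- part: H779/CoreTrace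
section
/-!
# Normal `p'`-subgroups of `A / Inn (W 1)` (helper779, part of S5267)

`le_inn` : a normal subgroup `C` of `A` with `C ⊓ conjGrp (W 1) ≤ inn (W 1)` consists of inner automorphisms.
-/

set_option autoImplicit false
set_option linter.unusedSectionVars false

namespace Cfsg.Agent.H779.Core

open Subgroup Cfsg.Agent.H467.MaxClass Cfsg.Agent.H786
open scoped commutatorElement

section act

variable {B M : Type*} [Group B] [Group M]

/-- the action on an invariant subgroup -/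
def actSub (ρ : B →* MulAut M) (V : Subgroup M) (hV : ∀ b, ∀ e ∈ V, ρ b e ∈ V) : B →* MulAut V where
  toFun b :=
    { toFun := fun v => ⟨ρ b v, hV b v v.2⟩
      invFun := fun v => ⟨ρ b⁻¹ v, hV b⁻¹ v v.2⟩
      left_inv := fun v => Subtype.ext (by
        show ρ b⁻¹ (ρ b v) = v
        rw [map_inv, MulAut.inv_apply_self])
      right_inv := fun v => Subtype.ext (by
        show ρ b (ρ b⁻¹ v) = v
        rw [map_inv, MulAut.apply_inv_self])
      map_mul' := fun v w => Subtype.ext (map_mul _ _ _) }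
  map_one' := by
    ext v
    show ρ 1 (v : M) = v
    rw [map_one]; rfl
  map_mul' := fun b c => by
    ext v
    show ρ (b * c) (v : M) = ρ b (ρ c v)
    rw [map_mul]; rfl

theorem actSub_apply (ρ : B →* MulAut M) (V : Subgroup M) (hV : ∀ b, ∀ e ∈ V, ρ b e ∈ V) (b : B) (v : V) :
    ((actSub ρ V hV b v : V) : M) = ρ b v := rfl

/-- the action on a quotient -/
def actQuot (ρ : B →* MulAut M) (N : Subgroup M) [N.Normal] (hN : ∀ b, ∀ v ∈ N, ρ b v ∈ N) : B →* MulAut (M ⧸ N) where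
  toFun b :=
    { toFun := QuotientGroup.map N N (ρ b).toMonoidHom (fun v hv => hN b v hv)
      invFun := QuotientGroup.map N N (ρ b⁻¹).toMonoidHom (fun v hv => hN b⁻¹ v hv)
      left_inv := fun v => by
        induction v using QuotientGroup.induction_on with
        | H v =>
          show ((ρ b⁻¹ (ρ b v) : M) : M ⧸ N) = v
          rw [map_inv, MulAut.inv_apply_self]
      right_inv := fun v => by
        induction v using QuotientGroup.induction_on with
        | H v =>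
          show ((ρ b (ρ b⁻¹ v) : M) : M ⧸ N) = v
          rw [map_inv, MulAut.apply_inv_self]
      map_mul' := fun v w => map_mul _ _ _ }
  map_one' := by
    ext v
    induction v using QuotientGroup.induction_on with
    | H v =>
      show ((ρ 1 v : M) : M ⧸ N) = v
      rw [map_one]; rfl
  map_mul' := fun b c => by
    ext v
    induction v using QuotientGroup.induction_on with
    | H v =>
      show ((ρ (b * c) v : M) : M ⧸ N) = ((ρ b (ρ c v) : M) : M ⧸ N)
      rw [map_mul]; rfl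

theorem actQuot_mk (ρ : B →* MulAut M) (N : Subgroup M) [N.Normal] (hN : ∀ b, ∀ v ∈ N, ρ b v ∈ N) (b : B) (v : M) :
    actQuot ρ N hN b (v : M ⧸ N) = ((ρ b v : M) : M ⧸ N) := rfl

end act

universe u

variable {P : Type u} [Group P] {p n : ℕ} {W : ℕ → Subgroup P} [hN1 : (W 1).Normal] {A : Subgroup (MulAut (W 1))}
variable [hp : Fact p.Prime] [Finite P]

namespace Sit

theorem cons_fix (S : Sit p n W A) {i i' : ℕ} (hc : Cons n W A i i') {C : Subgroup (MulAut (W 1))} (hCA : C ≤ A)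
    (hn : ∀ a ∈ A, ∀ c ∈ C, a * c * a⁻¹ ∈ C) (hCc : C ⊓ conjGrp (W 1) ≤ inn (W 1)) :
    ∀ c ∈ C, ∀ e : W 1, (e : P) ∈ W (i' - 1) → (e : P)⁻¹ * ((c e : W 1) : P) ∈ W i' := by
  have hi1 := hc.one_le
  have hlt := hc.lt
  have hle := S.cons_le hc
  obtain ⟨s, hs⟩ := S.exists_s
  have hWi' := S.mc.normal i'
  set V : Subgroup (W 1) := BB W i with hV
  have hBn : (BB W i').Normal := Subgroup.normal_subgroupOf
  set N : Subgroup V := (BB W i').subgroupOf V with hN
  have hNn : N.Normal := Subgroup.normal_subgroupOf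
  have hmemN : ∀ v : V, v ∈ N ↔ ((v : W 1) : P) ∈ W i' := fun v => Iff.rfl
  -- the actions
  let ρ0 : A →* MulAut V := actSub A.subtype V (fun b e he => hc.inv b b.2 e he)
  let ρ1 : A →* MulAut (V ⧸ N) := actQuot ρ0 N (fun b v hv => hc.inv' b b.2 v hv)
  have hρ1 : ∀ (a : A) (v : V), ρ1 a (v : V ⧸ N) = ((ρ0 a v : V) : V ⧸ N) := fun a v => rfl
  have hcomm : ∀ x y : V ⧸ N, x * y = y * x := by
    intro x y
    induction x using QuotientGroup.induction_on with
    | H x =>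
    induction y using QuotientGroup.induction_on with
    | H y =>
      have h1 : ⁅(x : W 1), (y : W 1)⁆ ∈ BB W i' :=
        S.cons_comm hc (commutator_mem_commutator x.2 (Subgroup.mem_top _))
      have h2 : ⁅x, y⁆ ∈ N := h1
      rw [← QuotientGroup.mk_mul, ← QuotientGroup.mk_mul, eq_comm, QuotientGroup.eq]
      have h3 := hNn.conj_mem _ h2 (x⁻¹ * y⁻¹)
      have h4 : x⁻¹ * y⁻¹ * ⁅x, y⁆ * (x⁻¹ * y⁻¹)⁻¹ = (y * x)⁻¹ * (x * y) := by
        rw [commutatorElement_def]; group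
      rwa [h4] at h3
  have hexp : ∀ x : V ⧸ N, x ^ p = 1 := by
    intro x
    induction x using QuotientGroup.induction_on with
    | H x =>
      rw [← QuotientGroup.mk_pow, QuotientGroup.eq_one_iff, hmemN]
      exact S.cons_pow hc x.2
  have hIle : ∀ a : A, (a : MulAut (W 1)) ∈ inn (W 1) → ρ1 a = 1 := by
    rintro a ⟨w, hw⟩
    ext v
    induction v using QuotientGroup.induction_on with
    | H v =>
      rw [hρ1, MulAut.one_apply, QuotientGroup.eq, hmemN]
      have h1 : ⁅(v : W 1), w⁆ ∈ BB W i' := S.cons_comm hc (commutator_mem_commutator v.2 (Subgroup.mem_top _))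
      have h2 : (((ρ0 a v : V)⁻¹ * v : V) : W 1) = w * (v : W 1)⁻¹ * w⁻¹ * v := by
        show ((a : MulAut (W 1)) (v : W 1))⁻¹ * v = _
        rw [← hw, MulAut.conj_apply]
        group
      have h3 := hBn.conj_mem _ h1 (v : W 1)⁻¹
      have h4 : (v : W 1)⁻¹ * ⁅(v : W 1), w⁆ * ((v : W 1)⁻¹)⁻¹ = w * (v : W 1)⁻¹ * w⁻¹ * v := by
        rw [commutatorElement_def]; group
      rw [h4, ← h2] at h3
      exact h3
  let I : Subgroup A := (inn (W 1)).subgroupOf A
  have hIn : I.Normal := by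
    refine ⟨fun c hc g => ?_⟩
    exact inn_conj (g : MulAut (W 1)) hc
  let ρ : A ⧸ I →* MulAut (V ⧸ N) := QuotientGroup.lift I ρ1 (fun a ha => hIle a ha)
  have hρ : ∀ a : A, ρ (a : A ⧸ I) = ρ1 a := fun a => rfl
  let _ : CommGroup (V ⧸ N) := { (inferInstance : Group (V ⧸ N)) with mul_comm := hcomm }
  set cs : A := ⟨MulAut.conjNormal (H := W 1) s, S.conj_le ⟨s, rfl⟩⟩ with hcs
  have hρs : ∀ v : V, ρ (cs : A ⧸ I) (v : V ⧸ N) = ((ρ0 cs v : V) : V ⧸ N) := fun v => rfl
  -- the difference operator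
  have hdif : ∀ (m : ℕ) (v : V), ∃ w : V, ((w : W 1) : P) ∈ W (i + m) ∧
      (dif (ρ (cs : A ⧸ I)))^[m] (v : V ⧸ N) = (w : V ⧸ N) := by
    intro m
    induction m with
    | zero => intro v; exact ⟨v, v.2, rfl⟩
    | succ m ih =>
      intro v
      obtain ⟨w, hw, hw2⟩ := ih v
      refine ⟨ρ0 cs w * w⁻¹, ?_, ?_⟩
      · have h1 : (((ρ0 cs w * w⁻¹ : V) : W 1) : P) = ⁅s, ((w : W 1) : P)⁆ := by
          show s * w * s⁻¹ * (w : P)⁻¹ = _
          rw [commutatorElement_def]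
        rw [h1]
        exact S.mc.comm_mem' hw
      · rw [Function.iterate_succ_apply', hw2, dif, hρs]
        rfl
  have hnil : ∀ v, (dif (ρ (cs : A ⧸ I)))^[p - 1] v = 1 := by
    intro v
    induction v using QuotientGroup.induction_on with
    | H v =>
      obtain ⟨w, hw, hw2⟩ := hdif (p - 1) v
      rw [hw2, QuotientGroup.eq_one_iff, hmemN]
      exact S.mc.antitone hle hw
  have hNorm := norm_eq_one hexp (ρ (cs : A ⧸ I)) hnil
  have hxp : (cs : A ⧸ I) ^ p = 1 := by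
    rw [← QuotientGroup.mk_pow, QuotientGroup.eq_one_iff]
    exact S.pow_mem_inn ⟨s, rfl⟩
  -- the trace
  set C' : Subgroup (A ⧸ I) := (C.subgroupOf A).map (QuotientGroup.mk' I) with hC'
  have hxC : ∀ c ∈ C', (cs : A ⧸ I) * c * (cs : A ⧸ I)⁻¹ ∈ C' := by
    rintro _ ⟨c, hc, rfl⟩
    refine ⟨cs * c * cs⁻¹, hn cs cs.2 c hc, rfl⟩
  have hfix : ∀ c ∈ C', (cs : A ⧸ I) * c = c * (cs : A ⧸ I) → c = 1 := by
    rintro _ ⟨c, hcC, rfl⟩ hcc
    rw [QuotientGroup.mk'_apply] at hcc ⊢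
    rw [QuotientGroup.eq_one_iff]
    have h1 : c * cs * c⁻¹ * cs⁻¹ ∈ I := by
      rw [← QuotientGroup.eq_one_iff, QuotientGroup.mk_mul, QuotientGroup.mk_mul, QuotientGroup.mk_mul,
        QuotientGroup.mk_inv, QuotientGroup.mk_inv, ← hcc, mul_inv_cancel_right, mul_inv_cancel]
    have h2 : (c : MulAut (W 1)) ∈ conjGrp (W 1) := S.mem_conjGrp c.2 hs h1
    exact hCc ⟨hcC, h2⟩
  intro c hcC e he
  have heV : e ∈ V := S.mc.antitone (by omega) he
  have hw : ρ (cs : A ⧸ I) ((⟨e, heV⟩ : V) : V ⧸ N) = ((⟨e, heV⟩ : V) : V ⧸ N) := by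
    rw [hρs, QuotientGroup.eq, hmemN]
    have h1 : ⁅s, (e : P)⁻¹⁆ ∈ W i' := by
      have := S.mc.comm_mem' (x := s) (inv_mem he)
      rwa [show i' - 1 + 1 = i' by omega] at this
    have h2 : ((((ρ0 cs ⟨e, heV⟩ : V)⁻¹ * ⟨e, heV⟩ : V) : W 1) : P) = ⁅s, (e : P)⁻¹⁆ := by
      show (s * e * s⁻¹)⁻¹ * (e : P) = _
      rw [commutatorElement_def]
      group
    rw [h2]
    exact h1
  have hfin : Finite C' := inferInstance
  have h1 := trace_fix ρ hxp hNorm C' hxC hfix hw ((⟨c, hCA hcC⟩ : A) : A ⧸ I) ⟨⟨c, hCA hcC⟩, hcC, rfl⟩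
  rw [hρ, hρ1, eq_comm, QuotientGroup.eq, hmemN] at h1
  exact h1

end Sit

end Cfsg.Agent.H779.Core
end

-- part: H779/CoreN0
section
/-!
# Block N0 of S5267 (helper779)

* `Sit.le_inn` : a normal subgroup `C` of `A` with `C ⊓ conjGrp (W 1) ≤ inn (W 1)` is inner;
* `Sit.faithful` : `A / inn (W 1)` is faithful on `W i / W i'`, `i + 2 ≤ i'`;
* `Sit.no_three` : no three consecutive terms `W i, W (i + 1), W (i + 2)` are invariant under `A` unless `conjGrp (W 1)` is
  normal in `A`.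
-/

set_option autoImplicit false
set_option linter.unusedSectionVars false

namespace Cfsg.Agent.H779.Core

open Subgroup Cfsg.Agent.H467.MaxClass Cfsg.Agent.H786
open scoped commutatorElement

universe u

variable {P : Type u} [Group P] {p n : ℕ} {W : ℕ → Subgroup P} [hN1 : (W 1).Normal] {A : Subgroup (MulAut (W 1))}
variable [hp : Fact p.Prime] [Finite P]

namespace Sit

theorem cons_triv (S : Sit p n W A) {i i' : ℕ} (hc : Cons n W A i i') {C : Subgroup (MulAut (W 1))} (hCA : C ≤ A)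
    (hn : ∀ a ∈ A, ∀ c ∈ C, a * c * a⁻¹ ∈ C) (hCc : C ⊓ conjGrp (W 1) ≤ inn (W 1)) :
    ∀ c ∈ C, ∀ e : W 1, (e : P) ∈ W i → (e : P)⁻¹ * ((c e : W 1) : P) ∈ W i' := by
  have hi1 := hc.one_le
  have hlt := hc.lt
  have hle := hc.le
  have hWi' := S.mc.normal i'
  have hBn : (BB W i').Normal := Subgroup.normal_subgroupOf
  let U : Subgroup (W 1) :=
    { carrier := {e | e ∈ BB W i ∧ ∀ c ∈ C, e⁻¹ * c e ∈ BB W i'}
      mul_mem' := by
        rintro e f ⟨he, he2⟩ ⟨hf, hf2⟩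
        refine ⟨mul_mem he hf, fun c hc => ?_⟩
        have h1 := hBn.conj_mem _ (he2 c hc) f⁻¹
        have h2 : (e * f)⁻¹ * c (e * f) = f⁻¹ * (e⁻¹ * c e) * f⁻¹⁻¹ * (f⁻¹ * c f) := by
          rw [map_mul]; group
        rw [h2]
        exact mul_mem h1 (hf2 c hc)
      one_mem' := ⟨one_mem _, fun c _ => by rw [map_one, inv_one, mul_one]; exact one_mem _⟩
      inv_mem' := by
        rintro e ⟨he, he2⟩
        refine ⟨inv_mem he, fun c hc => ?_⟩
        have h1 := hBn.conj_mem _ (inv_mem (he2 c hc)) e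
        have h2 : e⁻¹⁻¹ * c e⁻¹ = e * (e⁻¹ * c e)⁻¹ * e⁻¹ := by
          rw [map_inv]; group
        rw [h2]
        exact h1 }
  have hU : ∀ e, e ∈ U ↔ e ∈ BB W i ∧ ∀ c ∈ C, e⁻¹ * c e ∈ BB W i' := fun e => Iff.rfl
  have hinv : Inv A U := by
    intro a ha e he
    obtain ⟨he1, he2⟩ := (hU e).1 he
    refine (hU _).2 ⟨hc.inv a ha e he1, fun c hcC => ?_⟩
    have h1 : a (e⁻¹ * (a⁻¹ * c * a) e) ∈ BB W i' := hc.inv' a ha _ (mem_BB.1 (he2 (a⁻¹ * c * a) (by
      have := hn a⁻¹ (A.inv_mem ha) c hcC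
      rwa [inv_inv] at this)))
    have h2 : a (e⁻¹ * (a⁻¹ * c * a) e) = (a e)⁻¹ * c (a e) := by
      rw [map_mul, map_inv]
      congr 1
      show a (a⁻¹ (c (a e))) = _
      rw [MulAut.apply_inv_self]
    rw [← h2]
    exact h1
  obtain ⟨j, hj1, hj2, hj⟩ := class_of_inv S.mc U (fun a ha => hinv a (S.conj_le ha))
  obtain ⟨e0, he0, he0'⟩ := S.mc.ne_succ (show i' - 1 < n by omega)
  rw [show i' - 1 + 1 = i' by omega] at he0'
  have he01 : e0 ∈ W 1 := S.mc.antitone (by omega) he0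
  have h0 : (⟨e0, he01⟩ : W 1) ∈ U :=
    (hU _).2 ⟨S.mc.antitone (by omega) he0, fun c hcC => S.cons_fix hc hCA hn hCc c hcC ⟨e0, he01⟩ he0⟩
  have hji' : j < i' := by
    by_contra hge
    rw [hj] at h0
    exact he0' (S.mc.antitone (not_lt.1 hge) h0)
  have hij : i ≤ j := by
    refine BB_le_iff S.mc hj1 (by omega) ?_
    intro e he
    have h1 : e ∈ U := by rw [hj]; exact he
    exact ((hU e).1 h1).1
  have hij' : j = i := by
    rcases Nat.eq_or_lt_of_le hij with h1 | h1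
    · exact h1.symm
    · exfalso
      apply hc.none j h1 hji'
      rw [AInv_iff]
      rw [hj] at hinv
      exact hinv
  subst hij'
  intro c hcC e he
  have h1 : e ∈ U := by rw [hj]; exact he
  exact ((hU e).1 h1).2 c hcC

omit hN1 in
theorem exists_cons (S : MC P p n W) {i : ℕ} (h1 : 1 ≤ i) (hi : i < n) (hinv : AInv A (W i)) :
    ∃ i', Cons n W A i i' := by
  classical
  have hex : ∃ j, i < j ∧ AInv A (W j) := ⟨n, hi, by
    intro a _ e he
    have h2 : (e : P) = 1 := by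
      rw [S.bot] at he
      exact Subgroup.mem_bot.1 he
    have h3 : e = 1 := Subtype.ext h2
    rw [h3, map_one]
    exact one_mem _⟩
  refine ⟨Nat.find hex, h1, (Nat.find_spec hex).1, ?_, hinv, (Nat.find_spec hex).2, ?_⟩
  · refine Nat.find_min' hex ⟨hi, ?_⟩
    intro a _ e he
    have h2 : (e : P) = 1 := by
      rw [S.bot] at he
      exact Subgroup.mem_bot.1 he
    have h3 : e = 1 := Subtype.ext h2
    rw [h3, map_one]
    exact one_mem _
  · intro j h2 h3 h4
    exact Nat.find_min hex h3 ⟨h2, h4⟩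

/-- **Normal `p'`-subgroups of `A / Inn` are trivial.** -/
theorem le_inn (S : Sit p n W A) {C : Subgroup (MulAut (W 1))} (hCA : C ≤ A)
    (hn : ∀ a ∈ A, ∀ c ∈ C, a * c * a⁻¹ ∈ C) (hCc : C ⊓ conjGrp (W 1) ≤ inn (W 1)) : C ≤ inn (W 1) := by
  have h4 := S.mc.four_le
  intro c hcC
  obtain ⟨k, hk⟩ := exists_pow_coprime (p := p) c
  set b := c ^ p ^ k with hb
  have hbC : b ∈ C := C.pow_mem hcC _
  have key : ∀ m i, n - i = m → 1 ≤ i → AInv A (W i) → ∀ e : W 1, (e : P) ∈ W i → b e = e := by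
    intro m
    induction m using Nat.strong_induction_on with
    | _ m ih =>
      intro i hi h1 hinv e he
      rcases Nat.lt_or_ge i n with h2 | h2
      · obtain ⟨i', hc⟩ := exists_cons S.mc h1 h2 hinv
        have h3 := S.cons_triv hc hCA hn hCc b hbC e he
        have h5 := hc.lt
        have h6 := hc.le
        set u : W 1 := e⁻¹ * b e with hu
        have hbu : b u = u := ih (n - i') (by omega) i' rfl (by omega) hc.inv' u h3
        have hbe : b e = e * u := by rw [hu]; group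
        have hpow : ∀ m : ℕ, (b ^ m) e = e * u ^ m := by
          intro m
          induction m with
          | zero => simp
          | succ m ihm =>
            rw [pow_succ', MulAut.mul_apply, ihm, map_mul, map_pow, hbu, hbe, mul_assoc, ← pow_succ']
        have h7 := hpow (orderOf b)
        rw [pow_orderOf_eq_one, MulAut.one_apply] at h7
        have h8 : u ^ orderOf b = 1 := by
          have : e * u ^ orderOf b = e * 1 := by rw [mul_one]; exact h7.symm
          exact mul_left_cancel this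
        obtain ⟨r, hr⟩ := (S.pgroup.to_subgroup (W 1)) u
        have h9 : orderOf u = 1 := Nat.eq_one_of_dvd_coprimes (Nat.Coprime.pow_right r hk)
          (orderOf_dvd_of_pow_eq_one h8) (orderOf_dvd_of_pow_eq_one hr)
        rw [hbe, orderOf_eq_one_iff.1 h9, mul_one]
      · have h3 : (e : P) = 1 := by
          rw [S.mc.bot_of_le h2] at he
          exact Subgroup.mem_bot.1 he
        have h5 : e = 1 := Subtype.ext h3
        rw [h5, map_one]
  have hb1 : c ^ p ^ k = 1 := by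
    rw [← hb]
    ext e
    have := key _ 1 rfl le_rfl (fun a _ e _ => (a e).2) e e.2
    rw [this]; rfl
  obtain ⟨g, hg, hgc⟩ := S.exists_conj (hCA hcC) hb1
  have h1 : g * c * g⁻¹ ∈ inn (W 1) := hCc ⟨hn g hg c hcC, hgc⟩
  have h2 := inn_conj g⁻¹ h1
  have h3 : g⁻¹ * (g * c * g⁻¹) * g⁻¹⁻¹ = c := by group
  rwa [h3] at h2

end Sit

/-- the automorphisms in `A` acting trivially on `W i / W j` -/
def kst (A : Subgroup (MulAut (W 1))) (i j : ℕ) (hi : AInv A (W i)) : Subgroup (MulAut (W 1)) where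
  carrier := {a | a ∈ A ∧ ∀ e ∈ BB W i, e⁻¹ * a e ∈ BB W j}
  mul_mem' := by
    rintro a b ⟨ha, ha2⟩ ⟨hb, hb2⟩
    refine ⟨mul_mem ha hb, fun e he => ?_⟩
    have h1 : e⁻¹ * (a * b) e = e⁻¹ * b e * ((b e)⁻¹ * a (b e)) := by
      rw [MulAut.mul_apply]; group
    rw [h1]
    exact mul_mem (hb2 e he) (ha2 _ (hi b hb e he))
  one_mem' := ⟨one_mem _, fun e _ => by rw [MulAut.one_apply, inv_mul_cancel]; exact one_mem _⟩
  inv_mem' := by
    rintro a ⟨ha, ha2⟩
    refine ⟨inv_mem ha, fun e he => ?_⟩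
    have h1 := inv_mem (ha2 (a⁻¹ e) (hi a⁻¹ (inv_mem ha) e he))
    rw [MulAut.apply_inv_self, mul_inv_rev, inv_inv] at h1
    exact h1

omit hN1 hp [Finite P] in
theorem mem_kst {i j : ℕ} {hi : AInv A (W i)} {a : MulAut (W 1)} :
    a ∈ kst A i j hi ↔ a ∈ A ∧ ∀ e ∈ BB W i, e⁻¹ * a e ∈ BB W j := Iff.rfl

omit hN1 hp [Finite P] in
theorem kst_conj {i j : ℕ} {hi : AInv A (W i)} (hj : AInv A (W j)) {g a : MulAut (W 1)} (hg : g ∈ A)
    (ha : a ∈ kst A i j hi) : g * a * g⁻¹ ∈ kst A i j hi := by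
  obtain ⟨ha1, ha2⟩ := mem_kst.1 ha
  refine mem_kst.2 ⟨mul_mem (mul_mem hg ha1) (inv_mem hg), fun e he => ?_⟩
  have h1 : g ((g⁻¹ e)⁻¹ * a (g⁻¹ e)) ∈ BB W j := hj g hg _ (mem_BB.1 (ha2 (g⁻¹ e) (hi g⁻¹ (inv_mem hg) e he)))
  rw [map_mul, map_inv, MulAut.apply_inv_self] at h1
  exact h1

namespace Sit

/-- **`A / Inn` is faithful on sections of rank at least 2.** -/
theorem faithful (S : Sit p n W A) {i i' : ℕ} (h1 : 1 ≤ i) (h2 : i + 2 ≤ i') (h3 : i' ≤ n) (hi : AInv A (W i))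
    (hi' : AInv A (W i')) {a : MulAut (W 1)} (ha : a ∈ A)
    (htr : ∀ e : W 1, (e : P) ∈ W i → (e : P)⁻¹ * ((a e : W 1) : P) ∈ W i') : a ∈ inn (W 1) := by
  refine S.le_inn (C := kst A i i' hi) (fun b hb => hb.1) (fun g hg c hc => kst_conj hi' hg hc) ?_ ⟨ha, htr⟩
  rintro c ⟨hc1, hc2⟩
  exact S.mem_inn_of_triv hc2 h1 (by omega) (fun e he => S.mc.antitone h2 (hc1.2 e he))

/-- an element normalizing `conjGrp` and acting trivially on two consecutive factors -/
theorem mem_conjGrp_of_nor (S : Sit p n W A) {i : ℕ} (h1 : 1 ≤ i) (h2 : i + 2 ≤ n) {a : MulAut (W 1)} (ha : a ∈ A)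
    (hn : Nor a) (ht1 : ∀ e : W 1, (e : P) ∈ W i → (e : P)⁻¹ * ((a e : W 1) : P) ∈ W (i + 1))
    (ht2 : ∀ e : W 1, (e : P) ∈ W (i + 1) → (e : P)⁻¹ * ((a e : W 1) : P) ∈ W (i + 2)) : a ∈ conjGrp (W 1) := by
  obtain ⟨s, hs⟩ := S.exists_s
  obtain ⟨y, hy⟩ := hn s
  obtain ⟨k, hk⟩ := exists_pow S.mc (i := 0) (by omega) (a := s) (by rw [S.mc.zero]; trivial) hs (b := y)
    (by rw [S.mc.zero]; trivial)
  set w := (s ^ k)⁻¹ * y with hw
  have hyk : y = s ^ k * w := by rw [hw]; group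
  obtain ⟨w1, hw1, hw1'⟩ := S.mc.ne_succ (show i < n by omega)
  have hw11 : w1 ∈ W 1 := S.mc.antitone h1 hw1
  set f : P := ⁅w1, s⁆ with hf
  have hf1 : f ∈ W (i + 1) := S.mc.comm_mem hw1
  have hf2 : f ∉ W (i + 2) := comm_notMem S.mc S.deg hs h1 (by omega) hw1 hw1'
  have hf3 : f ∈ W 1 := S.mc.antitone (by omega) hf1
  have h3 : ((a ⟨f, hf3⟩ : W 1) : P) = ⁅((a ⟨w1, hw11⟩ : W 1) : P), y⁆ :=
    apply_comm hy (e := ⟨w1, hw11⟩) (f := ⟨f, hf3⟩) rfl
  set B : P := ((a ⟨w1, hw11⟩ : W 1) : P) with hB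
  have hn2 := S.mc.normal (i + 2)
  set q := QuotientGroup.mk' (W (i + 2)) with hq
  have hq1 : ∀ y : P, y ∈ W (i + 2) ↔ q y = 1 := fun y => (QuotientGroup.eq_one_iff y).symm
  have hcen : ∀ y ∈ W (i + 1), ∀ z : P, Commute (q y) (q z) := by
    intro y hy z
    have h3 := (hq1 _).1 (S.mc.comm_mem hy (x := z))
    rw [map_commutatorElement] at h3
    exact commutatorElement_eq_one_iff_mul_comm.1 h3
  have hcf : ∀ x, Commute ⁅q w1, q s⁆ x := by
    intro x
    obtain ⟨z, rfl⟩ := QuotientGroup.mk'_surjective _ x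
    have := hcen f hf1 z
    rwa [hf, map_commutatorElement] at this
  set v := w1⁻¹ * B with hv
  have hv1 : v ∈ W (i + 1) := ht1 ⟨w1, hw11⟩ hw1
  have hBv : B = w1 * v := by rw [hv]; group
  have h4 : q ⁅B, y⁆ = ⁅q w1, q s⁆ ^ k := by
    have h5 : Commute (q v) (q y) := hcen v hv1 y
    have h6 : q ⁅B, y⁆ = ⁅q w1, q y⁆ := by
      rw [hBv, map_commutatorElement, map_mul, commutatorElement_def, commutatorElement_def, mul_inv_rev]
      calc q w1 * q v * q y * ((q v)⁻¹ * (q w1)⁻¹) * (q y)⁻¹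
          = q w1 * (q v * q y * (q v)⁻¹) * (q w1)⁻¹ * (q y)⁻¹ := by group
        _ = q w1 * q y * (q w1)⁻¹ * (q y)⁻¹ := by rw [h5.eq, mul_inv_cancel_right]
    have h7 : ⁅q w1, q w⁆ = 1 := by
      rw [← map_commutatorElement]
      exact (hq1 _).1 (S.deg i 1 h1 le_rfl (commutator_mem_commutator hw1 hk))
    have h8 : ⁅q w1, q s ^ k * q w⁆ = ⁅q w1, q s ^ k⁆ * (q s ^ k * ⁅q w1, q w⁆ * (q s ^ k)⁻¹) := by
      simp only [commutatorElement_def]; group
    rw [h6, hyk, map_mul, map_pow, h8, h7, mul_one, mul_inv_cancel, mul_one]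
    exact comm_pow_right hcf k
  have h5 : ⁅q w1, q s⁆ ^ k = ⁅q w1, q s⁆ := by
    rw [← h4, ← h3]
    have h6 := (hq1 _).1 (ht2 ⟨f, hf3⟩ hf1)
    rw [map_mul, map_inv] at h6
    have h7 := (inv_mul_eq_one.1 h6).symm
    rw [h7]
    exact map_commutatorElement q w1 s
  have hord : orderOf ⁅q w1, q s⁆ = p := by
    have h6 : ⁅q w1, q s⁆ = q f := (map_commutatorElement q w1 s).symm
    rw [h6]
    refine orderOf_eq_prime ?_ ?_
    · rw [← map_pow]
      exact (hq1 _).1 (S.mc.pow_p_mem hf1)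
    · intro h8
      exact hf2 ((hq1 _).2 h8)
  have hk0 : 1 ≤ k := by
    rcases Nat.eq_zero_or_pos k with h6 | h6
    · exfalso
      rw [h6, pow_zero] at h5
      have : orderOf ⁅q w1, q s⁆ = 1 := orderOf_eq_one_iff.2 h5.symm
      rw [hord] at this
      exact hp.out.ne_one this
    · exact h6
  have hkp : p ∣ k - 1 := by
    have h6 : ⁅q w1, q s⁆ ^ k = ⁅q w1, q s⁆ ^ 1 := by rw [h5, pow_one]
    have h7 := pow_eq_pow_iff_modEq.1 h6
    rw [hord] at h7
    exact (Nat.modEq_iff_dvd' hk0).1 h7.symm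
  refine S.mem_conjGrp ha hs ?_
  rw [hy]
  have h6 : y * s⁻¹ ∈ W 1 := by
    obtain ⟨c, hc⟩ := hkp
    have h7 : y * s⁻¹ = (s ^ p) ^ c * (s * w * s⁻¹) := by
      rw [← pow_mul, ← hc, hyk]
      have : s ^ k = s ^ (k - 1) * s := by rw [← pow_succ]; congr 1; omega
      rw [this]
      group
    rw [h7]
    exact mul_mem (pow_mem (S.mc.pow_index_mem s) c) (hN1.conj_mem w hk s)
  have h7 : MulAut.conjNormal (H := W 1) y * (MulAut.conjNormal (H := W 1) s)⁻¹ =
      MulAut.conjNormal (H := W 1) (y * s⁻¹) := by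
    rw [map_mul, map_inv]
  rw [h7]
  exact conjNormal_mem_inn h6

end Sit

end Cfsg.Agent.H779.Core
end

-- part: H779/CoreThreeInv
section
/-!
# No three consecutive invariant terms (helper779, part of S5267)
-/

set_option autoImplicit false
set_option linter.unusedSectionVars false

namespace Cfsg.Agent.H779.Core

open Subgroup Cfsg.Agent.H467.MaxClass Cfsg.Agent.H786
open scoped commutatorElement

universe u

variable {P : Type u} [Group P] {p n : ℕ} {W : ℕ → Subgroup P} [hN1 : (W 1).Normal] {A : Subgroup (MulAut (W 1))}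
variable [hp : Fact p.Prime] [Finite P]

/-- coprime powers in a subgroup -/
theorem mem_of_pow_coprime {G : Type*} [Group G] (I : Subgroup G) {a : G} {m k : ℕ} (hmk : Nat.Coprime m k)
    (h1 : a ^ m ∈ I) (h2 : a ^ k ∈ I) : a ∈ I := by
  have hb : (m : ℤ) * Nat.gcdA m k + (k : ℤ) * Nat.gcdB m k = 1 := by
    have h := Nat.gcd_eq_gcd_ab m k
    rw [hmk.gcd_eq_one] at h
    rw [← h]; rfl
  have h3 : a = (a ^ m) ^ (Nat.gcdA m k) * (a ^ k) ^ (Nat.gcdB m k) := by
    calc a = a ^ (1 : ℤ) := (zpow_one a).symm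
      _ = a ^ ((m : ℤ) * Nat.gcdA m k + (k : ℤ) * Nat.gcdB m k) := by rw [hb]
      _ = _ := by rw [zpow_add, zpow_mul, zpow_mul, zpow_natCast, zpow_natCast]
  rw [h3]
  exact mul_mem (zpow_mem h1 _) (zpow_mem h2 _)

namespace Sit

/-- Burnside: a normal subgroup `K ≥ conjGrp` of `A` in which `conjGrp` is self-normalizing is `conjGrp`. -/
theorem eq_conjGrp (S : Sit p n W A) {K : Subgroup (MulAut (W 1))} (hKA : K ≤ A)
    (hKn : ∀ a ∈ A, ∀ c ∈ K, a * c * a⁻¹ ∈ K) (hcK : conjGrp (W 1) ≤ K)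
    (hself : ∀ a ∈ K, Nor a → a ∈ conjGrp (W 1)) : K ≤ conjGrp (W 1) := by
  have hIc := inn_le_conjGrp (W := W)
  let I : Subgroup K := (inn (W 1)).subgroupOf K
  have hIn : I.Normal := ⟨fun c hc g => inn_conj (g : MulAut (W 1)) hc⟩
  -- the Sylow subgroup of `K`
  have hpc : IsPGroup p (conjGrp (W 1)) := by
    have : IsPGroup p (MulAut.conjNormal (H := W 1)).range :=
      S.pgroup.of_surjective (MulAut.conjNormal (H := W 1)).rangeRestrict
        (MulAut.conjNormal (H := W 1)).rangeRestrict_surjective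
    exact this
  let T : Sylow p K := IsPGroup.toSylow (P := (conjGrp (W 1)).subgroupOf K)
    (hpc.comap_of_injective _ (Subgroup.subtype_injective K))
    (fun hd => S.sylow (hd.trans (Dvd.intro _ (Subgroup.relIndex_mul_relIndex _ _ _ hcK hKA))))
  have hT : ∀ a : K, a ∈ (T : Subgroup K) ↔ (a : MulAut (W 1)) ∈ conjGrp (W 1) := fun a => Iff.rfl
  let T' : Sylow p (K ⧸ I) := T.mapSurjective (f := QuotientGroup.mk' I) (QuotientGroup.mk'_surjective I)
  have hT' : ∀ a : K, (a : K ⧸ I) ∈ (T' : Subgroup (K ⧸ I)) ↔ (a : MulAut (W 1)) ∈ conjGrp (W 1) := by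
    intro a
    constructor
    · rintro ⟨b, hb, hba⟩
      have h1 : b⁻¹ * a ∈ I := QuotientGroup.eq.1 hba
      have h2 : (b : MulAut (W 1))⁻¹ * a ∈ conjGrp (W 1) := hIc h1
      have h3 := mul_mem ((hT b).1 hb) h2
      rwa [mul_inv_cancel_left] at h3
    · intro ha
      exact ⟨a, ha, rfl⟩
  have hNC : Subgroup.normalizer ((T' : Subgroup (K ⧸ I)) : Set (K ⧸ I)) ≤
      Subgroup.centralizer ((T' : Subgroup (K ⧸ I)) : Set (K ⧸ I)) := by
    intro a ha
    obtain ⟨a, rfl⟩ := QuotientGroup.mk'_surjective I a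
    rw [QuotientGroup.mk'_apply] at ha ⊢
    have h1 : (a : MulAut (W 1)) ∈ conjGrp (W 1) := by
      refine hself a a.2 fun x => ?_
      have h2 : ((⟨MulAut.conjNormal (H := W 1) x, hcK ⟨x, rfl⟩⟩ : K) : K ⧸ I) ∈ (T' : Subgroup (K ⧸ I)) :=
        (hT' _).2 ⟨x, rfl⟩
      have h3 := (Subgroup.mem_normalizer_iff.1 ha _).1 h2
      rw [← QuotientGroup.mk_mul, ← QuotientGroup.mk_inv, ← QuotientGroup.mk_mul, hT'] at h3
      obtain ⟨y, hy⟩ := h3
      exact ⟨y, hy.symm⟩
    rw [Subgroup.mem_centralizer_iff]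
    intro b hb
    obtain ⟨b, rfl⟩ := QuotientGroup.mk'_surjective I b
    rw [QuotientGroup.mk'_apply] at hb ⊢
    have h2 := (hT' b).1 hb
    obtain ⟨x, hx⟩ := h1
    obtain ⟨y, hy⟩ := h2
    rw [← QuotientGroup.mk_mul, ← QuotientGroup.mk_mul, QuotientGroup.eq]
    show ((b : MulAut (W 1)) * a)⁻¹ * (a * b) ∈ inn (W 1)
    have h3 : ((b : MulAut (W 1)) * a)⁻¹ * (a * b) = MulAut.conjNormal (H := W 1) ⁅x⁻¹, y⁻¹⁆ := by
      rw [← hx, ← hy, commutatorElement_def]
      simp only [map_mul, map_inv, mul_inv_rev, inv_inv]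
      group
    rw [h3]
    refine conjNormal_mem_inn ?_
    have h4 : ⁅x⁻¹, y⁻¹⁆ ∈ W 2 := by
      rw [← S.mc.comm_top]
      exact commutator_mem_commutator (Subgroup.mem_top _) (Subgroup.mem_top _)
    exact S.mc.le_succ 1 h4
  -- the normal complement
  let τ := MonoidHom.transferSylow T' hNC
  let C : Subgroup (MulAut (W 1)) := ((τ.ker).comap (QuotientGroup.mk' I)).map K.subtype
  have hC : ∀ a : MulAut (W 1), a ∈ C ↔ a ∈ K ∧ ∃ m, Nat.Coprime m p ∧ a ^ m ∈ inn (W 1) := by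
    intro a
    constructor
    · rintro ⟨b, hb, rfl⟩
      refine ⟨b.2, Nat.card τ.ker, ?_, ?_⟩
      · exact ((Nat.Prime.coprime_iff_not_dvd hp.out).2 (MonoidHom.not_dvd_card_ker_transferSylow T' hNC)).symm
      · have h1 : (⟨(b : K ⧸ I), hb⟩ : τ.ker) ^ Nat.card τ.ker = 1 := pow_card_eq_one'
        have h2 : ((b : K) : K ⧸ I) ^ Nat.card τ.ker = 1 := congrArg Subtype.val h1
        rw [← QuotientGroup.mk_pow, QuotientGroup.eq_one_iff] at h2
        exact h2
    · rintro ⟨haK, m, hm, ham⟩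
      refine ⟨⟨a, haK⟩, ?_, rfl⟩
      show τ ((⟨a, haK⟩ : K) : K ⧸ I) = 1
      have h1 : (((⟨a, haK⟩ : K) : K ⧸ I)) ^ m = 1 := by
        rw [← QuotientGroup.mk_pow, QuotientGroup.eq_one_iff]
        exact ham
      have h2 : τ ((⟨a, haK⟩ : K) : K ⧸ I) ^ m = 1 := by rw [← map_pow, h1, map_one]
      obtain ⟨k, hk⟩ := T'.2 (τ ((⟨a, haK⟩ : K) : K ⧸ I))
      have h3 := Nat.eq_one_of_dvd_coprimes (Nat.Coprime.pow_right k hm) (orderOf_dvd_of_pow_eq_one h2)
        (orderOf_dvd_of_pow_eq_one hk)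
      exact orderOf_eq_one_iff.1 h3
  have hCle : C ≤ inn (W 1) := by
    refine S.le_inn (C := C) (fun a ha => hKA ((hC a).1 ha).1) ?_ ?_
    · intro g hg c hc
      obtain ⟨h1, m, h2, h3⟩ := (hC c).1 hc
      refine (hC _).2 ⟨hKn g hg c h1, m, h2, ?_⟩
      rw [conj_pow]
      exact inn_conj g h3
    · rintro c ⟨hc1, hc2⟩
      obtain ⟨-, m, h2, h3⟩ := (hC c).1 hc1
      exact mem_of_pow_coprime _ h2 h3 (S.pow_mem_inn hc2)
  have hker : τ.ker = ⊥ := by
    rw [eq_bot_iff]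
    intro x hx
    obtain ⟨a, rfl⟩ := QuotientGroup.mk'_surjective I x
    have h1 : (a : MulAut (W 1)) ∈ C := ⟨a, hx, rfl⟩
    rw [Subgroup.mem_bot, QuotientGroup.mk'_apply, QuotientGroup.eq_one_iff]
    exact hCle h1
  have htop : (T' : Subgroup (K ⧸ I)) = ⊤ := by
    have h1 := MonoidHom.ker_transferSylow_isComplement' T' hNC
    have h2 : (MonoidHom.transferSylow T' hNC).ker = ⊥ := hker
    rw [h2] at h1
    exact Subgroup.isComplement'_bot_left.1 h1
  intro a ha
  have h1 : ((⟨a, ha⟩ : K) : K ⧸ I) ∈ (T' : Subgroup (K ⧸ I)) := by rw [htop]; exact Subgroup.mem_top _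
  exact (hT' _).1 h1

theorem conjGrp_le_kst (S : Sit p n W A) {i : ℕ} (hi : AInv A (W i)) : conjGrp (W 1) ≤ kst A i (i + 1) hi := by
  rintro _ ⟨x, rfl⟩
  refine ⟨S.conj_le ⟨x, rfl⟩, fun e he => ?_⟩
  have h1 : (((e⁻¹ * MulAut.conjNormal (H := W 1) x e : W 1)) : P) = ⁅(e : P)⁻¹, x⁆ := by
    show (e : P)⁻¹ * (x * e * x⁻¹) = _
    rw [commutatorElement_def]
    group
  rw [mem_BB, h1]
  exact S.mc.comm_mem (inv_mem he)

/-- **No three consecutive invariant terms.** -/
theorem no_three (S : Sit p n W A) (hnn : ∃ a ∈ A, ¬ Nor a) {i : ℕ} (h1 : 1 ≤ i) (h2 : i + 2 ≤ n)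
    (hi : AInv A (W i)) (hi1 : AInv A (W (i + 1))) (hi2 : AInv A (W (i + 2))) : False := by
  set K := kst A i (i + 1) hi ⊓ kst A (i + 1) (i + 2) hi1 with hK
  have hKA : K ≤ A := fun a ha => ha.1.1
  have hKn : ∀ a ∈ A, ∀ c ∈ K, a * c * a⁻¹ ∈ K := fun a ha c hc =>
    ⟨kst_conj hi1 ha hc.1, kst_conj hi2 ha hc.2⟩
  have hcK : conjGrp (W 1) ≤ K := fun c hc => ⟨S.conjGrp_le_kst hi hc, S.conjGrp_le_kst hi1 hc⟩
  have hle := S.eq_conjGrp hKA hKn hcK (fun a ha hn =>
    S.mem_conjGrp_of_nor h1 h2 (hKA ha) hn ha.1.2 ha.2.2)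
  obtain ⟨a, ha, hna⟩ := hnn
  apply hna
  intro x
  obtain ⟨y, hy⟩ := hle (hKn a ha _ (hcK ⟨x, rfl⟩))
  exact ⟨y, hy.symm⟩

end Sit

end Cfsg.Agent.H779.Core
end
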