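import Cfsg.Agent.H779.NPCRep
import Cfsg.Agent.H786.Weight
import Mathlib
set_option linter.all false

-- part: H779/NPCProp
section
/-!
# Properties of the chief factors of `A` in `W 1` (helper779, block NPC of S5267)
-/

set_option autoImplicit false
set_option linter.unusedSectionVars false

namespace Cfsg.Agent.H779.Core

open Subgroup Cfsg.Agent.H467.MaxClass Cfsg.Agent.H786
open scoped commutatorElement

universe u v

variable {P : Type u} [Group P] {p n : ℕ} {W : ℕ → Subgroup P} [hN1 : (W 1).Normal] {A : Subgroup (MulAut (W 1))}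
variable [hp : Fact p.Prime] [Finite P]

/-- `ρ` is the representation of `A` on `W i / W i'` -/
structure IsRep (i i' : ℕ) {B : Type u} [AddCommGroup B] [Module (ZMod p) B] (ρ : Representation (ZMod p) (Abar W A) B)
    (π : BB W i →* Multiplicative B) : Prop where
  surj : Function.Surjective π
  ker : ∀ e, π e = 1 ↔ ((e : W 1) : P) ∈ W i'
  equi : ∀ (a : A) (e f : BB W i), (f : W 1) = (a : MulAut (W 1)) e → ρ (a : Abar W A) (π e).toAdd = (π f).toAdd

namespace IsRep

variable {i i' : ℕ} {B : Type u} [AddCommGroup B] [Module (ZMod p) B] {ρ : Representation (ZMod p) (Abar W A) B}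
    {π : BB W i →* Multiplicative B}

theorem finite (h : IsRep i i' ρ π) : Finite B := by
  have : Finite (BB W i) := inferInstance
  have h1 : Finite (Multiplicative B) := Finite.of_surjective π h.surj
  exact h1

theorem card (S : Sit p n W A) (hc : Cons n W A i i') (h : IsRep i i' ρ π) : Nat.card B = p ^ (i' - i) := by
  have h1 := hc.one_le
  have h2 := hc.lt
  have h3 := hc.le
  have hcard : ∀ j, 1 ≤ j → j ≤ n → Nat.card (BB W j) = p ^ (n - j) := by
    intro j hj hjn
    have h4 := S.mc.card_W (n - j) (by omega)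
    rw [show n - (n - j) = j by omega] at h4
    rw [← h4]
    exact Nat.card_congr (Subgroup.subgroupOfEquivOfLe (S.mc.antitone hj)).toEquiv
  have hk : π.ker = (BB W i').subgroupOf (BB W i) := by
    ext e
    exact h.ker e
  have hkc : Nat.card π.ker = p ^ (n - i') := by
    rw [hk, ← hcard i' (by omega) h3]
    exact Nat.card_congr (Subgroup.subgroupOfEquivOfLe (BB_mono S.mc h2.le)).toEquiv
  have h5 : Nat.card (BB W i) = Nat.card B * Nat.card π.ker := by
    rw [Subgroup.card_eq_card_quotient_mul_card_subgroup π.ker]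
    congr 1
    exact Nat.card_congr (QuotientGroup.quotientKerEquivOfSurjective π h.surj).toEquiv
  rw [hcard i h1 (by omega), hkc] at h5
  have h6 : p ^ (n - i) = p ^ (i' - i) * p ^ (n - i') := by rw [← pow_add]; congr 1; omega
  rw [h6] at h5
  exact (Nat.eq_of_mul_eq_mul_right (pow_pos hp.out.pos _) h5).symm

theorem finrank (S : Sit p n W A) (hc : Cons n W A i i') (h : IsRep i i' ρ π) : Module.finrank (ZMod p) B = i' - i := by
  have := h.finite
  have h1 : Nat.card B = p ^ Module.finrank (ZMod p) B := by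
    have h2 := Module.natCard_eq_pow_finrank (K := ZMod p) (V := B)
    rwa [Nat.card_zmod] at h2
  rw [h.card S hc] at h1
  exact (Nat.pow_right_injective hp.out.two_le h1).symm

theorem irr (S : Sit p n W A) (hc : Cons n W A i i') (h : IsRep i i' ρ π) (U : Submodule (ZMod p) B)
    (hU : ∀ g, ∀ u ∈ U, ρ g u ∈ U) : U = ⊥ ∨ U = ⊤ := by
  have h1 := hc.one_le
  have h2 := hc.lt
  have h3 := hc.le
  let U' : Subgroup (W 1) :=
    { carrier := {e | ∃ he : e ∈ BB W i, (π ⟨e, he⟩).toAdd ∈ U}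
      mul_mem' := by
        rintro e f ⟨he, he2⟩ ⟨hf, hf2⟩
        refine ⟨mul_mem he hf, ?_⟩
        have : (⟨e * f, mul_mem he hf⟩ : BB W i) = ⟨e, he⟩ * ⟨f, hf⟩ := rfl
        rw [this, map_mul, toAdd_mul]
        exact U.add_mem he2 hf2
      one_mem' := ⟨one_mem _, by
        have : (⟨1, one_mem _⟩ : BB W i) = 1 := rfl
        rw [this, map_one]
        exact U.zero_mem⟩
      inv_mem' := by
        rintro e ⟨he, he2⟩
        refine ⟨inv_mem he, ?_⟩
        have : (⟨e⁻¹, inv_mem he⟩ : BB W i) = (⟨e, he⟩ : BB W i)⁻¹ := rfl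
        rw [this, map_inv, toAdd_inv]
        exact U.neg_mem he2 }
  have hU' : ∀ e, e ∈ U' ↔ ∃ he : e ∈ BB W i, (π ⟨e, he⟩).toAdd ∈ U := fun e => Iff.rfl
  have hinv : Inv A U' := by
    intro a ha e he
    obtain ⟨he1, he2⟩ := (hU' e).1 he
    refine (hU' _).2 ⟨hc.inv a ha e he1, ?_⟩
    rw [← h.equi ⟨a, ha⟩ ⟨e, he1⟩ ⟨a e, hc.inv a ha e he1⟩ rfl]
    exact hU _ _ he2
  obtain ⟨j, hj1, hj2, hj⟩ := class_of_inv S.mc U' (fun a ha => hinv a (S.conj_le ha))
  have hij : i ≤ j := by
    rcases Nat.lt_or_ge j n with h4 | h4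
    · refine BB_le_iff S.mc hj1 h4 ?_
      intro e he
      have h5 : e ∈ U' := by rw [hj]; exact he
      exact ((hU' e).1 h5).1
    · omega
  have hji : j ≤ i' := by
    rcases Nat.lt_or_ge i' n with h4 | h4
    · refine BB_le_iff S.mc (by omega) h4 ?_
      intro e he
      have h5 : e ∈ U' := by
        refine (hU' e).2 ⟨BB_mono S.mc h2.le he, ?_⟩
        have h6 : π ⟨e, BB_mono S.mc h2.le he⟩ = 1 := (h.ker _).2 he
        rw [h6]
        exact U.zero_mem
      rw [hj] at h5
      exact h5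
    · omega
  have hinvj : AInv A (W j) := by
    rw [AInv_iff, ← hj]
    exact hinv
  rcases Nat.eq_or_lt_of_le hij with h4 | h4
  · right
    rw [eq_top_iff]
    intro v _
    obtain ⟨e, he⟩ := h.surj (Multiplicative.ofAdd v)
    have h5 : (e : W 1) ∈ U' := by
      rw [hj, ← h4]
      exact e.2
    obtain ⟨h6, h7⟩ := (hU' _).1 h5
    have h8 : (π ⟨(e : W 1), h6⟩).toAdd = v := by
      show (π e).toAdd = v
      rw [he]; rfl
    rwa [h8] at h7
  · rcases Nat.eq_or_lt_of_le hji with h5 | h5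
    · left
      rw [eq_bot_iff]
      intro v hv
      obtain ⟨e, he⟩ := h.surj (Multiplicative.ofAdd v)
      have h6 : (e : W 1) ∈ U' := by
        refine (hU' _).2 ⟨e.2, ?_⟩
        show (π e).toAdd ∈ U
        rw [he]
        exact hv
      rw [hj, h5] at h6
      have h7 := (h.ker e).2 h6
      rw [h7] at he
      rw [Submodule.mem_bot]
      exact (Multiplicative.ofAdd.injective he).symm
    · exact (hc.none j h4 h5 hinvj).elim

theorem inj (S : Sit p n W A) (hc : Cons n W A i i') (h : IsRep i i' ρ π) (h2 : i + 2 ≤ i') : Function.Injective ρ := by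
  rw [injective_iff_map_eq_one]
  intro g hg
  obtain ⟨a, rfl⟩ := QuotientGroup.mk'_surjective _ g
  rw [QuotientGroup.mk'_apply] at hg ⊢
  rw [QuotientGroup.eq_one_iff]
  refine S.faithful hc.one_le h2 hc.le hc.inv hc.inv' a.2 fun e he => ?_
  have h3 := h.equi a ⟨e, he⟩ ⟨(a : MulAut (W 1)) e, hc.inv a a.2 e he⟩ rfl
  rw [hg, Module.End.one_apply] at h3
  have h4 : π (⟨e, he⟩⁻¹ * ⟨(a : MulAut (W 1)) e, hc.inv a a.2 e he⟩) = 1 := by
    rw [map_mul, map_inv, inv_mul_eq_one]
    exact Multiplicative.toAdd.injective h3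
  exact (h.ker _).1 h4

/-- the class of conjugation by `s` -/
def xb (S : Sit p n W A) (s : P) : Abar W A := ((⟨MulAut.conjNormal (H := W 1) s, S.conj_le ⟨s, rfl⟩⟩ : A) : Abar W A)

theorem reg (S : Sit p n W A) (hc : Cons n W A i i') (h : IsRep i i' ρ π) {s : P} (hs : s ∉ W 1) :
    (ρ (xb S s) - 1) ^ (i' - i - 1) ≠ 0 := by
  have h1 := hc.one_le
  have h2 := hc.lt
  have h3 := hc.le
  obtain ⟨w, hw, hw'⟩ := S.mc.ne_succ (show i < n by omega)
  have hw1 : w ∈ W 1 := S.mc.antitone h1 hw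
  have key : ∀ m, i + m < i' → ∃ e : BB W i, ((e : W 1) : P) ∈ W (i + m) ∧ ((e : W 1) : P) ∉ W (i + m + 1) ∧
      ((ρ (xb S s) - 1) ^ m) (π ⟨⟨w, hw1⟩, hw⟩).toAdd = (π e).toAdd := by
    intro m
    induction m with
    | zero => intro _; exact ⟨⟨⟨w, hw1⟩, hw⟩, hw, hw', rfl⟩
    | succ m ih =>
      intro hm
      obtain ⟨e, he, he', h4⟩ := ih (by omega)
      have hse : MulAut.conjNormal (H := W 1) s (e : W 1) ∈ BB W i := hc.inv _ (S.conj_le ⟨s, rfl⟩) e e.2
      set f : BB W i := ⟨MulAut.conjNormal (H := W 1) s (e : W 1), hse⟩ * e⁻¹ with hf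
      have hfP : ((f : W 1) : P) = (⁅((e : W 1) : P), s⁆)⁻¹ := by
        rw [hf, commutatorElement_def]
        show s * e * s⁻¹ * ((e : W 1) : P)⁻¹ = _
        group
      have hf1 := comm_notMem S.mc S.deg hs (show 1 ≤ i + m by omega) (show i + m + 1 < n by omega) he he'
      refine ⟨f, ?_, ?_, ?_⟩
      · rw [hfP]
        exact inv_mem (S.mc.comm_mem he)
      · rw [hfP]
        intro h5
        exact hf1 (inv_mem_iff.1 h5)
      · rw [pow_succ', Module.End.mul_apply, h4, LinearMap.sub_apply, Module.End.one_apply]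
        have h5 := h.equi ⟨MulAut.conjNormal (H := W 1) s, S.conj_le ⟨s, rfl⟩⟩ e
          ⟨MulAut.conjNormal (H := W 1) s (e : W 1), hse⟩ rfl
        have h6 : ρ (xb S s) (π e).toAdd = (π ⟨MulAut.conjNormal (H := W 1) s (e : W 1), hse⟩).toAdd := h5
        rw [h6, hf, map_mul, map_inv, toAdd_mul, toAdd_inv, sub_eq_add_neg]
  intro h0
  obtain ⟨e, he, he', h4⟩ := key (i' - i - 1) (by omega)
  rw [h0, LinearMap.zero_apply] at h4
  apply he'
  rw [show i + (i' - i - 1) + 1 = i' by omega, ← h.ker]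
  exact Multiplicative.toAdd.injective h4.symm

end IsRep

end Cfsg.Agent.H779.Core
end

-- part: H779/NPCGrp
section
/-!
# The group `A / Inn (W 1)` (helper779, block NPC of S5267)
-/

set_option autoImplicit false
set_option linter.unusedSectionVars false

namespace Cfsg.Agent.H779.Core

open Subgroup Cfsg.Agent.H467.MaxClass Cfsg.Agent.H786
open scoped commutatorElement

universe u v

variable {P : Type u} [Group P] {p n : ℕ} {W : ℕ → Subgroup P} [hN1 : (W 1).Normal] {A : Subgroup (MulAut (W 1))}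
variable [hp : Fact p.Prime] [Finite P]

namespace Sit

open IsRep

theorem xb_pow (S : Sit p n W A) (s : P) : xb S s ^ p = 1 := by
  rw [xb, ← QuotientGroup.mk_pow, QuotientGroup.eq_one_iff]
  exact S.pow_mem_inn ⟨s, rfl⟩

theorem conjNormal_mem_inn_iff (S : Sit p n W A) {s : P} : MulAut.conjNormal (H := W 1) s ∈ inn (W 1) ↔ s ∈ W 1 := by
  have h4 := S.mc.four_le
  refine ⟨fun h => ?_, conjNormal_mem_inn⟩
  obtain ⟨w, hw⟩ := h
  by_contra hs
  have hx : s * (w : P)⁻¹ ∉ W 1 := fun h1 => hs (by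
    have := mul_mem h1 w.2
    rwa [inv_mul_cancel_right] at this)
  apply notMem_Ksub' S.mc S.deg hx le_rfl (show 1 + 1 < n by omega)
  rw [S.mc.mem_Ksub]
  intro v hv
  have h1 : MulAut.conjNormal (H := W 1) (s * (w : P)⁻¹) = 1 := by
    rw [map_mul, map_inv, ← hw, ← conj_eq, mul_inv_cancel]
  have h2 : ((MulAut.conjNormal (H := W 1) (s * (w : P)⁻¹) ⟨v, hv⟩ : W 1) : P) = v := by rw [h1]; rfl
  have h3 : (s * (w : P)⁻¹) * v * (s * (w : P)⁻¹)⁻¹ = v := h2
  have h5 : ⁅v, s * (w : P)⁻¹⁆ = 1 := by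
    rw [commutatorElement_eq_one_iff_mul_comm]
    exact (mul_inv_eq_iff_eq_mul.1 h3).symm
  rw [h5]
  exact one_mem _

theorem orderOf_xb (S : Sit p n W A) {s : P} (hs : s ∉ W 1) : orderOf (xb S s) = p := by
  refine orderOf_eq_prime (S.xb_pow s) ?_
  intro h
  rw [xb, QuotientGroup.eq_one_iff] at h
  exact hs (S.conjNormal_mem_inn_iff.1 h)

theorem relIndex_inn (S : Sit p n W A) : (inn (W 1)).relIndex (conjGrp (W 1)) ∣ p := by
  have h1 : ((inn (W 1)).comap (MulAut.conjNormal (H := W 1))).index = (inn (W 1)).relIndex (conjGrp (W 1)) :=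
    Subgroup.index_comap _ _
  rw [← h1]
  have h2 : W 1 ≤ (inn (W 1)).comap (MulAut.conjNormal (H := W 1)) := fun w hw => conjNormal_mem_inn hw
  have h3 := Subgroup.index_dvd_of_le h2
  rwa [S.mc.W1_index] at h3

theorem not_sq_dvd (S : Sit p n W A) : ¬ p ^ 2 ∣ Nat.card (Abar W A) := by
  intro hd
  have h1 : Nat.card (Abar W A) = (inn (W 1)).relIndex A := rfl
  rw [h1, ← Subgroup.relIndex_mul_relIndex _ _ _ inn_le_conjGrp S.conj_le] at hd
  have h2 : p ^ 2 ∣ p * (conjGrp (W 1)).relIndex A := hd.trans (Nat.mul_dvd_mul_right S.relIndex_inn _)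
  rw [pow_two] at h2
  exact S.sylow (Nat.dvd_of_mul_dvd_mul_left hp.out.pos h2)

theorem mem_zpowers_xb (S : Sit p n W A) {s : P} (hs : s ∉ W 1) {a : A} (ha : (a : MulAut (W 1)) ∈ conjGrp (W 1)) :
    (a : Abar W A) ∈ Subgroup.zpowers (xb S s) := by
  obtain ⟨y, hy⟩ := ha
  obtain ⟨k, w, hw, rfl⟩ := exists_zp S.mc hs y
  refine ⟨k, ?_⟩
  show xb S s ^ k = _
  rw [xb, ← QuotientGroup.mk_zpow, QuotientGroup.eq]
  show (MulAut.conjNormal (H := W 1) s ^ k)⁻¹ * (a : MulAut (W 1)) ∈ inn (W 1)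
  rw [← hy, ← map_zpow, ← map_inv, ← map_mul]
  refine conjNormal_mem_inn ?_
  rwa [inv_mul_cancel_left]

theorem zpowers_xb (S : Sit p n W A) {s : P} {a : A} (ha : (a : Abar W A) ∈ Subgroup.zpowers (xb S s)) :
    (a : MulAut (W 1)) ∈ conjGrp (W 1) := by
  obtain ⟨k, hk⟩ := ha
  have h1 : xb S s ^ k = (a : Abar W A) := hk
  rw [xb, ← QuotientGroup.mk_zpow, QuotientGroup.eq] at h1
  have h2 : (MulAut.conjNormal (H := W 1) s ^ k)⁻¹ * (a : MulAut (W 1)) ∈ inn (W 1) := h1
  have h3 := mul_mem (zpow_mem (show MulAut.conjNormal (H := W 1) s ∈ conjGrp (W 1) from ⟨s, rfl⟩) k)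
    (inn_le_conjGrp h2)
  rwa [mul_inv_cancel_left] at h3

theorem cent_xb (S : Sit p n W A) {s : P} (hs : s ∉ W 1) (g : Abar W A) (hg : Commute g (xb S s)) :
    g ∈ Subgroup.zpowers (xb S s) := by
  obtain ⟨a, rfl⟩ := QuotientGroup.mk'_surjective _ g
  rw [QuotientGroup.mk'_apply] at hg ⊢
  refine S.mem_zpowers_xb hs (S.mem_conjGrp a.2 hs ?_)
  have h1 : (a : Abar W A) * xb S s * (a : Abar W A)⁻¹ * (xb S s)⁻¹ = 1 := by
    rw [hg.eq, mul_inv_cancel_right, mul_inv_cancel]
  rw [xb, ← QuotientGroup.mk_mul, ← QuotientGroup.mk_inv, ← QuotientGroup.mk_inv, ← QuotientGroup.mk_mul,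
    ← QuotientGroup.mk_mul, QuotientGroup.eq_one_iff] at h1
  exact h1

theorem not_normal (S : Sit p n W A) {s : P} (hs : s ∉ W 1) (hnp : ¬ PClosed A) :
    ¬ (Subgroup.zpowers (xb S s)).Normal := by
  intro hn
  apply hnp
  intro a ha c hc
  have h1 := S.mem_zpowers_xb hs (a := ⟨c, S.conj_le hc⟩) hc
  have h2 := hn.conj_mem _ h1 ((⟨a, ha⟩ : A) : Abar W A)
  exact S.zpowers_xb (a := ⟨a, ha⟩ * ⟨c, S.conj_le hc⟩ * (⟨a, ha⟩)⁻¹) h2

theorem exists_not_nor (S : Sit p n W A) (hnp : ¬ PClosed A) : ∃ a ∈ A, ¬ Nor a := by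
  by_contra hcon
  push Not at hcon
  apply hnp
  rintro a ha _ ⟨x, rfl⟩
  obtain ⟨y, hy⟩ := hcon a ha x
  exact ⟨y, hy.symm⟩

end Sit

end Cfsg.Agent.H779.Core
end

-- part: H779/NPC
section
/-!
# Block NPC of S5267 (helper779): the case where `conjGrp (W 1)` is not normal in `A`

`SelfDual p` : the statement of blocks N2 and N3 (pure representation theory).
`dual_or_special_of` : the glue.
-/

set_option autoImplicit false
set_option linter.unusedSectionVars false

namespace Cfsg.Agent.H779.Core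

open Subgroup Cfsg.Agent.H467.MaxClass Cfsg.Agent.H786
open scoped commutatorElement

universe u v

/-- Blocks N2, N3: if `G` (with Sylow subgroup `⟨x⟩` of order `p`, self-centralizing, not normal) has a faithful irreducible
module on which `x` has a single Jordan block of size between `2` and `(p - 1) / 2`, then all irreducible modules of
dimension at most `p - 2` on which `x` has a single Jordan block are self-dual. -/
def SelfDual (p : ℕ) [Fact p.Prime] : Prop :=
  ∀ (G : Type u) [Group G] [Finite G] (x : G), orderOf x = p → ¬ p ^ 2 ∣ Nat.card G →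
    (∀ g, Commute g x → g ∈ Subgroup.zpowers x) → ¬ (Subgroup.zpowers x).Normal →
    ∀ (B : Type u) [AddCommGroup B] [Module (ZMod p) B] [FiniteDimensional (ZMod p) B]
      (ρ : Representation (ZMod p) G B), Function.Injective ρ →
      (∀ U : Submodule (ZMod p) B, (∀ g, ∀ u ∈ U, ρ g u ∈ U) → U = ⊥ ∨ U = ⊤) →
      2 ≤ Module.finrank (ZMod p) B → 2 * Module.finrank (ZMod p) B ≤ p - 1 →
      (ρ x - 1) ^ (Module.finrank (ZMod p) B - 1) ≠ 0 →
    ∀ (B₀ : Type u) [AddCommGroup B₀] [Module (ZMod p) B₀] [FiniteDimensional (ZMod p) B₀]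
      (ρ₀ : Representation (ZMod p) G B₀),
      (∀ U : Submodule (ZMod p) B₀, (∀ g, ∀ u ∈ U, ρ₀ g u ∈ U) → U = ⊥ ∨ U = ⊤) →
      1 ≤ Module.finrank (ZMod p) B₀ → Module.finrank (ZMod p) B₀ ≤ p - 2 →
      (ρ₀ x - 1) ^ (Module.finrank (ZMod p) B₀ - 1) ≠ 0 →
      ∃ e : Module.Dual (ZMod p) B₀ ≃ₗ[ZMod p] B₀, ∀ (g : G) (f : Module.Dual (ZMod p) B₀),
        e (f ∘ₗ ρ₀ g⁻¹) = ρ₀ g (e f)

section theta

/-- the functional of a homomorphism -/
def hatf {p : ℕ} {X : Type u} [Group X] {B : Type u} [AddCommGroup B] [Module (ZMod p) B] (Φ : X ≃* Multiplicative B)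
    (f : X →* Multiplicative (ZMod p)) : Module.Dual (ZMod p) B :=
  AddMonoidHom.toZModLinearMap p
    { toFun := fun b => (f (Φ.symm (Multiplicative.ofAdd b))).toAdd
      map_zero' := by
        rw [ofAdd_zero, map_one, map_one]; rfl
      map_add' := fun b c => by
        rw [ofAdd_add, map_mul, map_mul]; rfl }

theorem hatf_apply {p : ℕ} {X : Type u} [Group X] {B : Type u} [AddCommGroup B] [Module (ZMod p) B]
    (Φ : X ≃* Multiplicative B) (f : X →* Multiplicative (ZMod p)) (b : B) :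
    hatf Φ f b = (f (Φ.symm (Multiplicative.ofAdd b))).toAdd := rfl

theorem exists_theta {p : ℕ} {X : Type u} [Group X] {B : Type u} [AddCommGroup B] [Module (ZMod p) B]
    (Φ : X ≃* Multiplicative B) (e : Module.Dual (ZMod p) B ≃ₗ[ZMod p] B) :
    ∃ θ : (X →* Multiplicative (ZMod p)) →* X, Function.Surjective θ ∧
      ∀ f, Φ (θ f) = Multiplicative.ofAdd (e (hatf Φ f)) := by
  refine ⟨⟨⟨fun f => Φ.symm (Multiplicative.ofAdd (e (hatf Φ f))), ?_⟩, ?_⟩, ?_, ?_⟩
  · have h1 : hatf Φ (1 : X →* Multiplicative (ZMod p)) = 0 := by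
      ext b; rfl
    rw [h1, map_zero, ofAdd_zero, map_one]
  · intro f g
    show Φ.symm _ = Φ.symm _ * Φ.symm _
    have h1 : hatf Φ (f * g) = hatf Φ f + hatf Φ g := by
      ext b; rfl
    rw [h1, map_add, ofAdd_add, map_mul]
  · intro x
    obtain ⟨d, hd⟩ := e.surjective (Φ x).toAdd
    refine ⟨⟨⟨fun y => Multiplicative.ofAdd (d (Φ y).toAdd), ?_⟩, ?_⟩, ?_⟩
    · rw [map_one, toAdd_one, map_zero, ofAdd_zero]
    · intro y z
      show Multiplicative.ofAdd (d (Φ (y * z)).toAdd) = _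
      rw [map_mul, toAdd_mul, map_add, ofAdd_add]
    · show Φ.symm (Multiplicative.ofAdd (e (hatf Φ _))) = x
      rw [MulEquiv.symm_apply_eq]
      have h1 : hatf Φ (⟨⟨fun y => Multiplicative.ofAdd (d (Φ y).toAdd), by
          rw [map_one, toAdd_one, map_zero, ofAdd_zero]⟩, fun y z => by
            show Multiplicative.ofAdd (d (Φ (y * z)).toAdd) = _
            rw [map_mul, toAdd_mul, map_add, ofAdd_add]⟩ : X →* Multiplicative (ZMod p)) = d := by
        ext b
        rw [hatf_apply]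
        show d (Φ (Φ.symm (Multiplicative.ofAdd b))).toAdd = d b
        rw [MulEquiv.apply_symm_apply]
        rfl
      rw [h1, hd]
      rfl
  · intro f
    show Φ (Φ.symm _) = _
    rw [MulEquiv.apply_symm_apply]

end theta

variable {P : Type u} [Group P] {p n : ℕ} {W : ℕ → Subgroup P} [hN1 : (W 1).Normal] {A : Subgroup (MulAut (W 1))}
variable [hp : Fact p.Prime] [Finite P]

/-- **Block NPC.** -/
theorem dual_or_special_of (hSD : SelfDual.{u} p) (mc : MC P p n W) (five : 5 ≤ p)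
    (deg : ∀ i j, 1 ≤ i → 1 ≤ j → ⁅W i, W j⁆ ≤ W (i + j + 1))
    (conj_le : conjGrp (W 1) ≤ A) (sylow : ¬ p ∣ (conjGrp (W 1)).relIndex A)
    (hnab : ⁅W 1, W 1⁆ ≠ ⊥) (hnp : ¬ PClosed A) (hΩ : p + 2 ≤ n → ⁅W (n - (p - 1)), W 1⁆ ≠ ⊥) :
    (∃ i, 1 ≤ i ∧ i < n ∧ AInv A (W i) ∧ ⁅W i, W 1⁆ = ⊥ ∧ (∀ w ∈ W i, w ^ p = 1) ∧
      ∃ θ : (W i →* Multiplicative (ZMod p)) →* W i, Function.Surjective θ ∧
        ∀ a ∈ A, ∀ f f' : W i →* Multiplicative (ZMod p),
          (∀ w w' : W i, (w' : P) = ap a (w : P) → f' w' = f w) →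
          ((θ f' : W i) : P) = ap a ((θ f : W i) : P)) ∨
    (p + 2 ≤ n ∧ ⁅W (n - (p - 1)), W 2⁆ = ⊥ ∧ ⁅W (n - (p - 1)), W 1⁆ ≤ W (n - 1) ∧
      AInv A (W (n - 1))) := by
  classical
  have S : Sit p n W A := ⟨mc, deg, five, conj_le, sylow, hnab⟩
  have h4 := mc.four_le
  rcases S.pattern (S.exists_not_nor hnp) hΩ with ⟨i, i', hc, h2, h3⟩ | h
  · left
    obtain ⟨s, hs⟩ := S.exists_s
    obtain ⟨B, _, _, ρ, π, hπ1, hπ2, hπ3⟩ := S.exists_rep hc
    have hR : IsRep i i' ρ π := ⟨hπ1, hπ2, hπ3⟩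
    have hBfin := hR.finite
    have hBd := hR.finrank S hc
    -- the bottom factor
    set i0 := Nat.findGreatest (fun j => AInv A (W j)) (n - 1) with hi0
    have hinv1 : AInv A (W 1) := fun a _ e _ => (a e).2
    have hinv0 : AInv A (W i0) := Nat.findGreatest_spec (P := fun j => AInv A (W j)) (m := 1) (by omega) hinv1
    have hi01 : 1 ≤ i0 := Nat.le_findGreatest (by omega) hinv1
    have hi0n : i0 ≤ n - 1 := Nat.findGreatest_le (n - 1)
    have hc0 : Cons n W A i0 n := by
      refine ⟨hi01, by omega, le_rfl, hinv0, ?_, fun j h5 h6 h7 => ?_⟩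
      · intro a _ e he
        have h5 : (e : P) = 1 := by
          rw [mc.bot] at he
          exact Subgroup.mem_bot.1 he
        have h6 : e = 1 := Subtype.ext h5
        rw [h6, map_one]
        exact one_mem _
      · have := Nat.le_findGreatest (P := fun j => AInv A (W j)) (show j ≤ n - 1 by omega) h7
        omega
    obtain ⟨B₀, _, _, ρ₀, π₀, hπ01, hπ02, hπ03⟩ := S.exists_rep hc0
    have hR0 : IsRep i0 n ρ₀ π₀ := ⟨hπ01, hπ02, hπ03⟩
    have hB0fin := hR0.finite
    have hB0d := hR0.finrank S hc0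
    have hcen : ⁅W i0, W 1⁆ = ⊥ := by
      rw [eq_bot_iff, commutator_le]
      intro x hx y hy
      have h5 : ⁅(⟨x, mc.antitone hi01 hx⟩ : W 1), (⟨y, hy⟩ : W 1)⁆ ∈ BB W n :=
        S.cons_comm hc0 (commutator_mem_commutator hx (Subgroup.mem_top _))
      have h6 : ⁅x, y⁆ ∈ W n := h5
      rwa [mc.bot] at h6
    have hexp : ∀ w ∈ W i0, w ^ p = 1 := by
      intro w hw
      have h5 := S.cons_pow hc0 (e := ⟨w, mc.antitone hi01 hw⟩) hw
      rw [mc.bot, Subgroup.mem_bot] at h5
      exact h5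
    have hdim : n - i0 ≤ p - 2 := by
      have h5 := S.cons_le hc0
      by_contra hlt
      have h6 : i0 = n - (p - 1) := by omega
      rcases Nat.lt_or_ge n (p + 2) with h7 | h7
      · have h8 : BB W i0 ≤ Subgroup.center (W 1) := by
          intro e he
          rw [Subgroup.mem_center_iff]
          intro f
          have h9 : ⁅(e : P), (f : P)⁆ ∈ ⁅W i0, W 1⁆ := commutator_mem_commutator he f.2
          rw [hcen, Subgroup.mem_bot] at h9
          exact Subtype.ext (commutatorElement_eq_one_iff_mul_comm.1 h9).symm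
        have h9 := S.three_le_of_center hi01 h8
        omega
      · exact hΩ h7 (h6 ▸ hcen)
    obtain ⟨e, he⟩ := hSD (Abar W A) (IsRep.xb S s) (S.orderOf_xb hs) S.not_sq_dvd (S.cent_xb hs)
      (S.not_normal hs hnp) B ρ (hR.inj S hc h2) (hR.irr S hc) (by rw [hBd]; omega) (by rw [hBd]; exact h3)
      (by rw [hBd]; exact hR.reg S hc hs) B₀ ρ₀ (hR0.irr S hc0) (by rw [hB0d]; omega) (by rw [hB0d]; exact hdim)
      (by rw [hB0d]; exact hR0.reg S hc0 hs)
    -- the isomorphism `W i0 ≃* Multiplicative B₀`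
    have hbij : Function.Bijective π₀ := by
      refine ⟨?_, hR0.surj⟩
      rw [injective_iff_map_eq_one]
      intro e he
      have h5 := (hR0.ker e).1 he
      rw [mc.bot, Subgroup.mem_bot] at h5
      exact Subtype.ext (Subtype.ext h5)
    let ι : W i0 ≃* BB W i0 := (Subgroup.subgroupOfEquivOfLe (mc.antitone hi01)).symm
    let Φ : W i0 ≃* Multiplicative B₀ := ι.trans (MulEquiv.ofBijective π₀ hbij)
    have hι : ∀ w : W i0, (((ι w : BB W i0) : W 1) : P) = w := fun w => rfl
    have hΦ : ∀ w : W i0, Φ w = π₀ (ι w) := fun w => rfl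
    obtain ⟨θ, hθ1, hθ2⟩ := exists_theta Φ e
    refine ⟨i0, hi01, by omega, hinv0, hcen, hexp, θ, hθ1, ?_⟩
    intro a ha f f' hff
    -- the action of `a` on `W i0`
    have hact : ∀ w w' : W i0, (w' : P) = ap a (w : P) → ρ₀ ((⟨a, ha⟩ : A) : Abar W A) (Φ w).toAdd = (Φ w').toAdd := by
      intro w w' hw
      rw [hΦ, hΦ]
      refine hR0.equi ⟨a, ha⟩ (ι w) (ι w') ?_
      apply Subtype.ext
      rw [hι, hw, ap_of_mem a (mc.antitone hi01 w.2)]
      rfl
    have hex : ∀ w' : W i0, ∃ w : W i0, (w' : P) = ap a (w : P) := by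
      intro w'
      have hw'1 : (w' : P) ∈ W 1 := mc.antitone hi01 w'.2
      have h5 : ((a⁻¹ ⟨w', hw'1⟩ : W 1) : P) ∈ W i0 := hinv0 a⁻¹ (inv_mem ha) ⟨w', hw'1⟩ w'.2
      refine ⟨⟨_, h5⟩, ?_⟩
      rw [ap_of_mem a (SetLike.coe_mem _)]
      show (w' : P) = ((a (a⁻¹ ⟨w', hw'1⟩) : W 1) : P)
      rw [MulAut.apply_inv_self]
    have hhat : hatf Φ f' = hatf Φ f ∘ₗ ρ₀ ((⟨a, ha⟩ : A) : Abar W A)⁻¹ := by
      ext b
      obtain ⟨w, hw⟩ := hex (Φ.symm (Multiplicative.ofAdd b))
      have h5 := hact w _ hw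
      rw [MulEquiv.apply_symm_apply] at h5
      have h6 : ρ₀ ((⟨a, ha⟩ : A) : Abar W A)⁻¹ b = (Φ w).toAdd := by
        have h7 := congrArg (ρ₀ ((⟨a, ha⟩ : A) : Abar W A)⁻¹) h5
        rw [← Module.End.mul_apply, ← map_mul, inv_mul_cancel, map_one, Module.End.one_apply] at h7
        exact h7.symm
      rw [LinearMap.comp_apply, h6, hatf_apply, hatf_apply, hff w _ hw]
      show (f w).toAdd = (f (Φ.symm (Φ w))).toAdd
      rw [MulEquiv.symm_apply_apply]
    have h5 : Φ (θ f') = Multiplicative.ofAdd (ρ₀ ((⟨a, ha⟩ : A) : Abar W A) (Φ (θ f)).toAdd) := by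
      rw [hθ2, hhat, he, hθ2]
      rfl
    -- the image of `θ f` under `a`
    have h6 : ((a ⟨(θ f : W i0), mc.antitone hi01 (θ f : W i0).2⟩ : W 1) : P) ∈ W i0 := hinv0 a ha _ (θ f : W i0).2
    have h7 := hact (θ f) ⟨_, h6⟩ (by rw [ap_of_mem a (mc.antitone hi01 (θ f : W i0).2)])
    rw [h7] at h5
    have h8 := Φ.injective h5
    rw [h8, ap_of_mem a (mc.antitone hi01 (θ f : W i0).2)]
  · exact Or.inr h

end Cfsg.Agent.H779.Core
end

-- part: H782/Weyl/Model
section
/-!
# The polynomial model of a regular unipotent operator (helper782)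

`T` : a unipotent operator with one Jordan block on a space of dimension `s`, `2 ≤ s`, `s + 2 ≤ p`, over `ZMod p`.
* `exists_ops` : operators `X, E, F` with `X = - ∑ a⁻¹ T ^ a`, `T X = X T`, `T E = (E + X) T`,
  `T F = (F + 2 E + X) T`, `tr (X F) ≠ 0`, `X` nilpotent, and everything commuting with `X` commutes with `T`.
-/

set_option autoImplicit false

namespace Cfsg.Agent.H782.Weyl

open Polynomial Module

section poly

variable {p : ℕ} [hp : Fact p.Prime]

theorem taylor_derivative' (r : ZMod p) (f : (ZMod p)[X]) :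
    taylor r (derivative f) = derivative (taylor r f) := by
  simp only [taylor_apply, derivative_comp, derivative_add, derivative_X, derivative_C, add_zero, one_mul]

/-- `τ d/dτ - R / 2` -/
noncomputable def ee (R : ZMod p) : (ZMod p)[X] →ₗ[ZMod p] (ZMod p)[X] :=
  (LinearMap.mulLeft (ZMod p) X) ∘ₗ derivative - (R / 2) • LinearMap.id

/-- `τ ^ 2 d/dτ - R τ` -/
noncomputable def ff (R : ZMod p) : (ZMod p)[X] →ₗ[ZMod p] (ZMod p)[X] :=
  (LinearMap.mulLeft (ZMod p) (X ^ 2)) ∘ₗ derivative - R • (LinearMap.mulLeft (ZMod p) X)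

theorem ee_apply (R : ZMod p) (f : (ZMod p)[X]) : ee R f = X * derivative f - C (R / 2) * f := by
  simp [ee, smul_eq_C_mul]

theorem ff_apply (R : ZMod p) (f : (ZMod p)[X]) : ff R f = X ^ 2 * derivative f - C R * (X * f) := by
  simp [ff, smul_eq_C_mul]

theorem taylor_ee (R : ZMod p) (f : (ZMod p)[X]) :
    taylor 1 (ee R f) = ee R (taylor 1 f) + derivative (taylor 1 f) := by
  rw [ee_apply, ee_apply, ← taylor_derivative']
  simp only [taylor_apply, sub_comp, mul_comp, X_comp, C_comp, C_1]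
  ring

theorem taylor_ff (h2 : (2 : ZMod p) ≠ 0) (R : ZMod p) (f : (ZMod p)[X]) :
    taylor 1 (ff R f) = ff R (taylor 1 f) + (2 : ZMod p) • ee R (taylor 1 f) + derivative (taylor 1 f) := by
  rw [ff_apply, ff_apply, ee_apply, ← taylor_derivative', smul_eq_C_mul]
  simp only [taylor_apply, sub_comp, mul_comp, X_comp, C_comp, C_1, pow_comp]
  have h3 : C (2 : ZMod p) * (C (R / 2)) = C R := by
    rw [← C_mul, mul_div_cancel₀ _ h2]
  have h4 : (C (2 : ZMod p)) = 2 := map_ofNat C 2
  linear_combination (f.comp (X + 1)) * h3 - ((derivative f).comp (X + 1) * X) * h4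

theorem coeff_ff (R : ZMod p) (f : (ZMod p)[X]) (m : ℕ) :
    (ff R f).coeff (m + 1) = (m - R) * f.coeff m := by
  rw [ff_apply, coeff_sub, coeff_C_mul, coeff_X_mul, sub_mul]
  congr 1
  cases m with
  | zero =>
    rw [show (0 + 1 : ℕ) = 1 from rfl, pow_two, mul_assoc, coeff_X_mul]
    simp
  | succ m =>
    rw [show m + 1 + 1 = m + 2 from rfl, coeff_X_pow_mul, coeff_derivative]
    push_cast
    ring

theorem derivative_mem {s : ℕ} {f : (ZMod p)[X]} (hf : f ∈ degreeLT (ZMod p) s) :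
    derivative f ∈ degreeLT (ZMod p) s := by
  rw [mem_degreeLT] at hf ⊢
  exact lt_of_le_of_lt (degree_derivative_le) hf

theorem ee_mem {s : ℕ} {R : ZMod p} {f : (ZMod p)[X]} (hf : f ∈ degreeLT (ZMod p) s) :
    ee R f ∈ degreeLT (ZMod p) s := by
  rw [mem_degreeLT, degree_lt_iff_coeff_zero] at hf ⊢
  intro m hm
  rw [ee_apply, coeff_sub, coeff_C_mul, hf m hm, mul_zero, sub_zero]
  cases m with
  | zero => simp
  | succ m =>
    rw [coeff_X_mul, coeff_derivative, hf _ hm, zero_mul]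

theorem ff_mem {s : ℕ} {f : (ZMod p)[X]} (hf : f ∈ degreeLT (ZMod p) (s + 1)) :
    ff (s : ZMod p) f ∈ degreeLT (ZMod p) (s + 1) := by
  rw [mem_degreeLT, degree_lt_iff_coeff_zero] at hf ⊢
  intro m hm
  obtain ⟨m, rfl⟩ : ∃ l, m = l + 1 := ⟨m - 1, by omega⟩
  rw [coeff_ff]
  rcases Nat.lt_or_ge s m with h | h
  · rw [hf m h, mul_zero]
  · have : m = s := by omega
    rw [this, sub_self, zero_mul]

/-- Taylor's formula -/
theorem taylor_eq (r : ZMod p) {f : (ZMod p)[X]} {s : ℕ} (hs : s ≤ p) (hf : f ∈ degreeLT (ZMod p) s) :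
    taylor r f = ∑ j ∈ Finset.range s, (r ^ j * ((j.factorial : ZMod p))⁻¹) • (derivative^[j] f) := by
  classical
  have hfac : ∀ j, j < s → ((j.factorial : ℕ) : ZMod p) ≠ 0 := by
    intro j hj h
    rw [ZMod.natCast_eq_zero_iff, hp.out.dvd_factorial] at h
    omega
  let g : (ZMod p)[X] →ₗ[ZMod p] (ZMod p)[X] :=
    ∑ j ∈ Finset.range s, (r ^ j * ((j.factorial : ZMod p))⁻¹) • ((derivative : (ZMod p)[X] →ₗ[ZMod p] _) ^ j)
  have hg : ∀ f, g f = ∑ j ∈ Finset.range s, (r ^ j * ((j.factorial : ZMod p))⁻¹) • (derivative^[j] f) := by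
    intro f
    simp only [g, LinearMap.sum_apply, LinearMap.smul_apply, Module.End.pow_apply]
  rw [← hg]
  rw [degreeLT_eq_span_X_pow] at hf
  induction hf using Submodule.span_induction with
  | mem x hx =>
    rw [Finset.coe_image, Set.mem_image] at hx
    obtain ⟨n, hn, rfl⟩ := hx
    have hn' : n < s := by simpa using hn
    rw [hg, taylor_apply, pow_comp, X_comp, add_comm, add_pow]
    rw [← Finset.sum_subset (Finset.range_subset_range.2 (by omega : n + 1 ≤ s))]
    · refine Finset.sum_congr rfl fun j hj => ?_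
      have hjn : j ≤ n := by have := Finset.mem_range.1 hj; omega
      rw [iterate_derivative_X_pow_eq_smul, Nat.descFactorial_eq_factorial_mul_choose, smul_eq_C_mul]
      have h1 : (C (r ^ j * ((j.factorial : ZMod p))⁻¹) : (ZMod p)[X]) * C ((j.factorial * n.choose j : ℕ) : ZMod p)
          = C (r ^ j) * (n.choose j : (ZMod p)[X]) := by
        rw [← C_mul, ← C_eq_natCast, ← C_mul]
        congr 1
        push_cast
        have := hfac j (by omega)
        field_simp
      rw [smul_eq_C_mul, ← mul_assoc, h1, C_pow]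
      ring
    · intro j hj hjn
      have hjn' : n < j := by
        rw [Finset.mem_range] at hjn
        omega
      rw [iterate_derivative_X_pow_eq_smul, Nat.descFactorial_of_lt hjn', Nat.cast_zero, zero_smul, smul_zero]
  | zero => simp
  | add x y _ _ hx hy => rw [map_add, map_add, hx, hy]
  | smul a x _ hx => rw [map_smul, map_smul, hx]

/-- the derivative on polynomials of degree `< s` -/
noncomputable def opX (p : ℕ) [Fact p.Prime] (s : ℕ) : End (ZMod p) (degreeLT (ZMod p) s) :=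
  ((derivative : (ZMod p)[X] →ₗ[ZMod p] _) ∘ₗ (degreeLT (ZMod p) s).subtype).codRestrict _
    (fun f => derivative_mem f.2)

noncomputable def opE (p : ℕ) [Fact p.Prime] (R : ZMod p) (s : ℕ) : End (ZMod p) (degreeLT (ZMod p) s) :=
  ((ee R) ∘ₗ (degreeLT (ZMod p) s).subtype).codRestrict _ (fun f => ee_mem f.2)

noncomputable def opF (p : ℕ) [Fact p.Prime] (R : ℕ) : End (ZMod p) (degreeLT (ZMod p) (R + 1)) :=
  ((ff (R : ZMod p)) ∘ₗ (degreeLT (ZMod p) (R + 1)).subtype).codRestrict _ (fun f => ff_mem f.2)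

noncomputable def opT (p : ℕ) [Fact p.Prime] (s : ℕ) : End (ZMod p) (degreeLT (ZMod p) s) :=
  (taylorLinearEquiv (1 : ZMod p) s).toLinearMap

theorem coe_opX (s : ℕ) (f : degreeLT (ZMod p) s) : ((opX p s f : degreeLT (ZMod p) s) : (ZMod p)[X]) =
    derivative (f : (ZMod p)[X]) := rfl

theorem coe_opE (R : ZMod p) (s : ℕ) (f : degreeLT (ZMod p) s) :
    ((opE p R s f : degreeLT (ZMod p) s) : (ZMod p)[X]) = ee R (f : (ZMod p)[X]) := rfl

theorem coe_opF (R : ℕ) (f : degreeLT (ZMod p) (R + 1)) :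
    ((opF p R f : degreeLT (ZMod p) (R + 1)) : (ZMod p)[X]) = ff (R : ZMod p) (f : (ZMod p)[X]) := rfl

theorem coe_opT (s : ℕ) (f : degreeLT (ZMod p) s) : ((opT p s f : degreeLT (ZMod p) s) : (ZMod p)[X]) =
    taylor 1 (f : (ZMod p)[X]) := rfl

theorem coe_opX_pow (s j : ℕ) (f : degreeLT (ZMod p) s) :
    (((opX p s ^ j) f : degreeLT (ZMod p) s) : (ZMod p)[X]) = derivative^[j] (f : (ZMod p)[X]) := by
  induction j generalizing f with
  | zero => rfl
  | succ j ih =>
    rw [pow_succ, Module.End.mul_apply, ih, coe_opX, Function.iterate_succ_apply]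

theorem coe_opT_pow (s j : ℕ) (f : degreeLT (ZMod p) s) :
    (((opT p s ^ j) f : degreeLT (ZMod p) s) : (ZMod p)[X]) = taylor (j : ZMod p) (f : (ZMod p)[X]) := by
  induction j generalizing f with
  | zero => simp
  | succ j ih =>
    rw [pow_succ, Module.End.mul_apply, ih, coe_opT, taylor_taylor]
    congr 2
    push_cast
    ring

theorem opT_pow_eq {s : ℕ} (hs : s ≤ p) (m : ℕ) :
    opT p s ^ m = ∑ j ∈ Finset.range s, ((m : ZMod p) ^ j * ((j.factorial : ZMod p))⁻¹) • (opX p s ^ j) := by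
  refine LinearMap.ext fun f => Subtype.ext ?_
  rw [coe_opT_pow, taylor_eq (m : ZMod p) hs f.2, LinearMap.sum_apply, AddSubmonoidClass.coe_finsetSum]
  refine Finset.sum_congr rfl fun j _ => ?_
  rw [LinearMap.smul_apply, Submodule.coe_smul, coe_opX_pow]

theorem opX_pow_eq_zero (s : ℕ) : opX p s ^ s = 0 := by
  refine LinearMap.ext fun f => Subtype.ext ?_
  rw [coe_opX_pow, LinearMap.zero_apply, Submodule.coe_zero]
  rcases eq_or_ne (f : (ZMod p)[X]) 0 with h | h
  · rw [h, iterate_derivative_zero]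
  · apply iterate_derivative_eq_zero
    have h1 := mem_degreeLT.1 f.2
    rwa [degree_eq_natDegree h, Nat.cast_lt] at h1

theorem opX_pow_ne_zero {R : ℕ} (hR : R < p) : opX p (R + 1) ^ R ≠ 0 := by
  intro h
  have h1 : (X ^ R : (ZMod p)[X]) ∈ degreeLT (ZMod p) (R + 1) := by
    rw [mem_degreeLT, degree_X_pow]
    exact_mod_cast Nat.lt_succ_self R
  have h2 := congrArg (fun f : degreeLT (ZMod p) (R + 1) => (f : (ZMod p)[X])) (LinearMap.congr_fun h ⟨X ^ R, h1⟩)
  simp only [LinearMap.zero_apply, Submodule.coe_zero] at h2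
  rw [coe_opX_pow] at h2
  change derivative^[R] (X ^ R : (ZMod p)[X]) = 0 at h2
  rw [iterate_derivative_X_pow_eq_smul, Nat.descFactorial_self, Nat.sub_self, pow_zero, smul_eq_C_mul, mul_one,
    C_eq_zero, ZMod.natCast_eq_zero_iff, hp.out.dvd_factorial] at h2
  omega

theorem trace_opX_opF (R : ℕ) : 6 * LinearMap.trace (ZMod p) _ (opX p (R + 1) * opF p R) =
    - ((R : ZMod p) * (R + 1) * (R + 2)) := by
  classical
  rw [LinearMap.trace_eq_matrix_trace (ZMod p) (degreeLT.basis (ZMod p) (R + 1)), Matrix.trace]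
  have h1 : ∀ i : Fin (R + 1), Matrix.diag (LinearMap.toMatrix (degreeLT.basis (ZMod p) (R + 1))
      (degreeLT.basis (ZMod p) (R + 1)) (opX p (R + 1) * opF p R)) i =
      (((i : ℕ) : ZMod p) - R) * ((i : ℕ) + 1) := by
    intro i
    rw [Matrix.diag_apply, LinearMap.toMatrix_apply, degreeLT.basis_repr, Module.End.mul_apply, coe_opX, coe_opF,
      degreeLT.basis_val, coeff_derivative, coeff_ff, coeff_X_pow, if_pos rfl, mul_one]
  rw [Finset.sum_congr rfl (fun i _ => h1 i),
    Fin.sum_univ_eq_sum_range (fun i : ℕ => ((i : ZMod p) - R) * (i + 1)) (R + 1)]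
  have h2 : ∀ n : ℕ, 6 * ∑ i ∈ Finset.range n, ((i : ZMod p) - R) * (i + 1) =
      n * (n + 1) * (2 * n - 2 - 3 * R) := by
    intro n
    induction n with
    | zero => simp
    | succ n ih =>
      rw [Finset.sum_range_succ, mul_add, ih]
      push_cast
      ring
  rw [h2]
  push_cast
  ring

theorem sum_units (hp2 : 2 < p) {j s : ℕ} (hj : j < s) (hs : s + 1 ≤ p) :
    ∑ a : (ZMod p)ˣ, ((a⁻¹ : (ZMod p)ˣ) : ZMod p) * (a : ZMod p) ^ j = if j = 1 then -1 else 0 := by
  classical
  have h1 : ∀ a : (ZMod p)ˣ, ((a⁻¹ : (ZMod p)ˣ) : ZMod p) * (a : ZMod p) ^ j = ((a ^ (p - 2 + j) : (ZMod p)ˣ) : ZMod p) := by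
    intro a
    have h2 : a⁻¹ = a ^ (p - 2) := by
      rw [inv_eq_iff_mul_eq_one, ← pow_succ', show p - 2 + 1 = p - 1 by omega]
      exact ZMod.units_pow_card_sub_one_eq_one p a
    rw [h2, pow_add]
    push_cast
    ring
  have h3 := FiniteField.sum_pow_units (ZMod p) (p - 2 + j)
  rw [ZMod.card] at h3
  rw [Finset.sum_congr rfl (fun a _ => h1 a)]
  have h4 : ∑ a : (ZMod p)ˣ, ((a ^ (p - 2 + j) : (ZMod p)ˣ) : ZMod p) =
      ∑ a : (ZMod p)ˣ, ((a : ZMod p) ^ (p - 2 + j)) := by
    refine Finset.sum_congr rfl fun a _ => ?_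
    push_cast
    rfl
  rw [h4, h3]
  by_cases hj1 : j = 1
  · rw [if_pos hj1, if_pos]
    rw [hj1, show p - 2 + 1 = p - 1 by omega]
  · rw [if_neg hj1, if_neg]
    rintro ⟨c, hc⟩
    rcases Nat.lt_or_ge c 1 with h5 | h5
    · have : c = 0 := by omega
      rw [this, mul_zero] at hc
      omega
    · rcases Nat.lt_or_ge c 2 with h6 | h6
      · have : c = 1 := by omega
        rw [this, mul_one] at hc
        omega
      · have h7 : (p - 1) * 2 ≤ (p - 1) * c := Nat.mul_le_mul_left _ h6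
        omega

/-- the operator `log T` as an element of the group algebra of `⟨T⟩` -/
noncomputable def logOp {V : Type*} [AddCommGroup V] [Module (ZMod p) V] (T : End (ZMod p) V) : End (ZMod p) V :=
  - ∑ a : (ZMod p)ˣ, ((a⁻¹ : (ZMod p)ˣ) : ZMod p) • T ^ (a : ZMod p).val

theorem logOp_opT (hp2 : 2 < p) {s : ℕ} (hs2 : 2 ≤ s) (hs : s + 1 ≤ p) : logOp (opT p s) = opX p s := by
  classical
  unfold logOp
  have h1 : ∀ a : (ZMod p)ˣ, ((a⁻¹ : (ZMod p)ˣ) : ZMod p) • opT p s ^ (a : ZMod p).val =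
      ∑ j ∈ Finset.range s, (((a⁻¹ : (ZMod p)ˣ) : ZMod p) * (a : ZMod p) ^ j * ((j.factorial : ZMod p))⁻¹) • (opX p s ^ j) := by
    intro a
    rw [opT_pow_eq (by omega), Finset.smul_sum]
    refine Finset.sum_congr rfl fun j _ => ?_
    rw [ZMod.natCast_zmod_val, smul_smul, mul_assoc]
  rw [Finset.sum_congr rfl (fun a _ => h1 a), Finset.sum_comm]
  have h2 : ∀ j ∈ Finset.range s, ∑ a : (ZMod p)ˣ,
      (((a⁻¹ : (ZMod p)ˣ) : ZMod p) * (a : ZMod p) ^ j * ((j.factorial : ZMod p))⁻¹) • (opX p s ^ j) =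
      if j = 1 then - (opX p s) else 0 := by
    intro j hj
    rw [← Finset.sum_smul, ← Finset.sum_mul, sum_units hp2 (Finset.mem_range.1 hj) hs]
    by_cases h : j = 1
    · rw [if_pos h, if_pos h, h]
      simp
    · rw [if_neg h, if_neg h, zero_mul, zero_smul]
  rw [Finset.sum_congr rfl h2, Finset.sum_ite_eq', if_pos (Finset.mem_range.2 (by omega)), neg_neg]

theorem opT_sub_one {s : ℕ} (hs2 : 2 ≤ s) (hs : s ≤ p) : ∃ U : End (ZMod p) (degreeLT (ZMod p) s),
    IsUnit U ∧ Commute U (opX p s) ∧ opT p s - 1 = opX p s * U := by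
  obtain ⟨s, rfl⟩ : ∃ l, s = l + 1 := ⟨s - 1, by omega⟩
  set Y := opX p (s + 1) with hY
  have h1 := opT_pow_eq (p := p) hs 1
  rw [pow_one, Finset.sum_range_succ'] at h1
  simp only [Nat.cast_one, one_pow, one_mul, pow_zero, Nat.factorial_zero, inv_one, one_smul] at h1
  let U : End (ZMod p) (degreeLT (ZMod p) (s + 1)) :=
    ∑ k ∈ Finset.range s, (((k + 1).factorial : ZMod p))⁻¹ • Y ^ k
  have hcomm : Commute U Y := by
    refine Commute.sum_left _ _ _ fun k _ => ?_
    exact ((Commute.refl Y).pow_left k).smul_left _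
  refine ⟨U, ?_, hcomm, ?_⟩
  · -- `U - 1` is nilpotent
    obtain ⟨r, rfl⟩ : ∃ l, s = l + 1 := ⟨s - 1, by omega⟩
    have h3 : U = Y * (∑ k ∈ Finset.range r, (((k + 1 + 1).factorial : ZMod p))⁻¹ • Y ^ k) + 1 := by
      change ∑ k ∈ Finset.range (r + 1), (((k + 1).factorial : ZMod p))⁻¹ • Y ^ k = _
      rw [Finset.sum_range_succ', Finset.mul_sum]
      congr 1
      · refine Finset.sum_congr rfl fun k _ => ?_
        rw [mul_smul_comm, ← pow_succ']
      · simp
    rw [h3]
    refine IsNilpotent.isUnit_add_one ?_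
    refine Commute.isNilpotent_mul_right ?_ ⟨_, opX_pow_eq_zero (p := p) (r + 1 + 1)⟩
    refine Commute.sum_right _ _ _ fun k _ => ?_
    exact ((Commute.refl Y).pow_right k).smul_right _
  · rw [h1, add_sub_cancel_right, Finset.mul_sum]
    refine Finset.sum_congr rfl fun k _ => ?_
    rw [mul_smul_comm, ← pow_succ']

end poly

section transport

variable {K : Type*} [Field K] {V V' : Type*} [AddCommGroup V] [Module K V] [AddCommGroup V'] [Module K V']

theorem linearIndependent_pow (δ : End K V) (u : V) (s : ℕ) (h0 : (δ ^ s) u = 0) (h1 : (δ ^ (s - 1)) u ≠ 0) :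
    LinearIndependent K (fun i : Fin s => (δ ^ (i : ℕ)) u) := by
  classical
  rw [Fintype.linearIndependent_iff]
  intro g hg
  have hbig : ∀ m, s ≤ m → (δ ^ m) u = 0 := by
    intro m hm
    obtain ⟨l, rfl⟩ := Nat.exists_eq_add_of_le hm
    rw [add_comm, pow_add, Module.End.mul_apply, h0, map_zero]
  have key : ∀ n : ℕ, ∀ i : Fin s, (i : ℕ) = n → g i = 0 := by
    intro n
    induction n using Nat.strong_induction_on with
    | _ n ih =>
      intro i hi
      have h2 := congrArg (δ ^ (s - 1 - n)) hg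
      rw [map_sum, map_zero] at h2
      rw [Finset.sum_eq_single i] at h2
      · rw [map_smul, ← Module.End.mul_apply, ← pow_add, hi, Nat.sub_add_cancel (by have := i.2; omega)] at h2
        exact (smul_eq_zero.1 h2).resolve_right h1
      · intro j _ hj
        rcases Nat.lt_or_ge j n with h3 | h3
        · rw [ih j h3 j rfl, zero_smul, map_zero]
        · have h4 : (j : ℕ) ≠ n := fun h => hj (Fin.ext (h.trans hi.symm))
          rw [map_smul, ← Module.End.mul_apply, ← pow_add, hbig _ (by have := i.2; omega), smul_zero]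
      · intro h3
        exact absurd (Finset.mem_univ i) h3
  exact fun i => key i i rfl

/-- regular nilpotent operators are conjugate -/
theorem exists_equiv [FiniteDimensional K V] [FiniteDimensional K V'] {s : ℕ} (hs : 0 < s) (hV : finrank K V = s)
    (hV' : finrank K V' = s) {δ : End K V} {δ' : End K V'} (h0 : δ ^ s = 0) (h1 : δ ^ (s - 1) ≠ 0)
    (h0' : δ' ^ s = 0) (h1' : δ' ^ (s - 1) ≠ 0) : ∃ φ : V ≃ₗ[K] V', ∀ v, φ (δ v) = δ' (φ v) := by
  obtain ⟨u, hu⟩ : ∃ u, (δ ^ (s - 1)) u ≠ 0 := by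
    by_contra hno
    push Not at hno
    exact h1 (LinearMap.ext hno)
  obtain ⟨u', hu'⟩ : ∃ u, (δ' ^ (s - 1)) u ≠ 0 := by
    by_contra hno
    push Not at hno
    exact h1' (LinearMap.ext hno)
  have hne : Nonempty (Fin s) := ⟨⟨0, hs⟩⟩
  let b := basisOfLinearIndependentOfCardEqFinrank
    (linearIndependent_pow δ u s (by rw [h0, LinearMap.zero_apply]) hu) (by rw [Fintype.card_fin, hV])
  let b' := basisOfLinearIndependentOfCardEqFinrank
    (linearIndependent_pow δ' u' s (by rw [h0', LinearMap.zero_apply]) hu') (by rw [Fintype.card_fin, hV'])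
  have hb : ∀ i, b i = (δ ^ (i : ℕ)) u := fun i => by
    rw [coe_basisOfLinearIndependentOfCardEqFinrank]
  have hb' : ∀ i, b' i = (δ' ^ (i : ℕ)) u' := fun i => by
    rw [coe_basisOfLinearIndependentOfCardEqFinrank]
  let φ := b.equiv b' (Equiv.refl _)
  have hφ : ∀ i, φ (b i) = b' i := fun i => by rw [Basis.equiv_apply, Equiv.refl_apply]
  refine ⟨φ, ?_⟩
  have h2 : φ.toLinearMap ∘ₗ δ = δ' ∘ₗ φ.toLinearMap := by
    refine b.ext fun i => ?_
    change φ (δ (b i)) = δ' (φ (b i))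
    rw [hφ, hb, hb', ← Module.End.mul_apply, ← Module.End.mul_apply, ← pow_succ', ← pow_succ']
    rcases Nat.lt_or_ge ((i : ℕ) + 1) s with h3 | h3
    · have h4 := hφ ⟨(i : ℕ) + 1, h3⟩
      rw [hb, hb'] at h4
      exact h4
    · have h4 : (i : ℕ) + 1 = s := le_antisymm i.2 h3
      rw [h4, h0, h0', LinearMap.zero_apply, LinearMap.zero_apply, map_zero]
  exact fun v => LinearMap.congr_fun h2 v

end transport

/-- the operators `X`, `E`, `F` attached to a unipotent operator with one Jordan block -/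
theorem exists_ops {p : ℕ} [hp : Fact p.Prime] {V : Type*} [AddCommGroup V] [Module (ZMod p) V]
    [FiniteDimensional (ZMod p) V] {T : End (ZMod p) V} {s : ℕ} (hV : finrank (ZMod p) V = s) (h2 : 2 ≤ s)
    (hs : s + 2 ≤ p) (h0 : (T - 1) ^ s = 0) (h1 : (T - 1) ^ (s - 1) ≠ 0) :
    ∃ E F : End (ZMod p) V, T * logOp T = logOp T * T ∧ T * E = (E + logOp T) * T ∧
      T * F = (F + (2 : ZMod p) • E + logOp T) * T ∧ LinearMap.trace (ZMod p) V (logOp T * F) ≠ 0 ∧
      IsNilpotent (logOp T) ∧ logOp T ≠ 0 ∧ ∀ Y : End (ZMod p) V, Y * logOp T = logOp T * Y → Y * T = T * Y := by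
  obtain ⟨R, rfl⟩ : ∃ l, s = l + 1 := ⟨s - 1, by omega⟩
  have hR1 : 1 ≤ R := by omega
  rw [Nat.add_sub_cancel] at h1
  obtain ⟨U, hU, hUX, hTU⟩ := opT_sub_one (p := p) (s := R + 1) h2 (by omega)
  have hT0 : (opT p (R + 1) - 1) ^ (R + 1) = 0 := by
    rw [hTU, hUX.symm.mul_pow, opX_pow_eq_zero, zero_mul]
  have hT1 : (opT p (R + 1) - 1) ^ (R + 1 - 1) ≠ 0 := by
    rw [Nat.add_sub_cancel, hTU, hUX.symm.mul_pow]
    intro h
    apply opX_pow_ne_zero (p := p) (R := R) (by omega)
    exact ((hU.pow R).mul_left_eq_zero).1 h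
  obtain ⟨φ, hφ⟩ := exists_equiv (K := ZMod p) (V := V) (V' := degreeLT (ZMod p) (R + 1)) (s := R + 1) (by omega) hV
    (by rw [finrank_eq_card_basis (degreeLT.basis (ZMod p) (R + 1)), Fintype.card_fin]) h0 (by rwa [Nat.add_sub_cancel])
    hT0 hT1
  let ψ : End (ZMod p) (degreeLT (ZMod p) (R + 1)) ≃ₐ[ZMod p] End (ZMod p) V :=
    LinearEquiv.conjAlgEquiv (ZMod p) φ.symm
  have hψ : ∀ Y v, ψ Y v = φ.symm (Y (φ v)) := fun Y v => rfl
  have hψT : ψ (opT p (R + 1)) = T := by
    refine LinearMap.ext fun v => ?_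
    rw [hψ]
    have h3 := hφ v
    have h4 : (opT p (R + 1) - 1) (φ v) = opT p (R + 1) (φ v) - φ v := rfl
    have h5 : (T - 1) v = T v - v := rfl
    rw [h4, h5, map_sub, sub_left_inj] at h3
    rw [← h3, LinearEquiv.symm_apply_apply]
  have hlog : ψ (opX p (R + 1)) = logOp T := by
    rw [← logOp_opT (by omega) h2 (by omega), logOp, logOp, map_neg, map_sum]
    congr 1
    refine Finset.sum_congr rfl fun a _ => ?_
    rw [map_smul, map_pow, hψT]
  have h2' : (2 : ZMod p) ≠ 0 := by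
    intro h
    have : ((2 : ℕ) : ZMod p) = 0 := by exact_mod_cast h
    rw [ZMod.natCast_eq_zero_iff] at this
    have := Nat.le_of_dvd (by norm_num) this
    omega
  have hcomm : Commute (opT p (R + 1)) (opX p (R + 1)) := by
    have h3 : opT p (R + 1) = opX p (R + 1) * U + 1 := by rw [← hTU, sub_add_cancel]
    rw [h3]
    exact Commute.add_left (Commute.mul_left (Commute.refl _) hUX) (Commute.one_left _)
  refine ⟨ψ (opE p R (R + 1)), ψ (opF p R), ?_, ?_, ?_, ?_, ?_, ?_, ?_⟩
  · rw [← hlog, ← hψT, ← map_mul, ← map_mul, hcomm.eq]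
  · rw [← hlog, ← hψT, ← map_mul, ← map_add, ← map_mul]
    congr 1
    refine LinearMap.ext fun f => Subtype.ext ?_
    exact taylor_ee _ _
  · rw [← hlog, ← hψT, ← map_mul, ← map_smul, ← map_add, ← map_add, ← map_mul]
    congr 1
    refine LinearMap.ext fun f => Subtype.ext ?_
    exact taylor_ff h2' _ _
  · rw [← hlog, ← map_mul]
    have h3 : LinearMap.trace (ZMod p) V (ψ (opX p (R + 1) * opF p R)) =
        LinearMap.trace (ZMod p) _ (opX p (R + 1) * opF p R) := LinearMap.trace_conj' _ φ.symm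
    rw [h3]
    intro h4
    have h5 := trace_opX_opF (p := p) R
    rw [h4, mul_zero] at h5
    have h6 : ((R * (R + 1) * (R + 2) : ℕ) : ZMod p) = 0 := by
      push_cast
      exact neg_eq_zero.1 h5.symm
    rw [ZMod.natCast_eq_zero_iff, hp.out.dvd_mul, hp.out.dvd_mul] at h6
    rcases h6 with (h6 | h6) | h6
    · have := Nat.le_of_dvd (by omega) h6
      omega
    · have := Nat.le_of_dvd (by omega) h6
      omega
    · have := Nat.le_of_dvd (by omega) h6
      omega
  · rw [← hlog]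
    exact (IsNilpotent.map ⟨R + 1, opX_pow_eq_zero (p := p) (R + 1)⟩ ψ)
  · rw [← hlog]
    intro h
    have h3 : opX p (R + 1) = 0 := by
      apply ψ.injective
      rw [h, map_zero]
    apply opX_pow_ne_zero (p := p) (R := R) (by omega)
    rw [h3, zero_pow (by omega)]
  · intro Y hY
    obtain ⟨Z, rfl⟩ := ψ.surjective Y
    rw [← hlog, ← map_mul, ← map_mul] at hY
    have h3 := ψ.injective hY
    rw [← hψT, ← map_mul, ← map_mul]
    congr 1
    have h4 := opT_pow_eq (p := p) (s := R + 1) (by omega) 1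
    rw [pow_one] at h4
    rw [h4]
    refine (Commute.sum_right _ _ _ fun j _ => ?_)
    have h5 : Commute Z (opX p (R + 1)) := h3
    exact (h5.pow_right j).smul_right _

end Cfsg.Agent.H782.Weyl
end

-- part: H782/Weyl/Sum
section
/-!
# Sums over permutation modules, relative traces (helper782)

* `sum_eq_sum_fixed` : if `f (σ a) = c (f a)`, `σ ^ p = 1` and `∑_{i < p} c ^ i = 0`, then `∑ f = ∑_{σ a = a} f`;
* `relSum` : the sum of a `P`-fixed vector over `G ⧸ P`;
* `norm_eq` : `∑_{i < p} c ^ i = (c - 1) ^ (p - 1)` in characteristic `p`.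
-/

set_option autoImplicit false

namespace Cfsg.Agent.H782.Weyl

open Module

section sum

variable {α : Type*} {Y : Type*} [AddCommMonoid Y] {p : ℕ} [hp : Fact p.Prime]

theorem iterate_mod {σ : α → α} {a : α} (h : σ^[p] a = a) (n : ℕ) : σ^[n % p] a = σ^[n] a := by
  have hk : ∀ k, σ^[p * k] a = a := by
    intro k
    induction k with
    | zero => rfl
    | succ k ih => rw [mul_add, mul_one, Function.iterate_add_apply, h, ih]
  conv_rhs => rw [← Nat.mod_add_div n p, Function.iterate_add_apply, hk]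

theorem fixed_of_iterate {σ : α → α} {a : α} (h : σ^[p] a = a) {d : ℕ} (hd0 : 0 < d) (hd : d < p)
    (hda : σ^[d] a = a) : σ a = a := by
  have hk : ∀ k, σ^[d * k] a = a := by
    intro k
    induction k with
    | zero => rfl
    | succ k ih => rw [mul_add, mul_one, Function.iterate_add_apply, hda, ih]
  have hcop : Nat.Coprime d p := Nat.Coprime.symm ((Nat.Prime.coprime_iff_not_dvd hp.out).2
    (fun h1 => by have := Nat.le_of_dvd hd0 h1; omega))
  obtain ⟨e, he⟩ : ∃ e, d * e % p = 1 % p := by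
    obtain ⟨e, he⟩ := Nat.exists_mul_mod_eq_one_of_coprime hcop hp.out.one_lt
    exact ⟨e, by rw [he.2, Nat.mod_eq_of_lt hp.out.one_lt]⟩
  have h1 := iterate_mod h (d * e)
  rw [he, Nat.mod_eq_of_lt hp.out.one_lt, hk] at h1
  exact h1

theorem sum_eq_zero_of_free [DecidableEq α] (σ : α → α) (f : α → Y) (c : Y → Y) (hc : ∀ a, f (σ a) = c (f a))
    (hN : ∀ y, ∑ i ∈ Finset.range p, c^[i] y = 0) (s : Finset α) (hs : ∀ a ∈ s, σ a ∈ s)
    (hper : ∀ a ∈ s, σ^[p] a = a) (hfree : ∀ a ∈ s, σ a ≠ a) : ∑ a ∈ s, f a = 0 := by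
  induction hn : s.card using Nat.strong_induction_on generalizing s with
  | _ n ih =>
    rcases s.eq_empty_or_nonempty with rfl | ⟨a, ha⟩
    · exact Finset.sum_empty
    · have hmem : ∀ i, σ^[i] a ∈ s := by
        intro i
        induction i with
        | zero => exact ha
        | succ i ih' => rw [Function.iterate_succ_apply']; exact hs _ ih'
      have hinj : Set.InjOn (fun i => σ^[i] a) (Finset.range p : Set ℕ) := by
        have key : ∀ i j, i < p → j < p → i < j → σ^[i] a ≠ σ^[j] a := by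
          intro i j hi hj hij h
          have hb := hmem i
          apply hfree _ hb
          refine fixed_of_iterate (hper _ hb) (d := j - i) (by omega) (by omega) ?_
          rw [← Function.iterate_add_apply, Nat.sub_add_cancel hij.le, h]
        intro i hi j hj hij
        rw [Finset.coe_range, Set.mem_Iio] at hi hj
        rcases lt_trichotomy i j with h | h | h
        · exact absurd hij (key i j hi hj h)
        · exact h
        · exact absurd hij.symm (key j i hj hi h)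
      set O := (Finset.range p).image (fun i => σ^[i] a) with hO
      have hOs : O ⊆ s := by
        intro b hb
        rw [hO, Finset.mem_image] at hb
        obtain ⟨i, -, rfl⟩ := hb
        exact hmem i
      have hsumO : ∑ b ∈ O, f b = 0 := by
        rw [hO, Finset.sum_image hinj]
        have h1 : ∀ i, f (σ^[i] a) = c^[i] (f a) := by
          intro i
          induction i with
          | zero => rfl
          | succ i ih' => rw [Function.iterate_succ_apply', hc, ih', ← Function.iterate_succ_apply' c]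
        rw [Finset.sum_congr rfl (fun i _ => h1 i)]
        exact hN _
      have hOcl : ∀ b, b ∈ s → (σ b ∈ O → b ∈ O) := by
        intro b hb h1
        rw [hO, Finset.mem_image] at h1 ⊢
        obtain ⟨i, hi, h2⟩ := h1
        -- `b = σ^[p - 1] (σ b)`
        have h3 : b = σ^[p - 1 + i] a := by
          rw [Function.iterate_add_apply, h2, ← Function.iterate_succ_apply, Nat.succ_eq_add_one,
            Nat.sub_add_cancel hp.out.one_lt.le]
          exact (hper b hb).symm
        refine ⟨(p - 1 + i) % p, Finset.mem_range.2 (Nat.mod_lt _ hp.out.pos), ?_⟩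
        rw [iterate_mod (hper a ha), ← h3]
      have hcard : (s \ O).card < n := by
        rw [← hn]
        exact Finset.card_lt_card (Finset.sdiff_ssubset hOs ⟨a, by
          rw [hO, Finset.mem_image]; exact ⟨0, Finset.mem_range.2 hp.out.pos, rfl⟩⟩)
      have h4 := ih _ hcard (s \ O) ?_ ?_ ?_ rfl
      · rw [← Finset.sum_sdiff hOs, h4, hsumO, add_zero]
      · intro b hb
        rw [Finset.mem_sdiff] at hb ⊢
        exact ⟨hs b hb.1, fun h => hb.2 (hOcl b hb.1 h)⟩
      · intro b hb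
        exact hper b (Finset.mem_sdiff.1 hb).1
      · intro b hb
        exact hfree b (Finset.mem_sdiff.1 hb).1

theorem sum_eq_sum_fixed [Fintype α] [DecidableEq α] (σ : α → α) (f : α → Y) (c : Y → Y)
    (hc : ∀ a, f (σ a) = c (f a)) (hN : ∀ y, ∑ i ∈ Finset.range p, c^[i] y = 0) (hper : ∀ a, σ^[p] a = a) :
    ∑ a, f a = ∑ a ∈ Finset.univ.filter (fun a => σ a = a), f a := by
  rw [← Finset.sum_filter_add_sum_filter_not Finset.univ (fun a => σ a = a) f]
  rw [sum_eq_zero_of_free (p := p) σ f c hc hN (Finset.univ.filter (fun a => ¬ σ a = a)) ?_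
    (fun a _ => hper a) ?_, add_zero]
  · intro a ha
    rw [Finset.mem_filter] at ha ⊢
    refine ⟨Finset.mem_univ _, fun h => ha.2 ?_⟩
    -- `σ (σ a) = σ a` gives `a = σ^[p] a = σ a`
    have h1 : ∀ n, σ^[n] (σ a) = σ a := by
      intro n
      induction n with
      | zero => rfl
      | succ n ih => rw [Function.iterate_succ_apply, h, ih]
    have h2 := hper a
    obtain ⟨q, hq⟩ : ∃ q, p = q + 1 := ⟨p - 1, by have := hp.out.pos; omega⟩
    rw [hq, Function.iterate_succ_apply, h1] at h2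
    exact h2
  · intro a ha
    exact (Finset.mem_filter.1 ha).2

end sum

section norm

theorem norm_eq {p : ℕ} [hp : Fact p.Prime] {A : Type*} [Ring A] [Algebra (ZMod p) A] (c : A) :
    ∑ i ∈ Finset.range p, c ^ i = (c - 1) ^ (p - 1) := by
  have h1 : ∑ i ∈ Finset.range p, (Polynomial.X : Polynomial (ZMod p)) ^ i = (Polynomial.X - 1) ^ (p - 1) := by
    have h2 : (Polynomial.X - 1 : Polynomial (ZMod p)) ≠ 0 := by
      rw [← Polynomial.C_1]
      exact Polynomial.X_sub_C_ne_zero 1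
    apply mul_right_cancel₀ h2
    rw [geom_sum_mul, ← pow_succ, Nat.sub_add_cancel hp.out.one_lt.le, sub_pow_char, one_pow]
  have h3 := congrArg (Polynomial.aeval c) h1
  simpa using h3

end norm

section relSum

variable {k : Type*} [Field k] {G : Type*} [Group G] [Finite G] {Y : Type*} [AddCommGroup Y] [Module k Y]
  (A : Representation k G Y) (P : Subgroup G) (y : Y)

theorem out_apply (hy : ∀ u ∈ P, A u y = y) (g : G) : A (Quotient.out (g : G ⧸ P)) y = A g y := by
  have h1 : g⁻¹ * Quotient.out (g : G ⧸ P) ∈ P := by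
    rw [← QuotientGroup.eq]
    exact (Quotient.out_eq (g : G ⧸ P)).symm
  have h2 := hy _ h1
  rw [map_mul, Module.End.mul_apply] at h2
  have h3 := congrArg (A g) h2
  rwa [← Module.End.mul_apply, ← map_mul, mul_inv_cancel, map_one, Module.End.one_apply] at h3

open Classical in
/-- the sum of a `P`-fixed vector over the cosets of `P` -/
noncomputable def relSum : Y :=
  letI := Fintype.ofFinite (G ⧸ P)
  ∑ q : G ⧸ P, A (Quotient.out q) y

theorem relSum_eq [Fintype (G ⧸ P)] : relSum A P y = ∑ q : G ⧸ P, A (Quotient.out q) y := by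
  unfold relSum
  refine Finset.sum_congr ?_ (fun _ _ => rfl)
  congr!

theorem apply_relSum (hy : ∀ u ∈ P, A u y = y) (g : G) : A g (relSum A P y) = relSum A P y := by
  classical
  letI := Fintype.ofFinite (G ⧸ P)
  rw [relSum_eq, map_sum]
  refine Fintype.sum_equiv (MulAction.toPerm g) _ _ fun q => ?_
  rw [MulAction.toPerm_apply]
  have h1 : (g • q : G ⧸ P) = ((g * Quotient.out q : G) : G ⧸ P) := by
    conv_lhs => rw [← Quotient.out_eq q]
    rfl
  rw [h1, out_apply A P y hy, map_mul, Module.End.mul_apply]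

end relSum

end Cfsg.Agent.H782.Weyl
end

-- part: H782/Weyl/Semi
section
/-!
# The line spanned by `log x` in the endomorphism ring (helper782)

`ρ : G → GL(B)` over `ZMod p`, `x` of order `p`, `X = log (ρ x)`, `N = N_G(⟨x⟩)`.
* `ad_log` : `Ad g X = a X` if `g x g⁻¹ = x ^ a`;
* `mem_norm_of_ad` : the stabilizer of the line `⟨X⟩` is `N`.
-/

set_option autoImplicit false

namespace Cfsg.Agent.H782.Weyl

open Module

variable {p : ℕ} [hp : Fact p.Prime] {G : Type*} [Group G] {B : Type*} [AddCommGroup B]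
  [Module (ZMod p) B] (ρ : Representation (ZMod p) G B)

/-- conjugation on endomorphisms -/
noncomputable abbrev Ad : Representation (ZMod p) G (End (ZMod p) B) := ρ.linHom ρ

theorem ad_apply (g : G) (Y : End (ZMod p) B) : Ad ρ g Y = ρ g * Y * ρ g⁻¹ := rfl

theorem ad_mul (g : G) (Y Z : End (ZMod p) B) : Ad ρ g (Y * Z) = Ad ρ g Y * Ad ρ g Z := by
  simp only [ad_apply]
  have h : ρ g⁻¹ * ρ g = 1 := by rw [← map_mul, inv_mul_cancel, map_one]
  calc ρ g * (Y * Z) * ρ g⁻¹ = ρ g * Y * (1 * Z) * ρ g⁻¹ := by rw [one_mul]; simp only [mul_assoc]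
    _ = ρ g * Y * ρ g⁻¹ * (ρ g * Z * ρ g⁻¹) := by rw [← h]; simp only [mul_assoc]

theorem trace_ad (g : G) (Y : End (ZMod p) B) :
    LinearMap.trace (ZMod p) B (Ad ρ g Y) = LinearMap.trace (ZMod p) B Y := by
  rw [ad_apply, LinearMap.trace_mul_comm, ← mul_assoc, ← map_mul, inv_mul_cancel, map_one, one_mul]

theorem ad_pow_apply (g : G) (m : ℕ) (h : G) : Ad ρ g (ρ h ^ m) = ρ (g * h ^ m * g⁻¹) := by
  rw [ad_apply, ← map_pow, ← map_mul, ← map_mul]

variable {x : G}

theorem pow_val_congr (hx : x ^ p = 1) {m n : ℕ} (h : (m : ZMod p) = n) : x ^ m = x ^ n := by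
  have h1 : m ≡ n [MOD p] := (ZMod.natCast_eq_natCast_iff _ _ _).1 h
  have h2 : ∀ k, x ^ k = x ^ (k % p) := fun k => by
    conv_lhs => rw [← Nat.mod_add_div k p, pow_add, pow_mul, hx, one_pow, mul_one]
  rw [h2 m, h2 n]
  congr 1

/-- `Ad g (log x) = a log x` if `g x g⁻¹ = x ^ a` -/
theorem ad_log (hx : x ^ p = 1) (g : G) (a : (ZMod p)ˣ) (ha : g * x * g⁻¹ = x ^ (a : ZMod p).val) :
    Ad ρ g (logOp (ρ x)) = (a : ZMod p) • logOp (ρ x) := by
  classical
  unfold logOp
  rw [map_neg, map_sum, smul_neg, Finset.smul_sum]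
  congr 1
  refine Fintype.sum_equiv (Equiv.mulLeft a) _ _ fun b => ?_
  rw [map_smul, ad_pow_apply, smul_smul, Equiv.coe_mulLeft, mul_inv_rev]
  have h1 : g * x ^ (b : ZMod p).val * g⁻¹ = x ^ ((a * b : (ZMod p)ˣ) : ZMod p).val := by
    rw [← conj_pow, ha, ← pow_mul]
    apply pow_val_congr hx
    push_cast
    rw [ZMod.natCast_zmod_val, ZMod.natCast_zmod_val, ZMod.natCast_zmod_val]
  rw [h1, map_pow]
  congr 1
  rw [← Units.val_mul]
  congr 1
  rw [mul_comm b⁻¹ a⁻¹, mul_inv_cancel_left]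

theorem exists_unit (hx : orderOf x = p) {g : G} (hg : g ∈ Subgroup.normalizer (Subgroup.zpowers x : Set G)) :
    ∃ a : (ZMod p)ˣ, g * x * g⁻¹ = x ^ (a : ZMod p).val := by
  have h1 : g * x * g⁻¹ ∈ Subgroup.zpowers x :=
    (Subgroup.mem_normalizer_iff.1 hg x).1 (Subgroup.mem_zpowers x)
  have hfin : IsOfFinOrder x := by
    rw [← orderOf_pos_iff, hx]
    exact hp.out.pos
  obtain ⟨n, hn⟩ := (Submonoid.mem_powers_iff _ _).1 (hfin.mem_powers_iff_mem_zpowers.2 h1)
  have hn0 : (n : ZMod p) ≠ 0 := by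
    intro h
    rw [ZMod.natCast_eq_zero_iff] at h
    obtain ⟨c, rfl⟩ := h
    change x ^ (p * c) = g * x * g⁻¹ at hn
    rw [pow_mul, ← hx, pow_orderOf_eq_one, one_pow, eq_comm, mul_inv_eq_one, mul_eq_left] at hn
    rw [hn, orderOf_one] at hx
    exact hp.out.one_lt.ne hx
  refine ⟨Units.mk0 (n : ZMod p) hn0, ?_⟩
  rw [← hn]
  have hxp : x ^ p = 1 := by rw [← hx, pow_orderOf_eq_one]
  apply pow_val_congr hxp
  rw [Units.val_mk0, ZMod.natCast_zmod_val]

theorem ad_log_of_mem (hx : orderOf x = p) {g : G}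
    (hg : g ∈ Subgroup.normalizer (Subgroup.zpowers x : Set G)) :
    ∃ a : (ZMod p)ˣ, Ad ρ g (logOp (ρ x)) = (a : ZMod p) • logOp (ρ x) := by
  obtain ⟨a, ha⟩ := exists_unit hx hg
  exact ⟨a, ad_log ρ (by rw [← hx, pow_orderOf_eq_one]) g a ha⟩

theorem commute_of_ad {Y : End (ZMod p) B} {g : G} (h : Ad ρ g Y = Y) : Y * ρ g = ρ g * Y := by
  rw [ad_apply] at h
  have h1 : ρ g⁻¹ * ρ g = 1 := by rw [← map_mul, inv_mul_cancel, map_one]
  calc Y * ρ g = ρ g * Y * ρ g⁻¹ * ρ g := by rw [h]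
    _ = ρ g * Y := by rw [mul_assoc, h1, mul_one]

/-- the stabilizer of the line spanned by `log x` -/
theorem mem_norm_of_ad [Finite G] (hfaith : Function.Injective ρ)
    (hcom : ∀ Y : End (ZMod p) B, Y * logOp (ρ x) = logOp (ρ x) * Y → Y * ρ x = ρ x * Y)
    (hcent : ∀ g, Commute g x → g ∈ Subgroup.zpowers x) (hxX : Ad ρ x (logOp (ρ x)) = logOp (ρ x)) {g : G}
    {t : ZMod p} (ht : t ≠ 0) (h : Ad ρ g (logOp (ρ x)) = t • logOp (ρ x)) :
    g ∈ Subgroup.normalizer (Subgroup.zpowers x : Set G) := by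
  have hcent' : ∀ g, Ad ρ g (logOp (ρ x)) = logOp (ρ x) → g ∈ Subgroup.zpowers x := by
    intro g hg
    apply hcent
    apply hfaith
    rw [map_mul, map_mul]
    exact hcom _ (commute_of_ad ρ hg).symm
  have hinv : Ad ρ g⁻¹ (logOp (ρ x)) = t⁻¹ • logOp (ρ x) := by
    have h1 := congrArg (Ad ρ g⁻¹) h
    rw [← Module.End.mul_apply, ← map_mul, inv_mul_cancel, map_one, Module.End.one_apply, map_smul] at h1
    conv_rhs => rw [h1]
    rw [smul_smul, inv_mul_cancel₀ ht, one_smul]
  have h2 : g * x * g⁻¹ ∈ Subgroup.zpowers x := by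
    apply hcent'
    rw [map_mul, map_mul, Module.End.mul_apply, Module.End.mul_apply, hinv, map_smul, hxX, map_smul, h, smul_smul,
      inv_mul_cancel₀ ht, one_smul]
  have h3 : (Subgroup.zpowers x).map (MulAut.conj g).toMonoidHom ≤ Subgroup.zpowers x := by
    rw [MonoidHom.map_zpowers, Subgroup.zpowers_le]
    exact h2
  have h4 : (Subgroup.zpowers x).map (MulAut.conj g).toMonoidHom = Subgroup.zpowers x := by
    apply Subgroup.eq_of_le_of_card_ge h3
    rw [← Nat.card_congr ((Subgroup.zpowers x).equivMapOfInjective _ (MulAut.conj g).injective).toEquiv]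
  exact Subgroup.mem_normalizer_iff_map_conj_eq.2 h4

end Cfsg.Agent.H782.Weyl
end

-- part: H782/Weyl/FitCore
section
/-!
# The Fitting decomposition argument (helper782)

Abstract linear algebra: `c` unipotent preserving a bilinear form `b`, `Θ` commuting with `c`, `Θ X = m X`, `Θ` maps
the fixed vectors of `c` into the line of `X`, and `(c - 1) ^ 2 F = 2 X` with `b X F ≠ 0`. Then the Fitting-one
component of `Θ` is spanned by `X`, `A₁`, `A`.
-/

set_option autoImplicit false

namespace Cfsg.Agent.H782.Weyl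

open Module

theorem fit_core {K V : Type*} [Field K] [AddCommGroup V] [Module K V] [FiniteDimensional K V]
    (h2 : (2 : K) ≠ 0) (b : V →ₗ[K] V →ₗ[K] K) (c Θ : End K V) (X F : V) (m : K) (hm : m ≠ 0)
    (hb : ∀ y z, b (c y) (c z) = b y z) (hcomm : ∀ y, Θ (c y) = c (Θ y)) (hcX : c X = X) (hΘX : Θ X = m • X)
    (hspan : ∀ y, c y = y → ∃ t : K, Θ y = t • X) (hF : (c - 1) ((c - 1) F) = (2 : K) • X) (hα : b X F ≠ 0)
    (hnil : ∃ k : ℕ, (c - 1) ^ k = 0) :
    ∃ n : ℕ, ∃ A A₁ : V, X ∈ LinearMap.range (Θ ^ n) ∧ A ∈ LinearMap.range (Θ ^ n) ∧ c A = A + A₁ ∧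
      c A₁ = A₁ + (2 : K) • X ∧ b X A ≠ 0 ∧
      ∀ u ∈ LinearMap.range (Θ ^ n), ∃ r q t : K, u = r • X + q • A₁ + t • A := by
  obtain ⟨n, hn1, hn⟩ := ((Filter.eventually_ge_atTop 1).and
    (LinearMap.eventually_isCompl_ker_pow_range_pow Θ)).exists
  set U := LinearMap.range (Θ ^ n) with hU
  set Q := LinearMap.ker (Θ ^ n) with hQ
  set Δ := c - 1 with hΔ
  have hcommn : ∀ (k : ℕ) y, (Θ ^ k) (c y) = c ((Θ ^ k) y) := by
    intro k
    induction k with
    | zero => intro y; rw [pow_zero, Module.End.one_apply, Module.End.one_apply]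
    | succ k ih => intro y; rw [pow_succ, Module.End.mul_apply, Module.End.mul_apply, hcomm, ih]
  have hcU : ∀ u ∈ U, c u ∈ U := by
    rintro _ ⟨y, rfl⟩
    exact ⟨c y, hcommn n y⟩
  have hΔU : ∀ u ∈ U, Δ u ∈ U := fun u hu => by
    rw [hΔ, LinearMap.sub_apply, Module.End.one_apply]
    exact U.sub_mem (hcU u hu) hu
  have hΔQ : ∀ u ∈ Q, Δ u ∈ Q := fun u hu => by
    rw [hΔ, LinearMap.sub_apply, Module.End.one_apply]
    refine Q.sub_mem ?_ hu
    rw [hQ, LinearMap.mem_ker, hcommn, LinearMap.mem_ker.1 hu, map_zero]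
  have hΘXn : ∀ k : ℕ, (Θ ^ k) X = m ^ k • X := by
    intro k
    induction k with
    | zero => rw [pow_zero, pow_zero, Module.End.one_apply, one_smul]
    | succ k ih => rw [pow_succ', Module.End.mul_apply, ih, map_smul, hΘX, smul_smul, pow_succ]
  have hXU : X ∈ U := ⟨(m ^ n)⁻¹ • X, by rw [map_smul, hΘXn, smul_smul, inv_mul_cancel₀ (pow_ne_zero _ hm), one_smul]⟩
  have hfix : ∀ y ∈ U, c y = y → ∃ t : K, y = t • X := by
    intro y hy hcy
    obtain ⟨t, ht⟩ := hspan y hcy
    refine ⟨t * m⁻¹, ?_⟩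
    have h1 : y - (t * m⁻¹) • X ∈ U := U.sub_mem hy (U.smul_mem _ hXU)
    have h3 : Θ (y - (t * m⁻¹) • X) = 0 := by
      rw [map_sub, map_smul, ht, hΘX, smul_smul, mul_assoc, inv_mul_cancel₀ hm, mul_one, sub_self]
    have h4 : y - (t * m⁻¹) • X ∈ Q := by
      rw [hQ, LinearMap.mem_ker]
      obtain ⟨j, rfl⟩ := Nat.exists_eq_add_of_le hn1
      rw [add_comm, pow_succ, Module.End.mul_apply, h3, map_zero]
    have h5 := Submodule.disjoint_def.1 hn.disjoint _ h4 h1
    exact sub_eq_zero.1 h5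
  have hΔfix : ∀ y, Δ y = 0 → c y = y := by
    intro y hy
    rw [hΔ, LinearMap.sub_apply, Module.End.one_apply] at hy
    exact sub_eq_zero.1 hy
  have hcΔ : ∀ y, c y = y + Δ y := by
    intro y
    rw [hΔ, LinearMap.sub_apply, Module.End.one_apply]
    abel
  have hΔX : Δ X = 0 := by
    rw [hΔ, LinearMap.sub_apply, Module.End.one_apply, hcX, sub_self]
  -- decompose `F`
  obtain ⟨k, A, hkA⟩ : ∃ (k : Q) (A : U), (k : V) + (A : V) = F := by
    have h1 : F ∈ Q ⊔ U := by rw [hn.sup_eq_top]; exact Submodule.mem_top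
    obtain ⟨k, hk, A, hA, h⟩ := Submodule.mem_sup.1 h1
    exact ⟨⟨k, hk⟩, ⟨A, hA⟩, h⟩
  have hsum : Δ (Δ (k : V)) + Δ (Δ (A : V)) = (2 : K) • X := by
    rw [← hF, ← hkA, map_add, map_add]
  have hkQ : Δ (Δ (k : V)) ∈ Q := hΔQ _ (hΔQ _ k.2)
  have hk0 : Δ (Δ (k : V)) = 0 := by
    have h1 : Δ (Δ (k : V)) ∈ U := by
      have h2 : Δ (Δ (k : V)) = (2 : K) • X - Δ (Δ (A : V)) := by rw [← hsum]; abel
      rw [h2]
      exact U.sub_mem (U.smul_mem _ hXU) (hΔU _ (hΔU _ A.2))
    exact Submodule.disjoint_def.1 hn.disjoint _ hkQ h1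
  have hA2 : Δ (Δ (A : V)) = (2 : K) • X := by rw [← hsum, hk0, zero_add]
  have hbΔ : ∀ y z, b (Δ y) (c z) = - b y (Δ z) := by
    intro y z
    rw [hcΔ z, map_add]
    have h1 := hb y z
    rw [hcΔ y, hcΔ z, map_add, map_add, LinearMap.add_apply, LinearMap.add_apply] at h1
    linear_combination h1
  have hcDc : ∀ y, Δ (c y) = c (Δ y) := by
    intro y
    rw [hΔ, LinearMap.sub_apply, LinearMap.sub_apply, Module.End.one_apply, Module.End.one_apply, map_sub]
  have hbX : ∀ z, b X (c z) = b X z := by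
    intro z
    conv_lhs => rw [← hcX]
    exact hb _ _
  have hXk : b X (k : V) = 0 := by
    have h1 : b ((2 : K) • X) (c (c (k : V))) = 0 := by
      rw [← hF, hbΔ, hcDc, hbΔ, hk0, map_zero, neg_neg]
    rw [map_smul, LinearMap.smul_apply, hbX, hbX, smul_eq_mul] at h1
    exact (mul_eq_zero.1 h1).resolve_left h2
  have hXA : b X (A : V) ≠ 0 := by
    rw [← hkA, map_add, hXk, zero_add] at hα
    exact hα
  -- the cube vanishes
  have h43 : ∀ w ∈ U, Δ (Δ (Δ (Δ w))) = 0 → Δ (Δ (Δ w)) = 0 := by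
    intro w hw h4
    obtain ⟨t, ht⟩ := hfix _ (hΔU _ (hΔU _ (hΔU _ hw))) (hΔfix _ h4)
    have h1 : b (Δ (Δ (Δ w))) (c (c (c (A : V)))) = 0 := by
      rw [hbΔ, hcDc, hcDc, hbΔ, hcDc, hbΔ, hA2, map_smul, hΔX, smul_zero, map_zero]
      simp
    rw [ht, map_smul, LinearMap.smul_apply, hbX, hbX, hbX, smul_eq_mul] at h1
    rw [ht, (mul_eq_zero.1 h1).resolve_right hXA, zero_smul]
  have hcube : ∀ u ∈ U, Δ (Δ (Δ u)) = 0 := by
    obtain ⟨k, hk⟩ := hnil
    have key : ∀ j : ℕ, ∀ u ∈ U, (Δ ^ j) (Δ (Δ (Δ u))) = 0 → Δ (Δ (Δ u)) = 0 := by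
      intro j
      induction j with
      | zero => intro u _ h; rwa [pow_zero, Module.End.one_apply] at h
      | succ j ih =>
        intro u hu h
        rw [pow_succ, Module.End.mul_apply] at h
        exact h43 u hu (ih (Δ u) (hΔU _ hu) h)
    intro u hu
    refine key k u hu ?_
    rw [hk, LinearMap.zero_apply]
  refine ⟨n, A, Δ A, hXU, A.2, hcΔ _, ?_, hXA, ?_⟩
  · rw [hcΔ, hA2]
  · intro u hu
    obtain ⟨t, ht⟩ := hfix _ (hΔU _ (hΔU _ hu)) (hΔfix _ (hcube u hu))
    have hu' : u - (t * 2⁻¹) • (A : V) ∈ U := U.sub_mem hu (U.smul_mem _ A.2)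
    have h1 : Δ (Δ (u - (t * 2⁻¹) • (A : V))) = 0 := by
      rw [map_sub, map_sub, map_smul, map_smul, ht, hA2, smul_smul, mul_assoc, inv_mul_cancel₀ h2, mul_one, sub_self]
    obtain ⟨q, hq⟩ := hfix _ (hΔU _ hu') (hΔfix _ h1)
    have hu'' : u - (t * 2⁻¹) • (A : V) - (q * 2⁻¹) • Δ (A : V) ∈ U :=
      U.sub_mem hu' (U.smul_mem _ (hΔU _ A.2))
    have h2' : Δ (u - (t * 2⁻¹) • (A : V) - (q * 2⁻¹) • Δ (A : V)) = 0 := by
      rw [map_sub, hq, map_smul, hA2, smul_smul, mul_assoc, inv_mul_cancel₀ h2, mul_one, sub_self]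
    obtain ⟨r, hr⟩ := hfix _ hu'' (hΔfix _ h2')
    refine ⟨r, q * 2⁻¹, t * 2⁻¹, ?_⟩
    rw [← hr]
    abel

end Cfsg.Agent.H782.Weyl
end

-- part: H782/Weyl/Fit
section
/-!
# The three-dimensional submodule of the endomorphism ring (helper782)

`Reg ρ x s` : `x` of order `p` with cyclic centralizer `⟨x⟩`, `p² ∤ |G|`, `ρ` faithful of dimension `s`,
`2 ≤ s ≤ (p - 1) / 2`, `ρ x` a single Jordan block.
* `Reg.exists_sub` : a `G`-invariant submodule `U` of `End B` spanned by `X = log (ρ x)`, `A₁` and `A`, with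
  `Ad x A = A + A₁`, `Ad x A₁ = A₁ + 2 X`, `tr (X A) ≠ 0`.
-/

set_option autoImplicit false

namespace Cfsg.Agent.H782.Weyl

open Module

variable {p : ℕ} [hp : Fact p.Prime] {G : Type*} [Group G] {B : Type*} [AddCommGroup B]
  [Module (ZMod p) B] (ρ : Representation (ZMod p) G B)

/-- the trace form -/
noncomputable def bf (Y Z : End (ZMod p) B) : ZMod p := LinearMap.trace (ZMod p) B (Y * Z)

theorem bf_add_left (Y Y' Z : End (ZMod p) B) : bf (Y + Y') Z = bf Y Z + bf Y' Z := by
  simp [bf, add_mul]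

theorem bf_add_right (Y Z Z' : End (ZMod p) B) : bf Y (Z + Z') = bf Y Z + bf Y Z' := by
  simp [bf, mul_add]

theorem bf_sub_left (Y Y' Z : End (ZMod p) B) : bf (Y - Y') Z = bf Y Z - bf Y' Z := by
  simp [bf, sub_mul]

theorem bf_sub_right (Y Z Z' : End (ZMod p) B) : bf Y (Z - Z') = bf Y Z - bf Y Z' := by
  simp [bf, mul_sub]

theorem bf_smul_left (t : ZMod p) (Y Z : End (ZMod p) B) : bf (t • Y) Z = t * bf Y Z := by
  simp [bf]

theorem bf_smul_right (t : ZMod p) (Y Z : End (ZMod p) B) : bf Y (t • Z) = t * bf Y Z := by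
  simp [bf]

theorem bf_comm (Y Z : End (ZMod p) B) : bf Y Z = bf Z Y := LinearMap.trace_mul_comm _ _ _

theorem bf_zero_left (Z : End (ZMod p) B) : bf (0 : End (ZMod p) B) Z = 0 := by simp [bf]

theorem bf_zero_right (Z : End (ZMod p) B) : bf Z (0 : End (ZMod p) B) = 0 := by simp [bf]

theorem bf_ad (g : G) (Y Z : End (ZMod p) B) : bf (Ad ρ g Y) (Ad ρ g Z) = bf Y Z := by
  unfold bf
  rw [← ad_mul, trace_ad]

/-- a functional -/
noncomputable def bfl (Z : End (ZMod p) B) : End (ZMod p) B →ₗ[ZMod p] ZMod p :=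
  (LinearMap.trace (ZMod p) B) ∘ₗ (LinearMap.mulRight (ZMod p) Z)

theorem bfl_apply (Z Y : End (ZMod p) B) : bfl Z Y = bf Y Z := rfl

/-- the projection onto the block of `X` -/
noncomputable def pi0 (α : ZMod p) (X E F : End (ZMod p) B) : End (ZMod p) (End (ZMod p) B) :=
  α⁻¹ • ((bfl F).smulRight X - (2 : ZMod p) • (bfl E).smulRight E + (bfl X).smulRight F)

theorem pi0_apply (α : ZMod p) (X E F Y : End (ZMod p) B) :
    pi0 α X E F Y = α⁻¹ • (bf Y F • X - (2 : ZMod p) • bf Y E • E + bf Y X • F) := rfl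

theorem pow_ad_sub_one {x : G} {s : ℕ} (h : (ρ x - 1) ^ s = 0) (m : ℕ) (hm : 2 * s ≤ m + 1) :
    (Ad ρ x - 1) ^ m = 0 := by
  set L : End (ZMod p) (End (ZMod p) B) := LinearMap.mulLeft (ZMod p) (ρ x) with hL
  set R : End (ZMod p) (End (ZMod p) B) := LinearMap.mulRight (ZMod p) (ρ x⁻¹) with hR
  have hLR : Commute L R := LinearMap.commute_mulLeft_right _ _
  have hc : Ad ρ x = L * R := by
    refine LinearMap.ext fun Y => ?_
    rw [ad_apply, Module.End.mul_apply, hL, hR, LinearMap.mulRight_apply, LinearMap.mulLeft_apply, mul_assoc]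
  have h1 : (L - 1) ^ s = 0 := by
    have h2 : L - 1 = LinearMap.mulLeft (ZMod p) (ρ x - 1) := by
      refine LinearMap.ext fun Y => ?_
      rw [LinearMap.sub_apply, LinearMap.mulLeft_apply, LinearMap.mulLeft_apply, sub_mul, one_mul,
        Module.End.one_apply]
    rw [h2, LinearMap.pow_mulLeft, h]
    refine LinearMap.ext fun Y => ?_
    rw [LinearMap.mulLeft_apply, zero_mul, LinearMap.zero_apply]
  have h3 : (R - 1) ^ s = 0 := by
    have h2 : R - 1 = LinearMap.mulRight (ZMod p) (ρ x⁻¹ - 1) := by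
      refine LinearMap.ext fun Y => ?_
      rw [LinearMap.sub_apply, LinearMap.mulRight_apply, LinearMap.mulRight_apply, mul_sub, mul_one,
        Module.End.one_apply]
    have h4 : ρ x⁻¹ - 1 = (ρ x - 1) * (- ρ x⁻¹) := by
      rw [sub_mul, one_mul, mul_neg, ← map_mul, mul_inv_cancel, map_one]
      abel
    have h5 : Commute (ρ x - 1) (- ρ x⁻¹) := by
      refine Commute.neg_right (Commute.sub_left ?_ (Commute.one_left _))
      change ρ x * ρ x⁻¹ = ρ x⁻¹ * ρ x
      rw [← map_mul, ← map_mul, mul_inv_cancel, inv_mul_cancel]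
    rw [h2, LinearMap.pow_mulRight, h4, h5.mul_pow, h, zero_mul]
    refine LinearMap.ext fun Y => ?_
    rw [LinearMap.mulRight_apply, mul_zero, LinearMap.zero_apply]
  have h6 : Ad ρ x - 1 = (L - 1) * R + (R - 1) := by
    rw [hc, sub_mul, one_mul]
    abel
  have h7 : Commute (L - 1) R := Commute.sub_left hLR (Commute.one_left _)
  have h8 : Commute ((L - 1) * R) (R - 1) :=
    Commute.mul_left (Commute.sub_right h7 (Commute.one_right _)) (Commute.sub_right (Commute.refl _) (Commute.one_right _))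
  rw [h6]
  refine h8.add_pow_eq_zero_of_add_le_succ_of_pow_eq_zero (m := s) (n := s) ?_ h3 ?_
  · rw [h7.mul_pow, h1, zero_mul]
  · omega

/-- the standing hypotheses -/
structure Reg (ρ : Representation (ZMod p) G B) (x : G) (s : ℕ) : Prop where
  ord : orderOf x = p
  dim : finrank (ZMod p) B = s
  two_le : 2 ≤ s
  le : 2 * s ≤ p - 1
  reg : (ρ x - 1) ^ (s - 1) ≠ 0
  syl : ¬ p ^ 2 ∣ Nat.card G
  cent : ∀ g, Commute g x → g ∈ Subgroup.zpowers x
  faith : Function.Injective ρ

namespace Reg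

variable {ρ} {x : G} {s : ℕ} [FiniteDimensional (ZMod p) B] [Finite G]

omit [FiniteDimensional (ZMod p) B] [Finite G] in
theorem xp (h : Reg ρ x s) : x ^ p = 1 := by rw [← h.ord, pow_orderOf_eq_one]

omit [Finite G] in
theorem nil (h : Reg ρ x s) : (ρ x - 1) ^ s = 0 := by
  have h1 : (ρ x - 1) ^ p = 0 := by
    have h2 : CharP (End (ZMod p) B) p := by
      have hnt : Nontrivial B := by
        apply nontrivial_of_finrank_pos (R := ZMod p)
        rw [h.dim]
        have := h.two_le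
        omega
      exact charP_of_injective_algebraMap (FaithfulSMul.algebraMap_injective (ZMod p) (End (ZMod p) B)) p
    rw [sub_pow_char_of_commute p (Commute.one_right _), one_pow, ← map_pow, h.xp, map_one, sub_self]
  have h2 := Module.End.ker_pow_le_ker_pow_finrank (ρ x - 1) p
  rw [h1, h.dim] at h2
  refine LinearMap.ext fun v => ?_
  have h3 : v ∈ LinearMap.ker (0 : End (ZMod p) B) := by rw [LinearMap.mem_ker, LinearMap.zero_apply]
  exact LinearMap.mem_ker.1 (h2 h3)

/-- the key construction -/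
theorem exists_sub (h : Reg ρ x s) : ∃ (U : Submodule (ZMod p) (End (ZMod p) B)) (A A₁ : End (ZMod p) B),
    (∀ g, ∀ u ∈ U, Ad ρ g u ∈ U) ∧ logOp (ρ x) ∈ U ∧ A ∈ U ∧
    Ad ρ x (logOp (ρ x)) = logOp (ρ x) ∧ Ad ρ x A = A + A₁ ∧ Ad ρ x A₁ = A₁ + (2 : ZMod p) • logOp (ρ x) ∧
    (∀ u ∈ U, ∃ r q t : ZMod p, u = r • logOp (ρ x) + q • A₁ + t • A) ∧
    bf (logOp (ρ x)) A ≠ 0 ∧ bf (logOp (ρ x)) (logOp (ρ x)) = 0 ∧
    (∀ Y : End (ZMod p) B, Y * logOp (ρ x) = logOp (ρ x) * Y → Y * ρ x = ρ x * Y) ∧ logOp (ρ x) ≠ 0 := by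
  classical
  have hs2 := h.two_le
  have hs := h.le
  have hp5 : 5 ≤ p := by omega
  have h2ne : (2 : ZMod p) ≠ 0 := by
    intro h1
    have h2 : ((2 : ℕ) : ZMod p) = 0 := by exact_mod_cast h1
    rw [ZMod.natCast_eq_zero_iff] at h2
    have := Nat.le_of_dvd (by norm_num) h2
    omega
  obtain ⟨E, F, hTX, hTE, hTF, hα, hXnil, hX0, hcom⟩ := exists_ops h.dim hs2 (by omega) h.nil h.reg
  set X := logOp (ρ x) with hX
  set c := Ad ρ x with hc
  have hTT : ρ x * ρ x⁻¹ = 1 := by rw [← map_mul, mul_inv_cancel, map_one]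
  have hcX : c X = X := by
    rw [hc, ad_apply, hTX, mul_assoc, hTT, mul_one]
  have hcE : c E = E + X := by
    rw [hc, ad_apply, hTE, mul_assoc, hTT, mul_one]
  have hcF : c F = F + (2 : ZMod p) • E + X := by
    rw [hc, ad_apply, hTF, mul_assoc, hTT, mul_one]
  set α := bf X F with hαdef
  have hα0 : α ≠ 0 := hα
  have hcinv : ∀ Y Z, bf (c Y) (c Z) = bf Y Z := fun Y Z => bf_ad ρ x Y Z
  -- values of functionals
  have hbX : ∀ Y, bf (c Y) X = bf Y X := fun Y => by
    conv_lhs => rw [← hcX]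
    exact hcinv _ _
  have hbE : ∀ Y, bf (c Y) E = bf Y E - bf Y X := fun Y => by
    have h1 : E = c (E - X) := by rw [map_sub, hcE, hcX]; abel
    conv_lhs => rw [h1]
    rw [hcinv, bf_sub_right]
  have hbF : ∀ Y, bf (c Y) F = bf Y F - 2 * bf Y E + bf Y X := fun Y => by
    have h1 : F = c (F - (2 : ZMod p) • E + X) := by
      rw [map_add, map_sub, map_smul, hcF, hcE, hcX, smul_add, two_smul (ZMod p) X]
      abel
    conv_lhs => rw [h1]
    rw [hcinv, bf_add_right, bf_sub_right, bf_smul_right]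
  -- the projection is equivariant
  set π := pi0 α X E F with hπ
  have hπc : ∀ Y, π (c Y) = c (π Y) := by
    intro Y
    rw [hπ, pi0_apply, pi0_apply, hbX, hbE, hbF, map_smul, map_add, map_sub, map_smul, map_smul, map_smul, map_smul,
      hcX, hcE, hcF]
    congr 1
    module
  -- fixed vectors
  have hfixX : ∀ Y, c Y = Y → bf Y X = 0 := by
    intro Y hY
    have h1 := hbE Y
    rw [hY] at h1
    linear_combination h1
  have hfixE : ∀ Y, c Y = Y → bf Y E = 0 := by
    intro Y hY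
    have h1 := hbF Y
    rw [hY, hfixX Y hY] at h1
    have h2 : 2 * bf Y E = 0 := by linear_combination h1
    exact (mul_eq_zero.1 h2).resolve_left h2ne
  have hπfix : ∀ Y, c Y = Y → π Y = (α⁻¹ * bf Y F) • X := by
    intro Y hY
    rw [hπ, pi0_apply, hfixX Y hY, hfixE Y hY, zero_smul, zero_smul, smul_zero, sub_zero, add_zero, smul_smul]
  have hπX : π X = X := by
    rw [hπfix X hcX, inv_mul_cancel₀ hα0, one_smul]
  -- the norm vanishes
  have hnorm : ∀ y : End (ZMod p) B, ∑ i ∈ Finset.range p, (fun z => c z)^[i] y = 0 := by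
    intro y
    have h1 : ∑ i ∈ Finset.range p, c ^ i = 0 := by
      rw [norm_eq]
      exact pow_ad_sub_one ρ h.nil _ (by omega)
    have h2 := LinearMap.congr_fun h1 y
    rw [LinearMap.sum_apply, LinearMap.zero_apply] at h2
    rw [← h2]
    refine Finset.sum_congr rfl fun i _ => ?_
    rw [Module.End.pow_apply]
  -- the relative trace
  set P := Subgroup.zpowers x with hP
  set A₂ := (Ad ρ).linHom (Ad ρ) with hA₂
  have hA₂app : ∀ g (Z : End (ZMod p) (End (ZMod p) B)) y, A₂ g Z y = Ad ρ g (Z (Ad ρ g⁻¹ y)) := fun g Z y => rfl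
  have hxinv : ∀ y, c (Ad ρ x⁻¹ y) = y := by
    intro y
    rw [hc, ← Module.End.mul_apply, ← map_mul, mul_inv_cancel, map_one, Module.End.one_apply]
  have hπP : ∀ u ∈ P, A₂ u π = π := by
    intro u hu
    have h1 : P ≤ { carrier := {g | A₂ g π = π}
                    one_mem' := by
                      change A₂ 1 π = π
                      rw [map_one, Module.End.one_apply]
                    mul_mem' := fun {a b} ha hb => by
                      change A₂ (a * b) π = π
                      change A₂ a π = π at ha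
                      change A₂ b π = π at hb
                      rw [map_mul, Module.End.mul_apply, hb, ha]
                    inv_mem' := fun {a} ha => by
                      change A₂ a⁻¹ π = π
                      change A₂ a π = π at ha
                      conv_lhs => rw [← ha]
                      rw [← Module.End.mul_apply, ← map_mul, inv_mul_cancel, map_one, Module.End.one_apply] } := by
      rw [hP, Subgroup.zpowers_le]
      change A₂ x π = π
      refine LinearMap.ext fun y => ?_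
      rw [hA₂app, ← hc, ← hπc, hxinv]
    exact h1 hu
  set Θ := relSum A₂ P π with hΘ
  have hΘg : ∀ g y, Θ (Ad ρ g y) = Ad ρ g (Θ y) := by
    intro g y
    have h1 := LinearMap.congr_fun (apply_relSum A₂ P π hπP g) (Ad ρ g y)
    rw [hA₂app, ← Module.End.mul_apply (Ad ρ g⁻¹), ← map_mul, inv_mul_cancel, map_one, Module.End.one_apply] at h1
    exact h1.symm
  let i1 : Fintype (G ⧸ P) := Fintype.ofFinite _
  have hΘy : ∀ y, Θ y = ∑ q : G ⧸ P, A₂ (Quotient.out q) π y := by
    intro y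
    rw [hΘ, relSum_eq, LinearMap.sum_apply]
  have hsmul : ∀ q : G ⧸ P, (x • q : G ⧸ P) = ((x * Quotient.out q : G) : G ⧸ P) := by
    intro q
    conv_lhs => rw [← Quotient.out_eq q]
    rfl
  have hper : ∀ q : G ⧸ P, (fun q : G ⧸ P => x • q)^[p] q = q := by
    intro q
    rw [smul_iterate, h.xp]
    exact one_smul G q
  have hΘfix : ∀ y, c y = y → Θ y = ∑ q ∈ Finset.univ.filter (fun q : G ⧸ P => x • q = q),
      A₂ (Quotient.out q) π y := by
    intro y hy
    rw [hΘy]
    refine sum_eq_sum_fixed (p := p) (fun q : G ⧸ P => x • q) (fun q => A₂ (Quotient.out q) π y) (fun z => c z) ?_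
      hnorm hper
    intro q
    rw [hsmul, out_apply A₂ P π hπP, hA₂app, hA₂app, mul_inv_rev, map_mul, map_mul, Module.End.mul_apply,
      Module.End.mul_apply]
    congr 3
    have h1 : Ad ρ x⁻¹ y = y := by
      have h2 := hxinv y
      conv_rhs at h2 => rw [← hy]
      have h3 := congrArg (Ad ρ x⁻¹) h2
      rw [hc, ← Module.End.mul_apply, ← Module.End.mul_apply (Ad ρ x⁻¹), ← map_mul, inv_mul_cancel, map_one,
        Module.End.one_apply, Module.End.one_apply] at h3
      exact h3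
    rw [h1]
  -- the fixed cosets
  have hfixN : ∀ q : G ⧸ P, x • q = q → Quotient.out q ∈ Subgroup.normalizer (P : Set G) := by
    intro q hq
    rw [hsmul] at hq
    set g := Quotient.out q with hg
    have h1 : ((x * g : G) : G ⧸ P) = (g : G ⧸ P) := by
      rw [hq]
      exact (Quotient.out_eq q).symm
    rw [eq_comm, QuotientGroup.eq] at h1
    have h2 : P.map (MulAut.conj g⁻¹).toMonoidHom ≤ P := by
      rw [hP, MonoidHom.map_zpowers, Subgroup.zpowers_le]
      change g⁻¹ * x * g⁻¹⁻¹ ∈ P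
      rw [inv_inv, mul_assoc]
      exact h1
    have h3 : P.map (MulAut.conj g⁻¹).toMonoidHom = P := by
      apply Subgroup.eq_of_le_of_card_ge h2
      rw [← Nat.card_congr (P.equivMapOfInjective _ (MulAut.conj g⁻¹).injective).toEquiv]
    have h4 : g⁻¹ ∈ Subgroup.normalizer (P : Set G) := Subgroup.mem_normalizer_iff_map_conj_eq.2 h3
    exact inv_mem_iff.1 h4
  have hadfix : ∀ g ∈ Subgroup.normalizer (P : Set G), ∀ y, c y = y → c (Ad ρ g⁻¹ y) = Ad ρ g⁻¹ y := by
    intro g hg y hy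
    have h1 : g * x * g⁻¹ ∈ P := (Subgroup.mem_normalizer_iff.1 hg x).1 (Subgroup.mem_zpowers x)
    have h2 : ∀ u ∈ P, Ad ρ u y = y := by
      intro u hu
      obtain ⟨m, rfl⟩ := Subgroup.mem_zpowers_iff.1 hu
      have h3 : P ≤ { carrier := {g | Ad ρ g y = y}
                      one_mem' := by
                        change Ad ρ 1 y = y
                        rw [map_one, Module.End.one_apply]
                      mul_mem' := fun {a b} ha hb => by
                        change Ad ρ (a * b) y = y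
                        change Ad ρ a y = y at ha
                        change Ad ρ b y = y at hb
                        rw [map_mul, Module.End.mul_apply, hb, ha]
                      inv_mem' := fun {a} ha => by
                        change Ad ρ a⁻¹ y = y
                        change Ad ρ a y = y at ha
                        conv_lhs => rw [← ha]
                        rw [← Module.End.mul_apply, ← map_mul, inv_mul_cancel, map_one, Module.End.one_apply] } := by
        rw [hP, Subgroup.zpowers_le]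
        exact hy
      exact h3 hu
    rw [hc, ← Module.End.mul_apply, ← map_mul, show x * g⁻¹ = g⁻¹ * (g * x * g⁻¹) by group, map_mul,
      Module.End.mul_apply, h2 _ h1]
  have hfixval : ∀ y, c y = y → ∀ q : G ⧸ P, x • q = q → ∃ t : ZMod p, A₂ (Quotient.out q) π y = t • X := by
    intro y hy q hq
    have hg := hfixN q hq
    rw [hA₂app, hπfix _ (hadfix _ hg y hy), map_smul]
    obtain ⟨a, ha⟩ := ad_log_of_mem ρ h.ord hg
    rw [← hX] at ha
    exact ⟨_, by rw [ha, smul_smul]⟩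
  have hfixvalX : ∀ q : G ⧸ P, x • q = q → A₂ (Quotient.out q) π X = X := by
    intro q hq
    have hg := hfixN q hq
    obtain ⟨a, ha⟩ := ad_log_of_mem ρ h.ord (inv_mem hg)
    rw [← hX] at ha
    rw [hA₂app, ha, map_smul, hπX, ← ha, ← Module.End.mul_apply, ← map_mul, mul_inv_cancel, map_one,
      Module.End.one_apply]
  -- `Θ` on the fixed vectors
  have hΘspan : ∀ y, c y = y → ∃ t : ZMod p, Θ y = t • X := by
    intro y hy
    rw [hΘfix y hy]
    have h1 : ∀ q ∈ Finset.univ.filter (fun q : G ⧸ P => x • q = q), ∃ t : ZMod p,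
        A₂ (Quotient.out q) π y = t • X := fun q hq => hfixval y hy q (Finset.mem_filter.1 hq).2
    choose! t ht using h1
    exact ⟨∑ q ∈ Finset.univ.filter (fun q : G ⧸ P => x • q = q), t q, by
      rw [Finset.sum_smul]
      exact Finset.sum_congr rfl ht⟩
  set m : ZMod p := (Nat.card (G ⧸ P) : ZMod p) with hm
  have hm0 : m ≠ 0 := by
    intro h1
    rw [hm, ZMod.natCast_eq_zero_iff] at h1
    apply h.syl
    have h2 := Subgroup.card_eq_card_quotient_mul_card_subgroup P
    rw [h2, pow_two]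
    refine mul_dvd_mul h1 ?_
    rw [hP, Nat.card_zpowers, h.ord]
  have hmfix : m = ((Finset.univ.filter (fun q : G ⧸ P => x • q = q)).card : ZMod p) := by
    have h1 := sum_eq_sum_fixed (p := p) (fun q : G ⧸ P => x • q) (fun _ => (1 : ZMod p)) (fun z => z) (fun _ => rfl)
      (fun y => by
        have h2 : ∀ i, (fun z : ZMod p => z)^[i] y = y := fun i => by
          induction i with
          | zero => rfl
          | succ i ih => rw [Function.iterate_succ_apply, ih]
        rw [Finset.sum_congr rfl (fun i _ => h2 i), Finset.sum_const, Finset.card_range, nsmul_eq_mul,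
          CharP.cast_eq_zero, zero_mul]) hper
    rw [Finset.sum_const, Finset.sum_const, Finset.card_univ, nsmul_eq_mul, nsmul_eq_mul, mul_one, mul_one] at h1
    rw [hm, Nat.card_eq_fintype_card, h1]
  have hΘX : Θ X = m • X := by
    rw [hΘfix X hcX, Finset.sum_congr rfl (fun q hq => hfixvalX q (Finset.mem_filter.1 hq).2), Finset.sum_const, hmfix,
      ← Nat.cast_smul_eq_nsmul (ZMod p)]
  -- the bilinear form
  let b : End (ZMod p) B →ₗ[ZMod p] End (ZMod p) B →ₗ[ZMod p] ZMod p :=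
    LinearMap.mk₂ (ZMod p) bf bf_add_left bf_smul_left bf_add_right bf_smul_right
  have hΔF : (c - 1) ((c - 1) F) = (2 : ZMod p) • X := by
    have h1 : (c - 1) F = (2 : ZMod p) • E + X := by
      rw [LinearMap.sub_apply, Module.End.one_apply, hcF]
      abel
    rw [h1, LinearMap.sub_apply, Module.End.one_apply, map_add, map_smul, hcE, hcX, smul_add]
    abel
  obtain ⟨n, A, A₁, hXU, hAU, hcA, hcA₁, hXA, hspan⟩ := fit_core h2ne b c Θ X F m hm0 (fun y z => hcinv y z)
    (fun y => hΘg x y) hcX hΘX hΘspan hΔF hα ⟨p - 1, pow_ad_sub_one ρ h.nil _ (by omega)⟩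
  have hgn : ∀ g (k : ℕ) y, (Θ ^ k) (Ad ρ g y) = Ad ρ g ((Θ ^ k) y) := by
    intro g k
    induction k with
    | zero => intro y; rw [pow_zero, Module.End.one_apply, Module.End.one_apply]
    | succ k ih => intro y; rw [pow_succ, Module.End.mul_apply, Module.End.mul_apply, hΘg, ih]
  refine ⟨LinearMap.range (Θ ^ n), A, A₁, ?_, hXU, hAU, hcX, hcA, hcA₁, hspan, hXA, ?_, hcom, hX0⟩
  · rintro g _ ⟨y, rfl⟩
    exact ⟨Ad ρ g y, hgn g n y⟩
  · have h1 : IsNilpotent (X * X) := (Commute.refl X).isNilpotent_mul_right hXnil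
    exact (LinearMap.isNilpotent_trace_of_isNilpotent h1).eq_zero

end Reg

end Cfsg.Agent.H782.Weyl
end

-- part: H782/Weyl/Two
section
/-!
# The Weyl element (helper782)

`Reg.exists_weyl`: if `⟨x⟩` is not normal, there is `n₀` with `G = N ∪ ⟨x⟩ n₀ N` (`N` the normalizer of `⟨x⟩`)
inverting `N ∩ n₀ N n₀⁻¹`.
-/

set_option autoImplicit false

namespace Cfsg.Agent.H782.Weyl

open Module

/-- the conclusion -/
structure Wey {G : Type*} [Group G] (x n₀ : G) : Prop where
  notMem : n₀ ∉ Subgroup.normalizer (Subgroup.zpowers x : Set G)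
  big : ∀ g, g ∉ Subgroup.normalizer (Subgroup.zpowers x : Set G) →
    ∃ i : ℕ, n₀⁻¹ * (x ^ i * g) ∈ Subgroup.normalizer (Subgroup.zpowers x : Set G)
  inv : ∀ d ∈ Subgroup.normalizer (Subgroup.zpowers x : Set G),
    n₀⁻¹ * d * n₀ ∈ Subgroup.normalizer (Subgroup.zpowers x : Set G) → n₀ * d * n₀⁻¹ = d⁻¹
  sq : n₀ * n₀ = 1

variable {p : ℕ} [hp : Fact p.Prime] {G : Type*} [Group G] {B : Type*} [AddCommGroup B]
  [Module (ZMod p) B] {ρ : Representation (ZMod p) G B} {x : G} {s : ℕ} [FiniteDimensional (ZMod p) B] [Finite G]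

theorem Reg.exists_weyl (h : Reg ρ x s) (hnn : ¬ (Subgroup.zpowers x).Normal) : ∃ n₀, Wey x n₀ := by
  classical
  have hs2 := h.two_le
  have hs := h.le
  have hp5 : 5 ≤ p := by omega
  have h2ne : (2 : ZMod p) ≠ 0 := by
    intro h1
    have h2 : ((2 : ℕ) : ZMod p) = 0 := by exact_mod_cast h1
    rw [ZMod.natCast_eq_zero_iff] at h2
    have := Nat.le_of_dvd (by norm_num) h2
    omega
  obtain ⟨U, A, A₁, hU, hXU, hAU, hcX, hcA, hcA₁, hspan, hα, hXX, hcom, hX0⟩ := h.exists_sub
  set X := logOp (ρ x) with hX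
  set α := bf X A with hαdef
  set β := bf A A with hβdef
  set N := Subgroup.normalizer (Subgroup.zpowers x : Set G) with hN
  have hmul : ∀ g g' Y, Ad ρ (g * g') Y = Ad ρ g (Ad ρ g' Y) := by
    intro g g' Y
    rw [map_mul, Module.End.mul_apply]
  have hone : ∀ Y, Ad ρ 1 Y = Y := by
    intro Y
    rw [map_one, Module.End.one_apply]
  have hb : ∀ g Y Z, bf (Ad ρ g Y) (Ad ρ g Z) = bf Y Z := fun g Y Z => bf_ad ρ g Y Z
  have hXA₁ : bf X A₁ = 0 := by
    have h1 := hb x X A
    rw [hcX, hcA, bf_add_right] at h1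
    linear_combination h1
  have h12 : bf A₁ A₁ = -2 * α := by
    have h1 := hb x A₁ A
    rw [hcA₁, hcA, bf_add_right, bf_add_left, bf_add_left, bf_smul_left, bf_smul_left, hXA₁] at h1
    linear_combination h1
  have h11 : bf A A₁ = α := by
    have h1 := hb x A A
    rw [hcA, bf_add_right, bf_add_left, bf_add_left, bf_comm A₁ A, h12] at h1
    have h2 : 2 * (bf A A₁ - α) = 0 := by linear_combination h1
    exact sub_eq_zero.1 ((mul_eq_zero.1 h2).resolve_left h2ne)
  set γ := β * (2 * α)⁻¹ with hγ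
  have h2α : 2 * α ≠ 0 := mul_ne_zero h2ne hα
  have hγα : γ * (2 * α) = β := by rw [hγ, mul_assoc, inv_mul_cancel₀ h2α, mul_one]
  set X' := A - γ • X with hX'
  have hXX' : bf X X' = α := by
    rw [hX', bf_sub_right, bf_smul_right, hXX]
    ring
  -- powers of `x`
  have hpX : ∀ i : ℕ, Ad ρ (x ^ i) X = X := by
    intro i
    induction i with
    | zero => rw [pow_zero, hone]
    | succ i ih => rw [pow_succ, hmul, hcX, ih]
  have hpA₁ : ∀ i : ℕ, Ad ρ (x ^ i) A₁ = A₁ + (2 * (i : ZMod p)) • X := by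
    intro i
    induction i with
    | zero => rw [pow_zero, hone]; simp
    | succ i ih =>
      rw [pow_succ, hmul, hcA₁, map_add, map_smul, ih, hpX, add_assoc, ← add_smul]
      congr 2
      push_cast
      ring
  have hpA : ∀ i : ℕ, Ad ρ (x ^ i) A = A + (i : ZMod p) • A₁ + ((i : ZMod p) * (i - 1)) • X := by
    intro i
    induction i with
    | zero => rw [pow_zero, hone]; simp
    | succ i ih =>
      rw [pow_succ, hmul, hcA, map_add, ih, hpA₁]
      have h1 : A + (i : ZMod p) • A₁ + ((i : ZMod p) * (i - 1)) • X + (A₁ + (2 * (i : ZMod p)) • X) =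
          A + ((i : ZMod p) + 1) • A₁ + ((i : ZMod p) * (i - 1) + 2 * i) • X := by
        rw [add_smul, add_smul, one_smul]
        abel
      rw [h1]
      push_cast
      congr 2
      ring
  -- the isotropic lines
  have hisot : ∀ r t : ZMod p, t ≠ 0 → bf (r • X + t • A) (r • X + t • A) = 0 → r • X + t • A = t • X' := by
    intro r t ht h1
    rw [bf_add_right, bf_add_left, bf_add_left, bf_smul_left, bf_smul_right, bf_smul_left, bf_smul_right,
      bf_smul_left, bf_smul_right, bf_smul_left, bf_smul_right, hXX, bf_comm A X] at h1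
    have h3 : t * (2 * α) * (r + t * γ) = 0 := by
      linear_combination h1 + t * t * hγα
    have h4 : r = - (t * γ) := eq_neg_of_add_eq_zero_left ((mul_eq_zero.1 h3).resolve_left (mul_ne_zero ht h2α))
    rw [h4, hX', smul_sub, smul_smul, neg_smul]
    abel
  have hX'ne : ∀ g, g ∈ N → ∀ t : ZMod p, t ≠ 0 → Ad ρ g X ≠ t • X' := by
    intro g hg t ht h1
    obtain ⟨a, ha⟩ := ad_log_of_mem ρ h.ord hg
    rw [← hX] at ha
    have h2 := hb g X X
    rw [h1] at ha
    have h3 : bf X (t • X') = 0 := by rw [ha, bf_smul_right, hXX, mul_zero]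
    rw [bf_smul_right, hXX'] at h3
    exact mul_ne_zero ht hα h3
  have hmemN : ∀ g (t : ZMod p), t ≠ 0 → Ad ρ g X = t • X → g ∈ N := fun g t ht h1 =>
    mem_norm_of_ad ρ h.faith hcom h.cent hcX ht h1
  have hkey : ∀ g, g ∉ N → ∃ i : ℕ, ∃ t : ZMod p, t ≠ 0 ∧ Ad ρ (x ^ i * g) X = t • X' := by
    intro g hg
    obtain ⟨r, q, t, hY⟩ := hspan _ (hU g X hXU)
    have h1 := hb g X X
    rw [hXX, hY] at h1
    by_cases ht : t = 0
    · exfalso
      rw [ht, zero_smul, add_zero] at hY h1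
      rw [bf_add_right, bf_add_left, bf_add_left, bf_smul_left, bf_smul_right, bf_smul_left, bf_smul_right,
        bf_smul_left, bf_smul_right, bf_smul_left, bf_smul_right, hXX, bf_comm A₁ X, hXA₁, h12] at h1
      have h3 : q * q * (2 * α) = 0 := by linear_combination -h1
      have h4 : q = 0 := by
        rcases mul_eq_zero.1 h3 with h4 | h4
        · exact mul_self_eq_zero.1 h4
        · exact absurd h4 h2α
      rw [h4, zero_smul, add_zero] at hY
      refine hg (hmemN g r ?_ hY)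
      rintro rfl
      rw [zero_smul] at hY
      apply hX0
      have h5 : Ad ρ g⁻¹ (Ad ρ g X) = X := by rw [← hmul, inv_mul_cancel, hone]
      rw [← h5, hY, map_zero]
    · refine ⟨(-(q * t⁻¹)).val, t, ht, ?_⟩
      have h3 : ((((-(q * t⁻¹)).val : ℕ)) : ZMod p) = -(q * t⁻¹) := by
        rw [ZMod.natCast_val, ZMod.cast_id', id]
      have h4 : Ad ρ (x ^ (-(q * t⁻¹)).val * g) X =
          (r - 2 * q * (q * t⁻¹) + t * ((q * t⁻¹) * (q * t⁻¹ + 1))) • X + t • A := by
        rw [hmul, hY, map_add, map_add, map_smul, map_smul, map_smul, hpX, hpA₁, hpA, h3]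
        have h5 : t * -(q * t⁻¹) = -q := by
          field_simp
        rw [smul_add, smul_add, smul_add, smul_smul, smul_smul, smul_smul, h5]
        module
      rw [h4]
      apply hisot _ _ ht
      rw [← h4]
      have h6 := hb (x ^ (-(q * t⁻¹)).val * g) X X
      rw [hXX] at h6
      exact h6
  -- a first element
  obtain ⟨g₀, hg₀⟩ : ∃ g, g ∉ N := by
    by_contra hcon
    push Not at hcon
    apply hnn
    rw [← Subgroup.normalizer_eq_top_iff, eq_top_iff]
    intro g _
    exact hcon g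
  obtain ⟨i₁, t₁, ht₁, hn₁⟩ := hkey g₀ hg₀
  set n₁ := x ^ i₁ * g₀ with hn₁def
  have hn₁N : n₁ ∉ N := fun h1 => hX'ne n₁ h1 t₁ ht₁ hn₁
  obtain ⟨i₂, t₂, ht₂, hn₂⟩ := hkey n₁⁻¹ (fun h1 => hn₁N (by rw [← inv_inv n₁]; exact inv_mem h1))
  set n₀ := n₁ * (x ^ i₂)⁻¹ with hn₀
  have hpXi : ∀ i : ℕ, Ad ρ (x ^ i)⁻¹ X = X := by
    intro i
    have h1 : Ad ρ (x ^ i)⁻¹ (Ad ρ (x ^ i) X) = X := by rw [← hmul, inv_mul_cancel, hone]
    rwa [hpX] at h1
  have hn₀X : Ad ρ n₀ X = t₁ • X' := by rw [hn₀, hmul, hpXi, hn₁]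
  have hn₀X' : Ad ρ n₀ X' = t₂⁻¹ • X := by
    have h1 : X' = t₂⁻¹ • (Ad ρ (x ^ i₂ * n₁⁻¹) X) := by
      rw [hn₂, smul_smul, inv_mul_cancel₀ ht₂, one_smul]
    rw [h1, map_smul, ← hmul, hn₀, show n₁ * (x ^ i₂)⁻¹ * (x ^ i₂ * n₁⁻¹) = 1 by group, hone]
  have htt : t₁ * t₂⁻¹ = 1 := by
    have h1 := hb n₀ X X'
    rw [hn₀X, hn₀X', bf_smul_left, bf_smul_right, bf_comm X' X, hXX'] at h1
    have h2 : (t₁ * t₂⁻¹ - 1) * α = 0 := by linear_combination h1
    exact sub_eq_zero.1 ((mul_eq_zero.1 h2).resolve_right hα)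
  have hn₀N : n₀ ∉ N := fun h1 => hX'ne n₀ h1 t₁ ht₁ hn₀X
  have htriv : ∀ g, Ad ρ g X = X → Ad ρ g X' = X' → g = 1 := by
    intro g h1 h3
    have h4 : Commute g x := by
      have h5 := commute_of_ad ρ (Y := X) (g := g) h1
      have h6 := hcom (ρ g) h5.symm
      apply h.faith
      rw [map_mul, map_mul]
      exact h6
    obtain ⟨j, hj, rfl⟩ := (IsOfFinOrder.mem_zpowers_iff_mem_range_orderOf (isOfFinOrder_of_finite x)).1
      (h.cent g h4) |> Finset.mem_image.1
    rw [h.ord, Finset.mem_range] at hj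
    rw [hX', map_sub, map_smul, hpA, hpX] at h3
    have h7 : (j : ZMod p) • A₁ + ((j : ZMod p) * (j - 1)) • X = 0 := by
      have h8 : (j : ZMod p) • A₁ + ((j : ZMod p) * (j - 1)) • X =
        (A + (j : ZMod p) • A₁ + ((j : ZMod p) * (j - 1)) • X - γ • X) - (A - γ • X) := by abel
      rw [h8, h3, sub_self]
    have h9 : bf ((j : ZMod p) • A₁ + ((j : ZMod p) * (j - 1)) • X) A₁ = 0 := by rw [h7, bf_zero_left]
    rw [bf_add_left, bf_smul_left, bf_smul_left, h12, hXA₁] at h9
    have h10 : (j : ZMod p) * (2 * α) = 0 := by linear_combination -h9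
    have h11' := (mul_eq_zero.1 h10).resolve_right h2α
    rw [ZMod.natCast_eq_zero_iff] at h11'
    have h12' : j = 0 := Nat.eq_zero_of_dvd_of_lt h11' hj
    rw [h12', pow_zero]
  have hsq : n₀ * n₀ = 1 := by
    apply htriv
    · rw [hmul, hn₀X, map_smul, hn₀X', smul_smul, htt, one_smul]
    · rw [hmul, hn₀X', map_smul, hn₀X, smul_smul, mul_comm, htt, one_smul]
  refine ⟨n₀, hn₀N, ?_, ?_, hsq⟩
  · intro g hg
    obtain ⟨i, t, ht, h1⟩ := hkey g hg
    refine ⟨i, hmemN _ (t * t₁⁻¹) (mul_ne_zero ht (inv_ne_zero ht₁)) ?_⟩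
    have h3 : Ad ρ n₀⁻¹ (Ad ρ n₀ X) = X := by rw [← hmul, inv_mul_cancel, hone]
    rw [hn₀X, map_smul] at h3
    rw [hmul, h1, map_smul, mul_smul, ← h3]
    rw [smul_smul t₁⁻¹, inv_mul_cancel₀ ht₁, one_smul]
  · intro d hd hd'
    have hn₀i : n₀⁻¹ = n₀ := inv_eq_of_mul_eq_one_left hsq
    obtain ⟨a, ha⟩ := ad_log_of_mem ρ h.ord hd
    obtain ⟨a', ha'⟩ := ad_log_of_mem ρ h.ord hd'
    rw [← hX] at ha ha'
    have hdX' : Ad ρ d X' = (a' : ZMod p) • X' := by
      have h1 : Ad ρ n₀ (Ad ρ (n₀⁻¹ * d * n₀) X) = Ad ρ d (Ad ρ n₀ X) := by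
        rw [← hmul, ← hmul]
        congr 2
        group
      rw [ha', map_smul, hn₀X, map_smul, smul_comm] at h1
      have h3 := congrArg (fun z => t₁⁻¹ • z) h1
      simp only [smul_smul, inv_mul_cancel₀ ht₁, one_smul] at h3
      rw [← mul_assoc, inv_mul_cancel₀ ht₁, one_mul] at h3
      exact h3.symm
    have haa : (a : ZMod p) * (a' : ZMod p) = 1 := by
      have h1 := hb d X X'
      rw [ha, hdX', bf_smul_left, bf_smul_right, hXX'] at h1
      have h2 : ((a : ZMod p) * a' - 1) * α = 0 := by linear_combination h1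
      exact sub_eq_zero.1 ((mul_eq_zero.1 h2).resolve_right hα)
    have hg1 : n₀ * d * n₀⁻¹ * d = 1 := by
      apply htriv
      · simp only [hmul, hn₀i, ha, map_smul, hn₀X, hdX', hn₀X', smul_smul]
        rw [show (a : ZMod p) * t₁ * (a' : ZMod p) * t₂⁻¹ = ((a : ZMod p) * a') * (t₁ * t₂⁻¹) by ring, haa, htt,
          one_mul, one_smul]
      · simp only [hmul, hn₀i, hdX', map_smul, hn₀X', ha, hn₀X, smul_smul]
        rw [show (a' : ZMod p) * t₂⁻¹ * (a : ZMod p) * t₁ = ((a : ZMod p) * a') * (t₁ * t₂⁻¹) by ring, haa, htt,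
          one_mul, one_smul]
    exact eq_inv_of_mul_eq_one_left hg1

end Cfsg.Agent.H782.Weyl
end

-- part: H782/Weyl/Dual
section
/-!
# Self-duality (helper782)

`dual_equiv` : in the situation of `Wey x n₀`, every irreducible module of dimension at most `p - 1` on which `x` is a
single Jordan block is self-dual.
-/

set_option autoImplicit false

namespace Cfsg.Agent.H782.Weyl

open Module

section gen

variable {p : ℕ} [hp : Fact p.Prime] {G : Type*} [Group G] {C : Type*} [AddCommGroup C]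
  [Module (ZMod p) C] (σ : Representation (ZMod p) G C) {x : G} {m : ℕ} [FiniteDimensional (ZMod p) C]

theorem nil_of (hx : x ^ p = 1) (hC : finrank (ZMod p) C = m) (hm : 0 < m) : (σ x - 1) ^ m = 0 := by
  have h1 : (σ x - 1) ^ p = 0 := by
    have h2 : CharP (End (ZMod p) C) p := by
      have hnt : Nontrivial C := by
        apply nontrivial_of_finrank_pos (R := ZMod p)
        rw [hC]
        exact hm
      exact charP_of_injective_algebraMap (FaithfulSMul.algebraMap_injective (ZMod p) (End (ZMod p) C)) p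
    rw [sub_pow_char_of_commute p (Commute.one_right _), one_pow, ← map_pow, hx, map_one, sub_self]
  have h2 := Module.End.ker_pow_le_ker_pow_finrank (σ x - 1) p
  rw [h1, hC] at h2
  refine LinearMap.ext fun v => ?_
  have h3 : v ∈ LinearMap.ker (0 : End (ZMod p) C) := by rw [LinearMap.mem_ker, LinearMap.zero_apply]
  exact LinearMap.mem_ker.1 (h2 h3)

omit [FiniteDimensional (ZMod p) C] in
theorem range_top {δ : End (ZMod p) C} (hC : finrank (ZMod p) C = m) (hm : 0 < m) (h0 : δ ^ m = 0) {w : C}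
    (hw : (δ ^ (m - 1)) w ≠ 0) (y : C) : ∃ a : ZMod p, (δ ^ (m - 1)) y = a • (δ ^ (m - 1)) w := by
  have hne : Nonempty (Fin m) := ⟨⟨0, hm⟩⟩
  let b := basisOfLinearIndependentOfCardEqFinrank
    (linearIndependent_pow δ w m (by rw [h0, LinearMap.zero_apply]) hw) (by rw [Fintype.card_fin, hC])
  have hb : ∀ i, b i = (δ ^ (i : ℕ)) w := fun i => by
    rw [coe_basisOfLinearIndependentOfCardEqFinrank]
  refine ⟨b.repr y ⟨0, hm⟩, ?_⟩
  conv_lhs => rw [← b.sum_repr y]
  rw [map_sum, Finset.sum_eq_single ⟨0, hm⟩]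
  · rw [map_smul, hb]
    change b.repr y ⟨0, hm⟩ • (δ ^ (m - 1)) ((δ ^ 0) w) = _
    rw [pow_zero, Module.End.one_apply]
  · intro j _ hj
    have hj0 : (j : ℕ) ≠ 0 := fun h => hj (Fin.ext h)
    rw [map_smul, hb, ← Module.End.mul_apply, ← pow_add, show m - 1 + (j : ℕ) = (j : ℕ) - 1 + m by omega, pow_add, h0,
      mul_zero, LinearMap.zero_apply, smul_zero]
  · intro h
    exact absurd (Finset.mem_univ _) h

omit [FiniteDimensional (ZMod p) C] in
theorem norm_range {g : G} (hg : g ∈ Subgroup.normalizer (Subgroup.zpowers x : Set G)) (hx : orderOf x = p) (k : ℕ)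
    (w : C) : ∃ y, σ g (((σ x - 1) ^ k) w) = ((σ x - 1) ^ k) y := by
  obtain ⟨a, ha⟩ := exists_unit (p := p) hx hg
  set j := (a : ZMod p).val with hj
  have h1 : SemiconjBy (σ g) (σ x - 1) (σ x ^ j - 1) := by
    change σ g * (σ x - 1) = (σ x ^ j - 1) * σ g
    rw [mul_sub, sub_mul, mul_one, one_mul, ← map_pow, ← ha, ← map_mul, ← map_mul, inv_mul_cancel_right]
  have h2 := h1.pow_right k
  have h3 : (σ x - 1) * (∑ i ∈ Finset.range j, σ x ^ i) = σ x ^ j - 1 := mul_geom_sum _ _
  have h4 : Commute (σ x - 1) (∑ i ∈ Finset.range j, σ x ^ i) := by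
    refine Commute.sum_right _ _ _ fun i _ => ?_
    exact (Commute.pow_right (Commute.sub_left (Commute.refl _) (Commute.one_left _)) _)
  rw [← h3, h4.mul_pow] at h2
  refine ⟨((∑ i ∈ Finset.range j, σ x ^ i) ^ k) (σ g w), ?_⟩
  have h5 := LinearMap.congr_fun h2 w
  rw [Module.End.mul_apply, Module.End.mul_apply, Module.End.mul_apply] at h5
  exact h5

/-- the bottom weight -/
theorem norm_line {g : G} (hg : g ∈ Subgroup.normalizer (Subgroup.zpowers x : Set G)) (hx : orderOf x = p)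
    (hC : finrank (ZMod p) C = m) (hm : 0 < m) {w : C} (hw : ((σ x - 1) ^ (m - 1)) w ≠ 0) :
    ∃ a : ZMod p, σ g (((σ x - 1) ^ (m - 1)) w) = a • ((σ x - 1) ^ (m - 1)) w := by
  obtain ⟨y, hy⟩ := norm_range σ hg hx (m - 1) w
  rw [hy]
  exact range_top hC hm (nil_of σ (by rw [← hx, pow_orderOf_eq_one]) hC hm) hw y

theorem mem_normalizer_of_fixed [Finite G] {q : G ⧸ Subgroup.zpowers x} (hq : x • q = q) :
    Quotient.out q ∈ Subgroup.normalizer (Subgroup.zpowers x : Set G) := by
  have hsmul : (x • q : G ⧸ Subgroup.zpowers x) = ((x * Quotient.out q : G) : G ⧸ Subgroup.zpowers x) := by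
    conv_lhs => rw [← Quotient.out_eq q]
    rfl
  rw [hsmul] at hq
  set g := Quotient.out q with hg
  have h1 : ((x * g : G) : G ⧸ Subgroup.zpowers x) = (g : G ⧸ Subgroup.zpowers x) := by
    rw [hq]
    exact (Quotient.out_eq q).symm
  rw [eq_comm, QuotientGroup.eq] at h1
  have h2 : (Subgroup.zpowers x).map (MulAut.conj g⁻¹).toMonoidHom ≤ Subgroup.zpowers x := by
    rw [MonoidHom.map_zpowers, Subgroup.zpowers_le]
    change g⁻¹ * x * g⁻¹⁻¹ ∈ Subgroup.zpowers x
    rw [inv_inv, mul_assoc]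
    exact h1
  have h3 : (Subgroup.zpowers x).map (MulAut.conj g⁻¹).toMonoidHom = Subgroup.zpowers x := by
    apply Subgroup.eq_of_le_of_card_ge h2
    rw [← Nat.card_congr ((Subgroup.zpowers x).equivMapOfInjective _ (MulAut.conj g⁻¹).injective).toEquiv]
  have h4 : g⁻¹ ∈ Subgroup.normalizer (Subgroup.zpowers x : Set G) := Subgroup.mem_normalizer_iff_map_conj_eq.2 h3
  exact inv_mem_iff.1 h4

theorem iterate_smul_eq {p : ℕ} {x : G} (hx : x ^ p = 1) (P : Subgroup G) (q : G ⧸ P) :
    (fun q : G ⧸ P => x • q)^[p] q = q := by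
  rw [smul_iterate, hx]
  exact one_smul G q

theorem card_fixed_ne_zero {p : ℕ} [hp : Fact p.Prime] [Finite G] (hx : orderOf x = p) (syl : ¬ p ^ 2 ∣ Nat.card G)
    [Fintype (G ⧸ Subgroup.zpowers x)] [DecidableEq (G ⧸ Subgroup.zpowers x)] :
    ((Finset.univ.filter (fun q : G ⧸ Subgroup.zpowers x => x • q = q)).card : ZMod p) ≠ 0 := by
  have hper : ∀ q : G ⧸ Subgroup.zpowers x, (fun q : G ⧸ Subgroup.zpowers x => x • q)^[p] q = q :=
    fun q => iterate_smul_eq (by rw [← hx, pow_orderOf_eq_one]) _ q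
  intro h0
  have h1 := sum_eq_sum_fixed (p := p) (fun q : G ⧸ Subgroup.zpowers x => x • q) (fun _ => (1 : ZMod p)) (fun z => z)
    (fun _ => rfl)
    (fun y => by
      have h2 : ∀ i, (fun z : ZMod p => z)^[i] y = y := fun i => by
        induction i with
        | zero => rfl
        | succ i ih => rw [Function.iterate_succ_apply, ih]
      rw [Finset.sum_congr rfl (fun i _ => h2 i), Finset.sum_const, Finset.card_range, nsmul_eq_mul,
        CharP.cast_eq_zero, zero_mul]) hper
  rw [Finset.sum_const, Finset.sum_const, Finset.card_univ, nsmul_eq_mul, nsmul_eq_mul, mul_one, mul_one, h0,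
    ← Nat.card_eq_fintype_card, ZMod.natCast_eq_zero_iff] at h1
  apply syl
  have h2 := Subgroup.card_eq_card_quotient_mul_card_subgroup (Subgroup.zpowers x)
  rw [h2, pow_two]
  refine mul_dvd_mul h1 ?_
  rw [Nat.card_zpowers, hx]

end gen

/-- **Self-duality.** -/
theorem dual_equiv {p : ℕ} [hp : Fact p.Prime] {G : Type*} [Group G] [Finite G] {x n₀ : G} (hx : orderOf x = p)
    (syl : ¬ p ^ 2 ∣ Nat.card G) (hW : Wey x n₀) {C : Type*} [AddCommGroup C] [Module (ZMod p) C]
    [FiniteDimensional (ZMod p) C] (σ : Representation (ZMod p) G C) {m : ℕ} (hC : finrank (ZMod p) C = m)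
    (hm : 0 < m) (hmp : m ≤ p - 1) (reg : (σ x - 1) ^ (m - 1) ≠ 0)
    (irr : ∀ U : Submodule (ZMod p) C, (∀ g, ∀ u ∈ U, σ g u ∈ U) → U = ⊥ ∨ U = ⊤) :
    ∃ θ : Dual (ZMod p) C ≃ₗ[ZMod p] C, ∀ g f, θ (σ.dual g f) = σ g (θ f) := by
  classical
  have hxp : x ^ p = 1 := by rw [← hx, pow_orderOf_eq_one]
  have hnil := nil_of σ hxp hC hm
  have hD : finrank (ZMod p) (Dual (ZMod p) C) = m := by rw [Subspace.dual_finrank_eq, hC]
  have hnilD := nil_of σ.dual hxp hD hm
  have hmul : ∀ g g' y, σ (g * g') y = σ g (σ g' y) := fun g g' y => by rw [map_mul, Module.End.mul_apply]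
  have hone : ∀ y, σ 1 y = y := fun y => by rw [map_one, Module.End.one_apply]
  have hmulD : ∀ g g' y, σ.dual (g * g') y = σ.dual g (σ.dual g' y) := fun g g' y => by
    rw [map_mul, Module.End.mul_apply]
  have honeD : ∀ y, σ.dual 1 y = y := fun y => by rw [map_one, Module.End.one_apply]
  have hdual : ∀ g (f : Dual (ZMod p) C) y, (σ.dual g f) y = f (σ g⁻¹ y) := fun g f y => rfl
  -- `x` is a single Jordan block on the dual
  have hregD : (σ.dual x - 1) ^ (m - 1) ≠ 0 := by
    intro h0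
    apply reg
    have h1 : ∀ (k : ℕ) (f : Dual (ZMod p) C) y, (((σ.dual x - 1) ^ k) f) y = f (((σ x⁻¹ - 1) ^ k) y) := by
      intro k
      induction k with
      | zero => intro f y; rfl
      | succ k ih =>
        intro f y
        rw [pow_succ, Module.End.mul_apply, ih, pow_succ', Module.End.mul_apply]
        rw [LinearMap.sub_apply, Module.End.one_apply, LinearMap.sub_apply, hdual, LinearMap.sub_apply,
          Module.End.one_apply, map_sub]
    have h2 : (σ x⁻¹ - 1) ^ (m - 1) = 0 := by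
      refine LinearMap.ext fun y => ?_
      rw [LinearMap.zero_apply]
      rw [← Module.forall_dual_apply_eq_zero_iff (ZMod p)]
      intro f
      rw [← h1, h0, LinearMap.zero_apply, LinearMap.zero_apply]
    have h3 : σ x - 1 = (σ x⁻¹ - 1) * (- σ x) := by
      rw [sub_mul, one_mul, mul_neg, ← map_mul, inv_mul_cancel, map_one]
      abel
    have h4 : Commute (σ x⁻¹ - 1) (- σ x) := by
      refine Commute.neg_right (Commute.sub_left ?_ (Commute.one_left _))
      change σ x⁻¹ * σ x = σ x * σ x⁻¹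
      rw [← map_mul, ← map_mul, mul_inv_cancel, inv_mul_cancel]
    rw [h3, h4.mul_pow, h2, zero_mul]
  obtain ⟨φ, hφ⟩ := exists_equiv hm hC hD hnil reg hnilD hregD
  obtain ⟨w, hw⟩ : ∃ w, ((σ x - 1) ^ (m - 1)) w ≠ 0 := by
    by_contra hno
    push Not at hno
    exact reg (LinearMap.ext hno)
  set v := ((σ x - 1) ^ (m - 1)) w with hv
  have hφk : ∀ (k : ℕ) y, φ (((σ x - 1) ^ k) y) = ((σ.dual x - 1) ^ k) (φ y) := by
    intro k
    induction k with
    | zero => intro y; rfl
    | succ k ih => intro y; rw [pow_succ, Module.End.mul_apply, ih, hφ, pow_succ, Module.End.mul_apply]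
  have hφv : φ v = ((σ.dual x - 1) ^ (m - 1)) (φ w) := hφk _ _
  have hφv0 : φ v ≠ 0 := fun h => hw (φ.map_eq_zero_iff.1 h)
  have hφx : ∀ y, φ (σ x y) = σ.dual x (φ y) := by
    intro y
    have h1 := hφ y
    rw [LinearMap.sub_apply, LinearMap.sub_apply, Module.End.one_apply, Module.End.one_apply, map_sub] at h1
    exact sub_left_injective h1
  have hxv : σ x v = v := by
    have h1 : (σ x - 1) v = 0 := by
      rw [hv, ← Module.End.mul_apply, ← pow_succ', Nat.sub_add_cancel hm, hnil, LinearMap.zero_apply]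
    rw [LinearMap.sub_apply, Module.End.one_apply] at h1
    exact sub_eq_zero.1 h1
  have hxl : σ.dual x (φ v) = φ v := by rw [← hφx, hxv]
  have hxiv : ∀ i : ℕ, σ (x ^ i) v = v := by
    intro i
    induction i with
    | zero => rw [pow_zero, hone]
    | succ i ih => rw [pow_succ, hmul, hxv, ih]
  have hxil : ∀ i : ℕ, σ.dual (x ^ i) (φ v) = φ v := by
    intro i
    induction i with
    | zero => rw [pow_zero, honeD]
    | succ i ih => rw [pow_succ, hmulD, hxl, ih]
  -- `λ (x ^ i z) = λ z`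
  have hlx : ∀ (i : ℕ) z, (φ v) (σ (x ^ i) z) = (φ v) z := by
    intro i z
    have h1 := hdual (x ^ i) (φ v) (σ (x ^ i) z)
    rw [hxil, ← hmul, inv_mul_cancel, hone] at h1
    exact h1
  have hv_line : ∀ g ∈ Subgroup.normalizer (Subgroup.zpowers x : Set G), ∃ a : ZMod p, σ g v = a • v :=
    fun g hg => norm_line σ hg hx hC hm hw
  have hl_line : ∀ g ∈ Subgroup.normalizer (Subgroup.zpowers x : Set G), ∃ a : ZMod p,
      σ.dual g (φ v) = a • φ v := by
    intro g hg
    have hw' : ((σ.dual x - 1) ^ (m - 1)) (φ w) ≠ 0 := by rw [← hφv]; exact hφv0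
    rw [hφv]
    exact norm_line σ.dual hg hx hD hm hw'
  -- the weights agree on the torus
  have htorus : ∀ d ∈ Subgroup.normalizer (Subgroup.zpowers x : Set G),
      n₀⁻¹ * d * n₀ ∈ Subgroup.normalizer (Subgroup.zpowers x : Set G) →
      ∃ a : ZMod p, σ d v = a • v ∧ σ.dual d (φ v) = a • φ v := by
    intro d hd hd'
    have hinv := hW.inv d hd hd'
    obtain ⟨a, ha⟩ := hv_line d hd
    obtain ⟨l, hl⟩ := hl_line d hd
    refine ⟨a, ha, ?_⟩
    rw [hl]
    suffices l = a by rw [this]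
    rcases Nat.lt_or_ge 1 m with hm1 | hm1
    · -- `m ≥ 2`
      have hlv : (φ v) v = 0 := by
        obtain ⟨z, hz⟩ : ∃ z, v = (σ x - 1) z :=
          ⟨((σ x - 1) ^ (m - 1 - 1)) w, by
            rw [← Module.End.mul_apply, ← pow_succ', Nat.sub_add_cancel (by omega)]⟩
        have h1 : (φ v) ((σ x - 1) z) = 0 := by
          rw [LinearMap.sub_apply, Module.End.one_apply, map_sub]
          have h2 := hlx 1 z
          rw [pow_one] at h2
          rw [h2, sub_self]
        exact (congrArg (φ v) hz).trans h1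
      have hln : (φ v) (σ n₀ v) ≠ 0 := by
        intro h0
        have h1 : ∀ g, (φ v) (σ g v) = 0 := by
          intro g
          by_cases hg : g ∈ Subgroup.normalizer (Subgroup.zpowers x : Set G)
          · obtain ⟨b, hb⟩ := hv_line g hg
            rw [hb, map_smul, hlv, smul_zero]
          · obtain ⟨i, hi⟩ := hW.big g hg
            obtain ⟨b, hb⟩ := hv_line _ hi
            have h2 : σ (x ^ i) (σ g v) = b • σ n₀ v := by
              rw [← map_smul, ← hb, ← hmul, ← hmul, mul_inv_cancel_left]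
            rw [← hlx i, h2, map_smul, h0, smul_zero]
        let U : Submodule (ZMod p) C :=
          { carrier := {y | ∀ g, (φ v) (σ g y) = 0}
            add_mem' := fun {a b} ha hb g => by rw [map_add, map_add, ha g, hb g, add_zero]
            zero_mem' := fun g => by rw [map_zero, map_zero]
            smul_mem' := fun t y hy g => by rw [map_smul, map_smul, hy g, smul_zero] }
        rcases irr U (fun g u hu g' => by rw [← hmul]; exact hu _) with h2 | h2
        · have h3 : v ∈ U := h1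
          rw [h2, Submodule.mem_bot] at h3
          exact hw h3
        · apply hφv0
          refine LinearMap.ext fun y => ?_
          have h3 : y ∈ U := by rw [h2]; exact Submodule.mem_top
          have h4 := h3 1
          rw [hone] at h4
          exact h4
      have hd2 : d = n₀⁻¹ * d⁻¹ * n₀ := by
        rw [← hinv]
        group
      have h1 : (σ.dual d (φ v)) (σ n₀ v) = (l • φ v) (σ n₀ v) := by rw [hl]
      rw [hdual, ← hmul, LinearMap.smul_apply, smul_eq_mul] at h1
      have h2 : d⁻¹ * n₀ = n₀ * d := by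
        conv_rhs => rw [hd2]
        group
      rw [h2, hmul, ha, map_smul, map_smul, smul_eq_mul] at h1
      have h3 : (l - a) * (φ v) (σ n₀ v) = 0 := by linear_combination -h1
      exact sub_eq_zero.1 ((mul_eq_zero.1 h3).resolve_right hln)
    · -- `m = 1`
      have hm' : m = 1 := by omega
      have hv1 : v = w := by rw [hv, hm']; rfl
      have hall : ∀ y : C, ∃ b : ZMod p, y = b • v := by
        intro y
        obtain ⟨b, hb⟩ := range_top hC hm hnil hw y
        refine ⟨b, ?_⟩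
        rw [hv]
        rw [← hb, hm']
        rfl
      have hlv : (φ v) v ≠ 0 := by
        intro h0
        apply hφv0
        refine LinearMap.ext fun y => ?_
        obtain ⟨b, hb⟩ := hall y
        rw [hb, map_smul, h0, smul_zero, LinearMap.zero_apply]
      obtain ⟨c, hc⟩ := hall (σ n₀ v)
      have hcc : c * c = 1 := by
        have h1 : σ (n₀ * n₀) v = (c * c) • v := by rw [hmul, hc, map_smul, hc, smul_smul]
        rw [hW.sq, hone] at h1
        have h2 : (c * c - 1) • v = 0 := by rw [sub_smul, ← h1, one_smul, sub_self]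
        exact sub_eq_zero.1 ((smul_eq_zero.1 h2).resolve_right hw)
      have haa : a * a = 1 := by
        have h1 : σ (n₀ * d * n₀⁻¹ * d) v = (a * a) • v := by
          have h2 : n₀⁻¹ = n₀ := inv_eq_of_mul_eq_one_left hW.sq
          simp only [hmul, h2, ha, map_smul, hc, smul_smul]
          congr 1
          linear_combination (a * a) * hcc
        rw [hinv, inv_mul_cancel, hone] at h1
        have h2 : (a * a - 1) • v = 0 := by rw [sub_smul, ← h1, one_smul, sub_self]
        exact sub_eq_zero.1 ((smul_eq_zero.1 h2).resolve_right hw)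
      have h1 : (σ.dual d (φ v)) (σ d v) = (l • φ v) (σ d v) := by rw [hl]
      rw [hdual, ← hmul, LinearMap.smul_apply, smul_eq_mul, inv_mul_cancel, hone, ha, map_smul, smul_eq_mul] at h1
      have h3 : (l * a - 1) * (φ v) v = 0 := by linear_combination -h1
      have h4 := sub_eq_zero.1 ((mul_eq_zero.1 h3).resolve_right hlv)
      calc l = l * (a * a) := by rw [haa, mul_one]
        _ = (l * a) * a := by ring
        _ = a := by rw [h4, one_mul]
  -- on the whole normalizer
  have hnorm : ∀ g ∈ Subgroup.normalizer (Subgroup.zpowers x : Set G),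
      ∃ a : ZMod p, σ g v = a • v ∧ σ.dual g (φ v) = a • φ v := by
    intro g hg
    have h1 : g * n₀ ∉ Subgroup.normalizer (Subgroup.zpowers x : Set G) := by
      intro h1
      apply hW.notMem
      have h2 := mul_mem (inv_mem hg) h1
      rwa [inv_mul_cancel_left] at h2
    obtain ⟨i, hi⟩ := hW.big _ h1
    have hxN : x ^ i ∈ Subgroup.normalizer (Subgroup.zpowers x : Set G) :=
      Subgroup.le_normalizer (pow_mem (Subgroup.mem_zpowers x) i)
    obtain ⟨a, ha1, ha2⟩ := htorus (x ^ i * g) (mul_mem hxN hg) (by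
      rw [show n₀⁻¹ * (x ^ i * g) * n₀ = n₀⁻¹ * (x ^ i * (g * n₀)) by group]
      exact hi)
    refine ⟨a, ?_, ?_⟩
    · have h2 : σ (x ^ i)⁻¹ (σ (x ^ i * g) v) = σ (x ^ i)⁻¹ (a • v) := by rw [ha1]
      rw [← hmul, inv_mul_cancel_left, map_smul] at h2
      have h3 : σ (x ^ i)⁻¹ v = v := by
        conv_lhs => rw [← hxiv i]
        rw [← hmul, inv_mul_cancel, hone]
      rw [h2, h3]
    · have h2 : σ.dual (x ^ i)⁻¹ (σ.dual (x ^ i * g) (φ v)) = σ.dual (x ^ i)⁻¹ (a • φ v) := by rw [ha2]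
      rw [← hmulD, inv_mul_cancel_left, map_smul] at h2
      have h3 : σ.dual (x ^ i)⁻¹ (φ v) = φ v := by
        conv_lhs => rw [← hxil i]
        rw [← hmulD, inv_mul_cancel, honeD]
      rw [h2, h3]
  -- the relative trace
  set P := Subgroup.zpowers x with hP
  set A := σ.linHom σ.dual with hA
  have hAapp : ∀ g (Z : C →ₗ[ZMod p] Dual (ZMod p) C) y, A g Z y = σ.dual g (Z (σ g⁻¹ y)) := fun g Z y => rfl
  have hφP : ∀ u ∈ P, A u (φ : C →ₗ[ZMod p] Dual (ZMod p) C) = φ := by
    intro u hu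
    have h1 : P ≤ { carrier := {g | A g (φ : C →ₗ[ZMod p] Dual (ZMod p) C) = φ}
                    one_mem' := by
                      change A 1 (φ : C →ₗ[ZMod p] Dual (ZMod p) C) = φ
                      rw [map_one, Module.End.one_apply]
                    mul_mem' := fun {a b} ha hb => by
                      change A (a * b) (φ : C →ₗ[ZMod p] Dual (ZMod p) C) = φ
                      change A a (φ : C →ₗ[ZMod p] Dual (ZMod p) C) = φ at ha
                      change A b (φ : C →ₗ[ZMod p] Dual (ZMod p) C) = φ at hb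
                      rw [map_mul, Module.End.mul_apply, hb, ha]
                    inv_mem' := fun {a} ha => by
                      change A a⁻¹ (φ : C →ₗ[ZMod p] Dual (ZMod p) C) = φ
                      change A a (φ : C →ₗ[ZMod p] Dual (ZMod p) C) = φ at ha
                      conv_lhs => rw [← ha]
                      rw [← Module.End.mul_apply, ← map_mul, inv_mul_cancel, map_one, Module.End.one_apply] } := by
      rw [hP, Subgroup.zpowers_le]
      change A x (φ : C →ₗ[ZMod p] Dual (ZMod p) C) = φ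
      refine LinearMap.ext fun y => ?_
      rw [hAapp]
      change σ.dual x (φ (σ x⁻¹ y)) = φ y
      rw [← hφx, ← hmul, mul_inv_cancel, hone]
    exact h1 hu
  set Θ := relSum A P (φ : C →ₗ[ZMod p] Dual (ZMod p) C) with hΘ
  have hΘg : ∀ g y, Θ (σ g y) = σ.dual g (Θ y) := by
    intro g y
    have h1 := LinearMap.congr_fun (apply_relSum A P (φ : C →ₗ[ZMod p] Dual (ZMod p) C) hφP g) (σ g y)
    rw [hAapp, ← hmul, inv_mul_cancel, hone] at h1
    exact h1.symm
  let i1 : Fintype (G ⧸ P) := Fintype.ofFinite _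
  have hΘy : ∀ y, Θ y = ∑ q : G ⧸ P, A (Quotient.out q) (φ : C →ₗ[ZMod p] Dual (ZMod p) C) y := by
    intro y
    rw [hΘ, relSum_eq, LinearMap.sum_apply]
  have hsmul : ∀ q : G ⧸ P, (x • q : G ⧸ P) = ((x * Quotient.out q : G) : G ⧸ P) := by
    intro q
    conv_lhs => rw [← Quotient.out_eq q]
    rfl
  have hΘv : Θ v = ((Finset.univ.filter (fun q : G ⧸ P => x • q = q)).card : ZMod p) • φ v := by
    rw [hΘy]
    rw [sum_eq_sum_fixed (p := p) (fun q : G ⧸ P => x • q)
      (fun q => A (Quotient.out q) (φ : C →ₗ[ZMod p] Dual (ZMod p) C) v) (fun z => σ.dual x z) ?_ ?_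
      (fun q => iterate_smul_eq hxp _ q)]
    · have h1 : ∀ q ∈ Finset.univ.filter (fun q : G ⧸ P => x • q = q),
          A (Quotient.out q) (φ : C →ₗ[ZMod p] Dual (ZMod p) C) v = φ v := by
        intro q hq
        have h2 := mem_normalizer_of_fixed (Finset.mem_filter.1 hq).2
        obtain ⟨a, ha1, ha2⟩ := hnorm _ (inv_mem h2)
        rw [hAapp, ha1]
        change σ.dual (Quotient.out q) (φ (a • v)) = φ v
        rw [map_smul, ← ha2, ← hmulD, mul_inv_cancel, honeD]
      rw [Finset.sum_congr rfl h1, Finset.sum_const, ← Nat.cast_smul_eq_nsmul (ZMod p)]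
    · intro q
      rw [hsmul, out_apply A P (φ : C →ₗ[ZMod p] Dual (ZMod p) C) hφP, hAapp, hAapp, mul_inv_rev, hmulD, hmul]
      have h1 : σ x⁻¹ v = v := by
        conv_lhs => rw [← hxv]
        rw [← hmul, inv_mul_cancel, hone]
      rw [h1]
    · intro y
      have h0 : (σ.dual x - 1) ^ (p - 1) = 0 := by
        rw [show p - 1 = (p - 1 - m) + m by omega, pow_add, hnilD, mul_zero]
      have h1 := (norm_eq (p := p) (A := End (ZMod p) (Dual (ZMod p) C)) (σ.dual x)).trans h0
      have h2 := LinearMap.congr_fun h1 y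
      rw [LinearMap.sum_apply, LinearMap.zero_apply] at h2
      rw [← h2]
      refine Finset.sum_congr rfl fun i _ => ?_
      rw [Module.End.pow_apply]
  have hΘv0 : Θ v ≠ 0 := by
    rw [hΘv]
    exact smul_ne_zero (card_fixed_ne_zero hx syl) hφv0
  have hker : LinearMap.ker Θ = ⊥ := by
    rcases irr (LinearMap.ker Θ) (fun g u hu => by
      rw [LinearMap.mem_ker] at hu ⊢
      rw [hΘg, hu, map_zero]) with h1 | h1
    · exact h1
    · exfalso
      apply hΘv0
      have h2 : v ∈ LinearMap.ker Θ := by rw [h1]; exact Submodule.mem_top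
      exact h2
  let e : C ≃ₗ[ZMod p] Dual (ZMod p) C :=
    LinearEquiv.ofInjectiveOfFinrankEq Θ (LinearMap.ker_eq_bot.1 hker) (by rw [hC, hD])
  have he : ∀ y, e y = Θ y := fun y => rfl
  refine ⟨e.symm, fun g f => ?_⟩
  rw [LinearEquiv.symm_apply_eq, he, hΘg, ← he, LinearEquiv.apply_symm_apply]

/-- **N2 + N3.** -/
theorem exists_dual_equiv {p : ℕ} [hp : Fact p.Prime] {G : Type*} [Group G] [Finite G] {x : G} (ord : orderOf x = p)
    (syl : ¬ p ^ 2 ∣ Nat.card G) (cent : ∀ g, Commute g x → g ∈ Subgroup.zpowers x)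
    (hnn : ¬ (Subgroup.zpowers x).Normal)
    {B : Type*} [AddCommGroup B] [Module (ZMod p) B] [FiniteDimensional (ZMod p) B]
    (ρ : Representation (ZMod p) G B) (faith : Function.Injective ρ) {s : ℕ} (dim : finrank (ZMod p) B = s)
    (two_le : 2 ≤ s) (le : 2 * s ≤ p - 1) (reg : (ρ x - 1) ^ (s - 1) ≠ 0)
    {C : Type*} [AddCommGroup C] [Module (ZMod p) C] [FiniteDimensional (ZMod p) C]
    (σ : Representation (ZMod p) G C) {m : ℕ} (hC : finrank (ZMod p) C = m)
    (hm : 0 < m) (hmp : m ≤ p - 1) (regC : (σ x - 1) ^ (m - 1) ≠ 0)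
    (irr : ∀ U : Submodule (ZMod p) C, (∀ g, ∀ u ∈ U, σ g u ∈ U) → U = ⊥ ∨ U = ⊤) :
    ∃ θ : Dual (ZMod p) C ≃ₗ[ZMod p] C, ∀ g f, θ (σ.dual g f) = σ g (θ f) := by
  obtain ⟨n₀, hW⟩ := Reg.exists_weyl (ρ := ρ) (s := s)
    ⟨ord, dim, two_le, le, reg, syl, cent, faith⟩ hnn
  exact dual_equiv ord syl hW σ hC hm hmp regC irr

end Cfsg.Agent.H782.Weyl
end

-- part: H779/NPCFinal
section
/-!
# Block NPC of S5267 (helper779): final form, with N2 and N3 of `H782.Weyl`
-/

set_option autoImplicit false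

namespace Cfsg.Agent.H779.Core

open Subgroup Cfsg.Agent.H467.MaxClass Cfsg.Agent.H786
open scoped commutatorElement

universe u

/-- Blocks N2, N3. -/
theorem selfDual (p : ℕ) [Fact p.Prime] : SelfDual.{u} p := by
  intro G _ _ x ord syl cent hnn B _ _ _ ρ faith _ h2 h3 reg C _ _ _ σ irr h4 h5 regC
  obtain ⟨θ, hθ⟩ := Cfsg.Agent.H782.Weyl.exists_dual_equiv ord syl cent hnn ρ faith rfl h2 h3 reg σ rfl
    (by omega) (by omega) regC irr
  exact ⟨θ, fun g f => hθ g f⟩

variable {P : Type u} [Group P] {p n : ℕ} {W : ℕ → Subgroup P} [hN1 : (W 1).Normal] {A : Subgroup (MulAut (W 1))}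
variable [hp : Fact p.Prime] [Finite P]

/-- **Block NPC, final form.**  In the non-`p`-closed case either the bottom chief factor of `A` is a characteristic
elementary abelian central subgroup which is self-dual, or we are in the special case. -/
theorem dual_or_special (mc : MC P p n W) (five : 5 ≤ p)
    (deg : ∀ i j, 1 ≤ i → 1 ≤ j → ⁅W i, W j⁆ ≤ W (i + j + 1))
    (conj_le : conjGrp (W 1) ≤ A) (sylow : ¬ p ∣ (conjGrp (W 1)).relIndex A)
    (hnab : ⁅W 1, W 1⁆ ≠ ⊥) (hnp : ¬ PClosed A) (hΩ : p + 2 ≤ n → ⁅W (n - (p - 1)), W 1⁆ ≠ ⊥) :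
    (∃ i, 1 ≤ i ∧ i < n ∧ AInv A (W i) ∧ ⁅W i, W 1⁆ = ⊥ ∧ (∀ w ∈ W i, w ^ p = 1) ∧
      ∃ θ : (W i →* Multiplicative (ZMod p)) →* W i, Function.Surjective θ ∧
        ∀ a ∈ A, ∀ f f' : W i →* Multiplicative (ZMod p),
          (∀ w w' : W i, (w' : P) = ap a (w : P) → f' w' = f w) →
          ((θ f' : W i) : P) = ap a ((θ f : W i) : P)) ∨
    (p + 2 ≤ n ∧ ⁅W (n - (p - 1)), W 2⁆ = ⊥ ∧ ⁅W (n - (p - 1)), W 1⁆ ≤ W (n - 1) ∧
      AInv A (W (n - 1))) :=
  dual_or_special_of (selfDual p) mc five deg conj_le sylow hnab hnp hΩ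

end Cfsg.Agent.H779.Core
end
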