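import Cfsg.Agent.H779.MaxChain
import Cfsg.Agent.H467.MaxClassUniform
set_option linter.all false

/-!
# `p`-groups of maximal class with an extraspecial maximal subgroup and a torus

`main` : let `G` be of maximal class and order `p ^ m`, `m ≥ 6` even, `p` odd, with a maximal subgroup `M` with
`[M, M] ≤ Z = Z(M)` of order `p`, `x ∉ M` of order `p` with `C_M(x) = Z`, and for all `c d = 1` mod `p` an automorphism with
`x ↦ x ^ c`, `z ↦ z ^ d` on `Z`. Then `m = p - 1`, `p ≥ 7` and `G` has exponent `p`.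
-/

set_option autoImplicit false

open scoped commutatorElement

namespace Cfsg.Agent.H779.PearlFinal

open Cfsg.Agent.H779.MaxPow Cfsg.Agent.H779.MaxChain Cfsg.Agent.H467.MaxClass
open Cfsg.Agent.Lib.FrattiniPGroup Subgroup

universe u

set_option linter.unusedSectionVars false

section basic

variable {H : Type*} [Group H]

theorem comm_zpow_left {s u : H} (h : Commute ⁅s, u⁆ s) (i : ℤ) : ⁅s ^ i, u⁆ = ⁅s, u⁆ ^ i := by
  have e1 : u * s⁻¹ * u⁻¹ = s⁻¹ * ⁅s, u⁆ := by rw [commutatorElement_def]; group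
  have e2 : ⁅s ^ i, u⁆ = s ^ i * (u * s⁻¹ * u⁻¹) ^ i := by
    rw [conj_zpow, commutatorElement_def]; group
  have h' : Commute s⁻¹ ⁅s, u⁆ := h.symm.inv_left
  rw [e2, e1, h'.mul_zpow]
  group

theorem comm_zpow_right {s u : H} (h : Commute ⁅s, u⁆ u) (i : ℤ) : ⁅s, u ^ i⁆ = ⁅s, u⁆ ^ i := by
  have e1 : s * u * s⁻¹ = ⁅s, u⁆ * u := by rw [commutatorElement_def]; group
  have e2 : ⁅s, u ^ i⁆ = (s * u * s⁻¹) ^ i * (u ^ i)⁻¹ := by
    rw [conj_zpow, commutatorElement_def]
  rw [e2, e1, h.mul_zpow]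
  group

theorem comm_zpow {s u : H} (h : ∀ v, Commute ⁅s, u⁆ v) (i j : ℤ) :
    ⁅s ^ i, u ^ j⁆ = ⁅s, u⁆ ^ (i * j) := by
  have h1 : ⁅s ^ i, u⁆ = ⁅s, u⁆ ^ i := comm_zpow_left (h s) i
  rw [comm_zpow_right (by rw [h1]; exact (h u).zpow_left i), h1, zpow_mul]

/-- In a group of prime order: equality of powers and congruence. -/
theorem cast_eq_of_zpow_eq {p : ℕ} [hp : Fact p.Prime] {z : H} (hz : z ^ p = 1) (hz1 : z ≠ 1) {a b : ℤ}
    (h : z ^ a = z ^ b) : (a : ZMod p) = (b : ZMod p) := by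
  have h1 : orderOf z = p := orderOf_eq_prime hz hz1
  rw [zpow_eq_zpow_iff_modEq, h1] at h
  exact (ZMod.intCast_eq_intCast_iff a b p).2 h

end basic

variable {G : Type u} [Group G]

/-- The situation. -/
structure Sit (p m : ℕ) (M Z : Subgroup G) (x : G) : Prop where
  ne_two : p ≠ 2
  card : Nat.card G = p ^ m
  six : 6 ≤ m
  even : Even m
  cls : Group.nilpotencyClass G = m - 1
  index : M.index = p
  cardZ : Nat.card Z = p
  cent : ∀ z ∈ Z, ∀ g : G, z * g = g * z
  comm : ∀ a ∈ M, ∀ b ∈ M, ⁅a, b⁆ ∈ Z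
  self : ∀ a ∈ M, (∀ b ∈ M, a * b = b * a) → a ∈ Z
  pow : ∀ a ∈ M, a ^ p ∈ Z
  mul_pow : ∀ a ∈ M, ∀ b ∈ M, (a * b) ^ p = a ^ p * b ^ p
  not_mem : x ∉ M
  xpow : x ^ p = 1
  fix : ∀ q ∈ M, x * q = q * x → q ∈ Z

namespace Sit

variable [Finite G] {p m : ℕ} [hp : Fact p.Prime] {M Z : Subgroup G} {x : G} (h : Sit p m M Z x)

include h

theorem three : 3 ≤ p := by
  have := hp.out.two_le
  have := h.ne_two
  omega

theorem isP : IsPGroup p G := IsPGroup.of_card h.card

theorem mc : MC G p m (chain G) := chain_mc h.card h.cls (by have := h.six; omega)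

theorem normalM : M.Normal := by
  apply Subgroup.normal_of_index_eq_minFac_card
  rw [h.index, h.card, hp.out.pow_minFac (by have := h.six; omega)]

theorem coatom : IsCoatom M := by
  refine ⟨fun hh => ?_, fun K hK => ?_⟩
  · have := h.index
    rw [hh, Subgroup.index_top] at this
    exact hp.out.one_lt.ne this
  · have h2 := Subgroup.relIndex_mul_index hK.le
    rw [h.index] at h2
    have h3 : K.index ∣ p := ⟨_, by rw [← h2, mul_comm]⟩
    rcases (Nat.dvd_prime hp.out).1 h3 with h4 | h4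
    · exact Subgroup.index_eq_one.1 h4
    · exfalso
      rw [h4] at h2
      have h5 : M.relIndex K = 1 :=
        Nat.eq_of_mul_eq_mul_right hp.out.pos (by rw [h2, one_mul])
      exact hK.not_ge (Subgroup.relIndex_eq_one.1 h5)

/-- the last term of the chain is `Z` -/
theorem last_eq : chain G (m - 1) = Z := by
  have hm := h.six
  have hmc := h.mc
  -- `W (m - 1)` is central of order `p`
  have h1 : Nat.card (chain G (m - 1)) = p := by
    have := hmc.card_W 1 (by omega)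
    rwa [pow_one] at this
  have h2 : (⊤ : Subgroup G).lowerCentralSeries 1 ≤ M := by
    rw [Subgroup.top_lowerCentralSeries_one]
    exact (commutator_le_frattini h.isP).trans (frattini_le_coatom h.coatom)
  have h3 : chain G (m - 1) ≤ M := by
    rw [chain_of_two_le (by omega)]
    exact ((⊤ : Subgroup G).lowerCentralSeries_antitone (by omega)).trans h2
  refine Subgroup.eq_of_le_of_card_ge (fun z hz => ?_) (by rw [h1, h.cardZ])
  exact h.self z (h3 hz) (fun b _ => hmc.center_le hz b)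

theorem one_eq : chain G 1 = M := by
  have hm := h.six
  have hmc := h.mc
  have h2 : (⊤ : Subgroup G).lowerCentralSeries 1 ≤ M := by
    rw [Subgroup.top_lowerCentralSeries_one]
    exact (commutator_le_frattini h.isP).trans (frattini_le_coatom h.coatom)
  symm
  have h3 : M ≤ chain G 1 := by
    intro a ha w hw
    have h4 : ⁅w, a⁆ ∈ Z := h.comm w (h2 hw) a ha
    rw [← h.last_eq, chain_of_two_le (by omega)] at h4
    exact (⊤ : Subgroup G).lowerCentralSeries_antitone (by omega) h4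
  refine Subgroup.eq_of_le_of_card_ge h3 ?_
  have h5 := (chain G 1).card_mul_index
  have h6 := M.card_mul_index
  rw [hmc.W1_index] at h5
  rw [h.index, ← h5] at h6
  exact (Nat.eq_of_mul_eq_mul_right hp.out.pos h6).ge

theorem isChain : Chain p m (chain G) := by
  have : gam M = chain G := by
    funext i
    unfold gam
    rcases Nat.lt_or_ge i 2 with hi | hi
    · interval_cases i
      · rfl
      · rw [if_neg (by omega), if_pos rfl, h.one_eq]
    · rw [if_neg (by omega), if_neg (by omega), chain_of_two_le hi]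
  rw [← this]
  exact chain_of_maxClass h.card (by have := h.six; omega) h.cls h.coatom

theorem two_le_M : chain G 2 ≤ M := by
  rw [← h.one_eq]; exact h.mc.le_succ 1

theorem unif : Unif m (chain G) x := by
  refine ⟨by rw [h.one_eq]; exact h.not_mem, fun y hy hxy => ?_⟩
  rw [h.one_eq] at hy
  rw [h.last_eq]
  exact h.fix y hy hxy

theorem le_add_two : m ≤ p + 2 := by
  have hm := h.six
  by_contra hcon
  push Not at hcon
  obtain ⟨y, hy, hy'⟩ := h.mc.ne_succ (i := 2) (by omega)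
  have h1 := pow_not_mem h.isChain (by omega) h.unif (i := 2) le_rfl (by omega) hy hy'
  apply h1
  have h2 : y ^ p ∈ Z := h.pow y (h.two_le_M hy)
  rw [← h.last_eq] at h2
  exact h.mc.antitone (by omega) h2

/-- The low two-step centralizers. -/
theorem Ksub_eq (i : ℕ) (hi : 1 ≤ i) (him : i ≤ m - 3) : h.mc.Ksub i = M := by
  have hm := h.six
  refine Eq.trans ?_ h.one_eq
  refine h.mc.eq_W1 ?_ (h.mc.Ksub_ne_top' hi (by omega))
  intro a ha w hw
  have hw' : w ∈ M := by rw [← h.one_eq]; exact h.mc.antitone hi hw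
  rw [h.one_eq] at ha
  have h4 := h.comm w hw' a ha
  rw [← h.last_eq] at h4
  exact h.mc.antitone (by omega) h4

theorem comm_notMem {s : G} (hs : s ∉ M) {i : ℕ} (hi : 1 ≤ i) (him : i ≤ m - 3) {a : G}
    (ha : a ∈ chain G i) (ha' : a ∉ chain G (i + 1)) : ⁅s, a⁆ ∉ chain G (i + 2) := by
  have hm := h.six
  intro hmem
  apply hs
  rw [← h.Ksub_eq i hi him]
  refine (h.mc.mem_K_iff (by omega) ha ha' s).2 ?_
  rw [← commutatorElement_inv]
  exact inv_mem hmem

/-- elements of `M` commuting with `s ∉ M` -/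
theorem mem_of_commute {s : G} (hs : s ∉ M) {a : G} (ha : a ∈ M) (hc : s * a = a * s) :
    a ∈ chain G (m - 2) := by
  have hm := h.six
  have key : ∀ i, 1 ≤ i → i ≤ m - 2 → a ∈ chain G i := by
    intro i hi
    induction i, hi using Nat.le_induction with
    | base => intro _; rw [h.one_eq]; exact ha
    | succ i hi ih =>
      intro him
      by_contra hcon
      have h1 := h.comm_notMem hs hi (by omega) (ih (by omega)) hcon
      rw [commutatorElement_eq_one_iff_mul_comm.2 hc] at h1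
      exact h1 (one_mem _)
  exact key (m - 2) (by omega) le_rfl

/-- `s w` is conjugate to `s z`, `z ∈ Z`. -/
theorem exists_conj (k : ℕ) : ∀ (i : ℕ) (s : G), s ∉ M → 2 ≤ i → i + k = m - 1 → ∀ w ∈ chain G i,
    ∃ g : G, ∃ z ∈ Z, s * w = g * (s * z) * g⁻¹ := by
  have hm := h.six
  have hmc := h.mc
  induction k with
  | zero =>
    intro i s hs hi him w hw
    rw [show i = m - 1 by omega, h.last_eq] at hw
    exact ⟨1, w, hw, by group⟩
  | succ k ih =>
    intro i s hs hi him w hw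
    obtain ⟨j, rfl⟩ : ∃ j, i = j + 1 := ⟨i - 1, by omega⟩
    obtain ⟨u, hu, hu'⟩ := hmc.ne_succ (i := j) (by omega)
    have hs' : s⁻¹ ∉ M := fun hh => hs (inv_mem_iff.1 hh)
    have h1 : ⁅s⁻¹, u⁆ ∈ chain G (j + 1) := hmc.comm_mem' hu
    have h2 : ⁅s⁻¹, u⁆ ∉ chain G (j + 2) := h.comm_notMem hs' (by omega) (by omega) hu hu'
    obtain ⟨l, hl⟩ := hmc.exists_zpow (i := j + 1) (by omega) h1 h2 hw
    -- `⁅s⁻¹, u ^ l⁆` is congruent to `⁅s⁻¹, u⁆ ^ l`
    have hn := hmc.normal (j + 2)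
    have h3 : (⁅s⁻¹, u ^ l⁆)⁻¹ * ⁅s⁻¹, u⁆ ^ l ∈ chain G (j + 2) := by
      rw [← QuotientGroup.eq_one_iff]
      show (QuotientGroup.mk' (chain G (j + 2))) _ = 1
      rw [map_mul, map_inv, map_zpow, map_commutatorElement, map_zpow, map_commutatorElement,
        comm_zpow_right, inv_mul_cancel]
      rw [← commutatorElement_eq_one_iff_commute, ← map_commutatorElement,
        ← map_commutatorElement, QuotientGroup.mk'_apply, QuotientGroup.eq_one_iff]
      exact hmc.comm_mem h1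
    set w' : G := (⁅s⁻¹, u ^ l⁆)⁻¹ * w with hw'
    have h4 : w' ∈ chain G (j + 2) := by
      have : w' = ((⁅s⁻¹, u ^ l⁆)⁻¹ * ⁅s⁻¹, u⁆ ^ l) * ((⁅s⁻¹, u⁆ ^ l)⁻¹ * w) := by
        rw [hw']; group
      rw [this]
      exact mul_mem h3 hl
    have h5 : (u ^ l)⁻¹ * w' * u ^ l ∈ chain G (j + 2) := by
      have := hn.conj_mem w' h4 (u ^ l)⁻¹
      rwa [inv_inv] at this
    obtain ⟨g, z, hz, hg⟩ := ih (j + 2) s hs (by omega) (by omega) _ h5
    refine ⟨u ^ l * g, z, hz, ?_⟩
    have e1 : s * w = u ^ l * (s * ((u ^ l)⁻¹ * w' * u ^ l)) * (u ^ l)⁻¹ := by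
      have : w = ⁅s⁻¹, u ^ l⁆ * w' := by rw [hw']; group
      rw [this, commutatorElement_def]
      group
    rw [e1, hg]
    group

theorem exists_pow_conj {s : G} (hs : s ∉ M) {w : G} (hw : w ∈ chain G 2) :
    ∃ g : G, (s * w) ^ p = g * s ^ p * g⁻¹ := by
  have hm := h.six
  obtain ⟨g, z, hz, hg⟩ := h.exists_conj (m - 3) 2 s hs le_rfl (by omega) w hw
  refine ⟨g, ?_⟩
  have hc : Commute s z := (h.cent z hz s).symm
  rw [hg, conj_pow, hc.mul_pow]
  have : z ^ p = 1 := by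
    have h1 : (⟨z, hz⟩ : Z) ^ Nat.card Z = 1 := pow_card_eq_one'
    rw [h.cardZ] at h1
    exact congrArg Subtype.val h1
  rw [this, mul_one]

/-! ### The torus -/

theorem tau_mem (τ : MulAut G) {i : ℕ} {u : G} (hu : u ∈ chain G i) : τ u ∈ chain G i := by
  have hchar : ∀ (i : ℕ) (β : MulAut G) (z : G), z ∈ (⊤ : Subgroup G).lowerCentralSeries i →
      β z ∈ (⊤ : Subgroup G).lowerCentralSeries i := by
    intro i β z hz
    have h3 := (Subgroup.characteristic_iff_comap_eq.1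
      (inferInstance : ((⊤ : Subgroup G).lowerCentralSeries i).Characteristic)) β
    rw [← h3] at hz
    exact hz
  match i with
  | 0 => rw [chain_zero]; exact Subgroup.mem_top _
  | 1 =>
    intro w hw
    have h1 := hu (τ⁻¹ w) (hchar 1 τ⁻¹ w hw)
    have h2 := hchar 3 τ _ h1
    rw [map_commutatorElement, MulAut.apply_inv_self] at h2
    exact h2
  | (i + 2) =>
    rw [chain_of_two_le (by omega)] at hu ⊢
    exact hchar _ τ u hu

/-- `x` acts without fixed points on the factors. -/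
theorem x_notMem {i : ℕ} (hi : 1 ≤ i) (him : i ≤ m - 2) {a : G}
    (ha : a ∈ chain G i) (ha' : a ∉ chain G (i + 1)) : ⁅x, a⁆ ∉ chain G (i + 2) := by
  have hm := h.six
  rcases Nat.lt_or_ge i (m - 2) with hlt | hge
  · exact h.comm_notMem h.not_mem hi (by omega) ha ha'
  · have : i = m - 2 := by omega
    subst this
    intro hmem
    rw [h.mc.bot_of_le (by omega), Subgroup.mem_bot, commutatorElement_eq_one_iff_mul_comm] at hmem
    apply ha'
    rw [show m - 2 + 1 = m - 1 by omega, h.last_eq]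
    refine h.fix a ?_ hmem
    rw [← h.one_eq]
    exact h.mc.antitone hi ha

variable {τ : MulAut G} {c d : ℕ} {b : ℤ} {y : G}

theorem tau_step (hτx : τ x = x ^ c) (hy : y ∈ M) (hy2 : y ∉ chain G 2)
    (hb : (y ^ b)⁻¹ * τ y ∈ chain G 2) (i : ℕ) : 1 ≤ i → i ≤ m - 1 → ∀ u ∈ chain G i,
      (u ^ (b * (c : ℤ) ^ (i - 1)))⁻¹ * τ u ∈ chain G (i + 1) := by
  have hm := h.six
  have hmc := h.mc
  intro hi
  induction i, hi using Nat.le_induction with
  | base =>
    intro _ u hu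
    have hy1 : y ∈ chain G 1 := by rw [h.one_eq]; exact hy
    obtain ⟨k, hk⟩ := hmc.exists_zpow (i := 1) (by omega) hy1 hy2 hu
    have hn := hmc.normal 2
    rw [Nat.sub_self, pow_zero, mul_one]
    rw [← QuotientGroup.eq_one_iff] at hb hk ⊢
    change (QuotientGroup.mk' (chain G 2)) _ = 1 at hb hk
    show (QuotientGroup.mk' (chain G 2)) _ = 1
    have hτk : (QuotientGroup.mk' (chain G 2)) (τ ((y ^ k)⁻¹ * u)) = 1 := by
      rw [QuotientGroup.mk'_apply, QuotientGroup.eq_one_iff]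
      apply h.tau_mem
      exact (QuotientGroup.eq_one_iff _).1 hk
    rw [map_mul, map_inv, map_zpow] at hb hk ⊢
    rw [map_mul τ, map_inv τ, map_zpow τ, map_mul, map_inv, map_zpow] at hτk
    rw [inv_mul_eq_one] at hb hk hτk ⊢
    rw [← hτk, ← hk, ← hb, ← zpow_mul, ← zpow_mul, mul_comm]
  | succ i hi ih =>
    intro him u hu
    have ih := ih (by omega)
    obtain ⟨v, hv, hv'⟩ := hmc.ne_succ (i := i) (by omega)
    have h1 : ⁅x, v⁆ ∈ chain G (i + 1) := hmc.comm_mem' hv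
    have h2 := h.x_notMem hi (by omega) hv hv'
    obtain ⟨k, hk⟩ := hmc.exists_zpow (i := i + 1) (by omega) h1 h2 hu
    have hn := hmc.normal (i + 2)
    have h3 := ih v hv
    set e : ℤ := b * (c : ℤ) ^ (i - 1) with he
    have hee : b * (c : ℤ) ^ (i + 1 - 1) = c * e := by
      rw [he, show i + 1 - 1 = (i - 1) + 1 by omega, pow_succ]; ring
    rw [hee, show i + 1 + 1 = i + 2 from rfl]
    set q : G →* G ⧸ chain G (i + 2) := QuotientGroup.mk' (chain G (i + 2)) with hq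
    have hq1 : ∀ a, q a = 1 ↔ a ∈ chain G (i + 2) := fun a => QuotientGroup.eq_one_iff a
    have hcen : ∀ a ∈ chain G (i + 1), ∀ g, Commute (q a) g := by
      intro a ha g
      obtain ⟨g, rfl⟩ := QuotientGroup.mk'_surjective _ g
      rw [← commutatorElement_eq_one_iff_commute, ← hq, ← map_commutatorElement, hq1]
      exact hmc.comm_mem ha
    have hu1 : q u = ⁅q x, q v⁆ ^ k := by
      have := (hq1 _).2 hk
      rw [map_mul, map_inv, map_zpow, map_commutatorElement, inv_mul_eq_one] at this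
      exact this.symm
    have hτu : q (τ u) = ⁅q x ^ (c : ℤ), q (τ v)⁆ ^ k := by
      have h4 := (hq1 _).2 (h.tau_mem τ hk)
      rw [map_mul τ, map_inv τ, map_zpow τ, map_commutatorElement, map_mul, map_inv, map_zpow,
        map_commutatorElement, inv_mul_eq_one, hτx, map_pow] at h4
      rw [← h4, zpow_natCast]
    have hτv : q (τ v) = q v ^ e * q ((v ^ e)⁻¹ * τ v) := by
      rw [← map_zpow, ← map_mul]
      congr 1
      group
    have h5 : ⁅q x ^ (c : ℤ), q (τ v)⁆ = ⁅q x, q v⁆ ^ ((c : ℤ) * e) := by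
      have h6 : ∀ g, Commute ⁅q x, q v⁆ g := by
        intro g
        rw [← map_commutatorElement]
        exact hcen _ h1 g
      have h7 := hcen _ h3
      rw [hτv, commutatorElement_def, mul_inv_rev]
      have e1 : q x ^ (c : ℤ) * (q v ^ e * q ((v ^ e)⁻¹ * τ v)) * (q x ^ (c : ℤ))⁻¹ *
          ((q ((v ^ e)⁻¹ * τ v))⁻¹ * (q v ^ e)⁻¹) =
          q x ^ (c : ℤ) * q v ^ e * (q x ^ (c : ℤ))⁻¹ * (q v ^ e)⁻¹ := by
        have e2 := (h7 (q x ^ (c : ℤ))⁻¹).eq
        calc _ = q x ^ (c : ℤ) * q v ^ e * (q ((v ^ e)⁻¹ * τ v) * (q x ^ (c : ℤ))⁻¹) *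
              ((q ((v ^ e)⁻¹ * τ v))⁻¹ * (q v ^ e)⁻¹) := by group
          _ = q x ^ (c : ℤ) * q v ^ e * ((q x ^ (c : ℤ))⁻¹ * q ((v ^ e)⁻¹ * τ v)) *
              ((q ((v ^ e)⁻¹ * τ v))⁻¹ * (q v ^ e)⁻¹) := by rw [e2]
          _ = _ := by group
      rw [e1, ← commutatorElement_def]
      exact comm_zpow h6 _ _
    rw [← hq1, map_mul, map_inv, map_zpow, inv_mul_eq_one, hτu, h5, hu1, ← zpow_mul, ← zpow_mul]
    congr 1
    ring

theorem exists_gen : ∃ y ∈ M, y ∉ chain G 2 := by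
  have hm := h.six
  obtain ⟨y, hy, hy'⟩ := h.mc.ne_succ (i := 1) (by omega)
  rw [h.one_eq] at hy
  exact ⟨y, hy, hy'⟩

theorem exists_b (τ : MulAut G) (hy : y ∈ M) (hy2 : y ∉ chain G 2) :
    ∃ b : ℤ, (y ^ b)⁻¹ * τ y ∈ chain G 2 := by
  have hm := h.six
  rw [← h.one_eq] at hy
  exact h.mc.exists_zpow (i := 1) (by omega) hy hy2 (h.tau_mem τ hy)

theorem eq_one_of_last {z : G} (hz : z ∈ chain G m) : z = 1 := by
  rw [h.mc.bot_of_le le_rfl] at hz
  exact Subgroup.mem_bot.1 hz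

theorem zpow_p {z : G} (hz : z ∈ Z) : z ^ p = 1 := by
  have h1 : (⟨z, hz⟩ : Z) ^ Nat.card Z = 1 := pow_card_eq_one'
  rw [h.cardZ] at h1
  exact congrArg Subtype.val h1

theorem eq1 (hτx : τ x = x ^ c) (hτz : ∀ z ∈ Z, τ z = z ^ d) (hy : y ∈ M) (hy2 : y ∉ chain G 2)
    (hb : (y ^ b)⁻¹ * τ y ∈ chain G 2) : (b : ZMod p) * (c : ZMod p) ^ (m - 2) = (d : ZMod p) := by
  have hm := h.six
  obtain ⟨z, hz, hz'⟩ := h.mc.ne_succ (i := m - 1) (by omega)
  rw [show m - 1 + 1 = m by omega] at hz'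
  have hz1 : z ≠ 1 := fun hh => hz' (by rw [hh]; exact one_mem _)
  have h1 := h.tau_step hτx hy hy2 hb (m - 1) (by omega) le_rfl z hz
  rw [show m - 1 + 1 = m by omega] at h1
  have h2 := h.eq_one_of_last h1
  rw [h.last_eq] at hz
  rw [inv_mul_eq_one, hτz z hz, ← zpow_natCast] at h2
  have h3 := cast_eq_of_zpow_eq (h.zpow_p hz) hz1 h2
  rw [show m - 1 - 1 = m - 2 by omega] at h3
  push_cast at h3
  exact h3

/-- a generator of `Γ (m - 2)` is not centralized by `y` -/
theorem comm_ne_one (hy : y ∈ M) (hy2 : y ∉ chain G 2) {u : G} (hu : u ∈ chain G (m - 2))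
    (hu' : u ∉ chain G (m - 1)) : ⁅y, u⁆ ≠ 1 := by
  have hm := h.six
  intro h1
  apply hu'
  rw [h.last_eq]
  have huM : u ∈ M := by rw [← h.one_eq]; exact h.mc.antitone (by omega) hu
  refine h.self u huM (fun a ha => ?_)
  have ha1 : a ∈ chain G 1 := by rw [h.one_eq]; exact ha
  have hy1 : y ∈ chain G 1 := by rw [h.one_eq]; exact hy
  obtain ⟨k, hk⟩ := h.mc.exists_zpow (i := 1) (by omega) hy1 hy2 ha1
  have h2 : Commute u ((y ^ k)⁻¹ * a) := by
    rw [← commutatorElement_eq_one_iff_commute]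
    apply h.eq_one_of_last
    have := h.mc.comm_comm_mem hu hk
    rwa [show m - 2 + 2 = m by omega] at this
  have h3 : Commute u y := (commutatorElement_eq_one_iff_commute.1 h1).symm
  have h4 : Commute u (y ^ k * ((y ^ k)⁻¹ * a)) := (h3.zpow_right k).mul_right h2
  rw [mul_inv_cancel_left] at h4
  exact h4

theorem eq2 (hτx : τ x = x ^ c) (hτz : ∀ z ∈ Z, τ z = z ^ d) (hy : y ∈ M) (hy2 : y ∉ chain G 2)
    (hb : (y ^ b)⁻¹ * τ y ∈ chain G 2) :
    (b : ZMod p) * ((b : ZMod p) * (c : ZMod p) ^ (m - 3)) = (d : ZMod p) := by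
  have hm := h.six
  obtain ⟨u, hu, hu'⟩ := h.mc.ne_succ (i := m - 2) (by omega)
  rw [show m - 2 + 1 = m - 1 by omega] at hu'
  have h1 := h.comm_ne_one hy hy2 hu hu'
  have huM : u ∈ M := by rw [← h.one_eq]; exact h.mc.antitone (by omega) hu
  have hvZ : ⁅y, u⁆ ∈ Z := h.comm y hy u huM
  have h2 := h.tau_step hτx hy hy2 hb (m - 2) (by omega) (by omega) u hu
  rw [show m - 2 - 1 = m - 3 by omega, show m - 2 + 1 = m - 1 by omega, h.last_eq] at h2
  set e : ℤ := b * (c : ℤ) ^ (m - 3) with he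
  have h3 : τ ⁅y, u⁆ = ⁅y, u⁆ ^ (b * e) := by
    rw [map_commutatorElement]
    set w := (y ^ b)⁻¹ * τ y with hw
    set z := (u ^ e)⁻¹ * τ u with hz
    have e1 : τ y = y ^ b * w := by rw [hw]; group
    have e2 : τ u = u ^ e * z := by rw [hz]; group
    have hwu : Commute w (u ^ e) := by
      apply Commute.zpow_right
      rw [← commutatorElement_eq_one_iff_commute]
      apply h.eq_one_of_last
      have := h.mc.comm_comm_mem hb hu
      rwa [show 2 + (m - 2) = m by omega] at this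
    have hzc : ∀ g, z * g = g * z := fun g => h.cent z h2 g
    have e3 : ⁅τ y, τ u⁆ = ⁅y ^ b, u ^ e⁆ := by
      rw [e1, e2, commutatorElement_def, commutatorElement_def]
      have e4 := hzc (y ^ b * w)⁻¹
      have e5 := hwu.eq
      calc y ^ b * w * (u ^ e * z) * (y ^ b * w)⁻¹ * (u ^ e * z)⁻¹
          = y ^ b * w * u ^ e * (z * (y ^ b * w)⁻¹) * z⁻¹ * (u ^ e)⁻¹ := by group
        _ = y ^ b * w * u ^ e * ((y ^ b * w)⁻¹ * z) * z⁻¹ * (u ^ e)⁻¹ := by rw [e4]
        _ = y ^ b * (w * u ^ e) * w⁻¹ * (y ^ b)⁻¹ * (u ^ e)⁻¹ := by group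
        _ = y ^ b * (u ^ e * w) * w⁻¹ * (y ^ b)⁻¹ * (u ^ e)⁻¹ := by rw [e5]
        _ = _ := by group
    rw [e3]
    exact comm_zpow (fun g => h.cent _ hvZ g) _ _
  rw [hτz _ hvZ, ← zpow_natCast] at h3
  have h4 := cast_eq_of_zpow_eq (h.zpow_p hvZ) h1 h3
  rw [he] at h4
  push_cast at h4
  exact h4.symm

/-- The weight of `y` is `c`. -/
theorem b_eq (hcd : (c : ZMod p) * (d : ZMod p) = 1) (hτx : τ x = x ^ c) (hτz : ∀ z ∈ Z, τ z = z ^ d)
    (hy : y ∈ M) (hy2 : y ∉ chain G 2) (hb : (y ^ b)⁻¹ * τ y ∈ chain G 2) :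
    (b : ZMod p) = (c : ZMod p) ∧ (c : ZMod p) ^ m = 1 := by
  have hm := h.six
  have e1 := h.eq1 hτx hτz hy hy2 hb
  have e2 := h.eq2 hτx hτz hy hy2 hb
  set B : ZMod p := (b : ZMod p)
  set C : ZMod p := (c : ZMod p)
  set D : ZMod p := (d : ZMod p)
  have hC : C ≠ 0 := by
    intro h0; rw [h0, zero_mul] at hcd; exact zero_ne_one hcd
  have hD : D ≠ 0 := by
    intro h0; rw [h0, mul_zero] at hcd; exact zero_ne_one hcd
  have hB : B ≠ 0 := by
    intro h0; rw [h0, zero_mul] at e1; exact hD e1.symm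
  have hBC : B = C := by
    have h1 : B * (B * C ^ (m - 3)) = B * (C * C ^ (m - 3)) := by
      rw [e2, ← e1, show m - 2 = (m - 3) + 1 by omega, pow_succ']
    have h2 := mul_left_cancel₀ hB h1
    exact mul_right_cancel₀ (pow_ne_zero _ hC) h2
  refine ⟨hBC, ?_⟩
  rw [hBC] at e1
  have : C ^ m = C * (C * C ^ (m - 2)) := by
    rw [← pow_succ', ← pow_succ', show m - 2 + 1 + 1 = m by omega]
  rw [this, e1, hcd]

/-- There are nonuniform elements. -/
theorem exists_nonuniform : ∃ s, s ∉ M ∧ ∀ u ∈ chain G (m - 2), s * u = u * s := by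
  have hm := h.six
  obtain ⟨y, hy, hy2⟩ := h.exists_gen
  obtain ⟨u, hu, hu'⟩ := h.mc.ne_succ (i := m - 2) (by omega)
  rw [show m - 2 + 1 = m - 1 by omega] at hu'
  have h1 := h.comm_ne_one hy hy2 hu hu'
  have huM : u ∈ M := by rw [← h.one_eq]; exact h.mc.antitone (by omega) hu
  have hvZ : ⁅y, u⁆ ∈ Z := h.comm y hy u huM
  have hxu : ⁅x, u⁆ ∈ Z := by
    rw [← h.last_eq, show m - 1 = (m - 2) + 1 by omega]
    exact h.mc.comm_mem' hu
  have hp1 : Nat.card Z = p := h.cardZ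
  obtain ⟨k, hk⟩ : ∃ k : ℤ, ⁅y, u⁆ ^ k = ⁅x, u⁆⁻¹ := by
    have h2 : (⟨⁅y, u⁆, hvZ⟩ : Z) ≠ 1 := fun hh => h1 (congrArg Subtype.val hh)
    have h3 : (⟨⁅x, u⁆⁻¹, inv_mem hxu⟩ : Z) ∈ Subgroup.zpowers (⟨⁅y, u⁆, hvZ⟩ : Z) :=
      mem_zpowers_of_prime_card hp1 h2
    obtain ⟨k, hk⟩ := Subgroup.mem_zpowers_iff.1 h3
    exact ⟨k, congrArg Subtype.val hk⟩
  have hs : x * y ^ k ∉ M := fun hh =>
    h.not_mem ((Subgroup.mul_mem_cancel_right _ (Subgroup.zpow_mem _ hy k)).1 hh)
  have hsu : Commute (x * y ^ k) u := by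
    rw [← commutatorElement_eq_one_iff_commute]
    have h2 : ⁅y ^ k, u⁆ = ⁅y, u⁆ ^ k := comm_zpow_left (h.cent _ hvZ y) k
    have h3 : ⁅x * y ^ k, u⁆ = x * ⁅y ^ k, u⁆ * x⁻¹ * ⁅x, u⁆ := by
      simp only [commutatorElement_def]; group
    rw [h3, h2, hk, ← h.cent _ (inv_mem hxu) x]
    group
  refine ⟨x * y ^ k, hs, fun w hw => ?_⟩
  obtain ⟨l, hl⟩ := h.mc.exists_zpow (i := m - 2) (by omega) hu
    (by rwa [show m - 2 + 1 = m - 1 by omega]) hw
  rw [show m - 2 + 1 = m - 1 by omega, h.last_eq] at hl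
  have h4 : Commute (x * y ^ k) (u ^ l * ((u ^ l)⁻¹ * w)) :=
    (hsu.zpow_right l).mul_right (h.cent _ hl _).symm
  rw [mul_inv_cancel_left] at h4
  exact h4

/-- All of it. -/
theorem final (hτ : ∀ c d : ℕ, c * d ≡ 1 [MOD p] → ∃ τ : MulAut G, τ x = x ^ c ∧ ∀ z ∈ Z, τ z = z ^ d) :
    m = p - 1 ∧ 7 ≤ p ∧ ∀ g : G, g ^ p = 1 := by
  have hm := h.six
  have hp3 := h.three
  have hle := h.le_add_two
  have hev := h.even
  have hodd : Odd p := hp.out.odd_of_ne_two h.ne_two
  -- a primitive root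
  obtain ⟨g, hg⟩ := IsCyclic.exists_generator (α := (ZMod p)ˣ)
  have hgo : orderOf g = p - 1 := by
    rw [orderOf_eq_card_of_forall_mem_zpowers hg, Nat.card_eq_fintype_card, ZMod.card_units]
  have hord : ∀ k : ℕ, ((g : ZMod p)) ^ k = 1 → p - 1 ∣ k := by
    intro k hk
    rw [← hgo, orderOf_dvd_iff_pow_eq_one]
    apply Units.ext
    rw [Units.val_pow_eq_pow_val, hk, Units.val_one]
  set c : ℕ := (g : ZMod p).val with hc
  set d : ℕ := ((g⁻¹ : (ZMod p)ˣ) : ZMod p).val with hd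
  have hcC : (c : ZMod p) = g := ZMod.natCast_zmod_val _
  have hdD : (d : ZMod p) = ((g⁻¹ : (ZMod p)ˣ) : ZMod p) := ZMod.natCast_zmod_val _
  have hcd : (c : ZMod p) * (d : ZMod p) = 1 := by rw [hcC, hdD, Units.mul_inv]
  have hcd' : c * d ≡ 1 [MOD p] := by
    rw [← ZMod.natCast_eq_natCast_iff]
    push_cast
    exact hcd
  obtain ⟨τ, hτx, hτz⟩ := hτ c d hcd'
  obtain ⟨y, hy, hy2⟩ := h.exists_gen
  obtain ⟨b, hb⟩ := h.exists_b τ hy hy2
  obtain ⟨hbc, hcm⟩ := h.b_eq hcd hτx hτz hy hy2 hb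
  rw [hcC] at hcm
  have hdvd := hord m hcm
  have hmp : m = p - 1 := by
    obtain ⟨k, hk⟩ := hdvd
    have hk0 : k ≠ 0 := by rintro rfl; omega
    by_contra hne
    have hk1 : k ≠ 1 := by rintro rfl; omega
    have hk2 : 2 ≤ k := by omega
    have h1 : (p - 1) * 2 ≤ m := by rw [hk]; exact Nat.mul_le_mul_left _ hk2
    obtain ⟨r, hr⟩ := hodd
    omega
  have hp7 : 7 ≤ p := by omega
  have hC0 : (c : ZMod p) ≠ 0 := by
    intro h0; rw [h0, zero_mul] at hcd; exact zero_ne_one hcd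
  have hcd2 : (c : ZMod p) ≠ (d : ZMod p) := by
    intro hh
    rw [← hh, hcC, ← pow_two] at hcd
    have := Nat.le_of_dvd (by omega) (hord 2 hcd)
    omega
  -- the exponent of `M`
  have h2e : ∀ a ∈ chain G 2, a ^ p = 1 := by
    intro a ha
    have h1 := pow_mem h.isChain (by omega) h.unif (i := 2) le_rfl ha
    rw [h.mc.bot_of_le (by omega)] at h1
    exact Subgroup.mem_bot.1 h1
  have hye : y ^ p = 1 := by
    by_contra hne
    have hyZ : y ^ p ∈ Z := h.pow y hy
    have h1 : τ (y ^ p) = (y ^ p) ^ b := by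
      rw [map_pow]
      have e1 : τ y = y ^ b * ((y ^ b)⁻¹ * τ y) := by group
      rw [e1, h.mul_pow _ (Subgroup.zpow_mem _ hy b) _ (h.two_le_M hb), h2e _ hb, mul_one,
        ← zpow_natCast, ← zpow_natCast, ← zpow_mul, ← zpow_mul, mul_comm]
    rw [hτz _ hyZ, ← zpow_natCast] at h1
    have h2 := cast_eq_of_zpow_eq (h.zpow_p hyZ) hne h1
    rw [Int.cast_natCast, hbc] at h2
    exact hcd2 h2.symm
  have hMe : ∀ a ∈ M, a ^ p = 1 := by
    intro a ha
    have ha1 : a ∈ chain G 1 := by rw [h.one_eq]; exact ha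
    have hy1 : y ∈ chain G 1 := by rw [h.one_eq]; exact hy
    obtain ⟨k, hk⟩ := h.mc.exists_zpow (i := 1) (by omega) hy1 hy2 ha1
    have e1 : a = y ^ k * ((y ^ k)⁻¹ * a) := by group
    rw [e1, h.mul_pow _ (Subgroup.zpow_mem _ hy k) _ (h.two_le_M hk), h2e _ hk, mul_one,
      ← zpow_natCast, ← zpow_mul, mul_comm, zpow_mul, zpow_natCast, hye, one_zpow]
  refine ⟨hmp, hp7, fun s => ?_⟩
  by_cases hsM : s ∈ M
  · exact hMe s hsM
  -- `τ` acts as the `c`-th power on `G / G'`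
  have hA : ∀ s : G, (s ^ c)⁻¹ * τ s ∈ chain G 2 := by
    have hn2 := h.mc.normal 2
    set q : G →* G ⧸ chain G 2 := QuotientGroup.mk' (chain G 2) with hq
    have hq1 : ∀ a, q a = 1 ↔ a ∈ chain G 2 := fun a => QuotientGroup.eq_one_iff a
    have hqc : ∀ a b : G, Commute (q a) (q b) := by
      intro a b
      rw [← commutatorElement_eq_one_iff_commute, ← map_commutatorElement, hq1, ← h.mc.comm_top]
      exact Subgroup.commutator_mem_commutator (Subgroup.mem_top _) (Subgroup.mem_top _)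
    let f1 : G →* G ⧸ chain G 2 := q.comp τ.toMonoidHom
    let f2 : G →* G ⧸ chain G 2 :=
      { toFun := fun a => q a ^ c
        map_one' := by rw [map_one, one_pow]
        map_mul' := fun a b => by rw [map_mul, (hqc a b).mul_pow] }
    have hf : ∀ a, f1 a = f2 a ↔ (a ^ c)⁻¹ * τ a ∈ chain G 2 := by
      intro a
      rw [← hq1, map_mul, map_inv, map_pow, inv_mul_eq_one]
      exact eq_comm
    have hle : M ≤ MonoidHom.eqLocus f1 f2 := by
      intro a ha
      show f1 a = f2 a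
      have ha1 : a ∈ chain G 1 := by rw [h.one_eq]; exact ha
      have h1 := h.tau_step hτx hy hy2 hb 1 le_rfl (by omega) a ha1
      rw [Nat.sub_self, pow_zero, mul_one, show 1 + 1 = 2 from rfl, ← hq1, map_mul, map_inv,
        inv_mul_eq_one, map_zpow] at h1
      show q (τ a) = q a ^ c
      rw [← h1, ← zpow_natCast]
      have h2 : orderOf (q a) ∣ p := by
        rw [orderOf_dvd_iff_pow_eq_one, ← map_pow, hMe a ha, map_one]
      rw [zpow_eq_zpow_iff_modEq]
      have h3 : b ≡ (c : ℤ) [ZMOD p] := by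
        rw [← ZMod.intCast_eq_intCast_iff]
        rw [hbc, Int.cast_natCast]
      exact h3.of_dvd (Int.natCast_dvd_natCast.2 h2)
    have htop : MonoidHom.eqLocus f1 f2 = ⊤ := by
      refine h.coatom.2 _ (lt_of_le_of_ne hle (fun hh => h.not_mem ?_))
      rw [hh]
      show f1 x = f2 x
      rw [hf, hτx, inv_mul_cancel]
      exact one_mem _
    intro s
    rw [← hf]
    have : s ∈ MonoidHom.eqLocus f1 f2 := by rw [htop]; exact Subgroup.mem_top s
    exact this
  -- the `p`-th power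
  have hspM : s ^ p ∈ M := by
    have hn := h.normalM
    have h1 : Nat.card (G ⧸ M) = p := by rw [← Subgroup.index_eq_card, h.index]
    rw [← QuotientGroup.eq_one_iff, QuotientGroup.mk_pow, ← h1]
    exact pow_card_eq_one'
  have hscM : s ^ c ∉ M := by
    intro hh
    apply hsM
    have h1 : (s ^ c) ^ d ∈ M := pow_mem hh d
    rw [← pow_mul] at h1
    have h2 : (c * d) % p = 1 := by
      have := hcd'
      unfold Nat.ModEq at this
      rw [this, Nat.mod_eq_of_lt (by omega)]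
    have h3 : c * d = p * (c * d / p) + 1 := by
      have := Nat.div_add_mod (c * d) p
      omega
    rw [h3, pow_succ, pow_mul] at h1
    exact (Subgroup.mul_mem_cancel_left _ (pow_mem hspM _)).1 h1
  set t := s ^ p with ht
  have htm : t ∈ chain G (m - 2) := h.mem_of_commute hsM hspM (by rw [ht, ← pow_succ, ← pow_succ'])
  obtain ⟨g0, hg0⟩ := h.exists_pow_conj hscM (hA s)
  rw [mul_inv_cancel_left, ← pow_mul, mul_comm c p, pow_mul, ← ht, ← map_pow, ← ht] at hg0
  -- `t ∈ Z`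
  have htZ : t ∈ Z := by
    by_contra htZ
    have hn := h.mc.normal (m - 1)
    rw [← h.last_eq] at htZ
    set q : G →* G ⧸ chain G (m - 1) := QuotientGroup.mk' (chain G (m - 1)) with hq
    have hq1 : ∀ a, q a = 1 ↔ a ∈ chain G (m - 1) := fun a => QuotientGroup.eq_one_iff a
    have hcomm : Commute (q t) (q g0) := by
      rw [← commutatorElement_eq_one_iff_commute, ← map_commutatorElement, hq1]
      have := h.mc.comm_mem (x := g0) htm
      rwa [show m - 2 + 1 = m - 1 by omega] at this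
    have h1 := h.tau_step hτx hy hy2 hb (m - 2) (by omega) (by omega) t htm
    rw [show m - 2 - 1 = m - 3 by omega, show m - 2 + 1 = m - 1 by omega, ← hq1, map_mul, map_inv,
      inv_mul_eq_one, map_zpow] at h1
    have h2 : q (τ t) = q t ^ (c : ℤ) := by
      rw [hg0, map_mul, map_mul, map_inv, map_pow, zpow_natCast]
      have := (hcomm.pow_left c).eq
      rw [← this, mul_inv_cancel_right]
    rw [h2] at h1
    have h3 : (q t) ^ p = 1 := by rw [← map_pow, hMe t hspM, map_one]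
    have h4 : q t ≠ 1 := fun hh => htZ ((hq1 _).1 hh)
    have h5 := cast_eq_of_zpow_eq h3 h4 h1
    push_cast at h5
    rw [hbc] at h5
    have h6 : (c : ZMod p) ^ (m - 3) = 1 := by
      have : (c : ZMod p) * (c : ZMod p) ^ (m - 3) = (c : ZMod p) * 1 := by rw [h5, mul_one]
      exact mul_left_cancel₀ hC0 this
    rw [hcC] at h6
    obtain ⟨k, hk⟩ := hord _ h6
    have hk0 : k ≠ 0 := by rintro rfl; omega
    have : (p - 1) * 1 ≤ (p - 1) * k := Nat.mul_le_mul_left _ (by omega)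
    omega
  by_contra hne
  have h1 : τ t = t ^ (c : ℤ) := by
    rw [hg0, zpow_natCast]
    have h2 : Commute t g0 := h.cent t htZ g0
    have := (h2.pow_left c).eq
    rw [← this, mul_inv_cancel_right]
  rw [hτz t htZ, ← zpow_natCast] at h1
  have h2 := cast_eq_of_zpow_eq (h.zpow_p htZ) hne h1
  push_cast at h2
  exact hcd2 h2.symm

end Sit

end Cfsg.Agent.H779.PearlFinal
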